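import Cfsg.Agent.H923.Ten.A7Kill
import Cfsg.Agent.H637.A7Main

/-!
# Cores with socle `A₇` in dimension ten (helper923)
-/

set_option autoImplicit false
set_option linter.unusedSectionVars false

namespace Cfsg.Agent.H923.Ten.A7

open Module Matrix Cfsg Cfsg.Geo
open Cfsg.Agent.LieClassical.GUOrder Cfsg.Agent.H915.LD

universe u

variable {F : Type u} [Field F] [Fintype F]

theorem exists_equiv (p : ℕ) [Fact p.Prime] [CharP F p] {P : Subgroup (GL (Fin 10) F)} (hC : Core P) (hSD : ¬ SD P)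
    (e : Soc P ≃* alternatingGroup (Fin 7)) : (2 : F) ≠ 0 ∧ (7 : F) ≠ 0 ∧ Nonempty (A ≃* P) := by
  have hp : p.Prime := Fact.out
  obtain ⟨h1, h7, -⟩ := (H637.A7Main.coprime_three p hC e (by rw [Fintype.card_fin]; norm_num)).resolve_left hSD
  have h2 : p ≠ 2 := by
    rcases h1 with h1 | h1
    · rw [Fintype.card_fin] at h1; omega
    · exact h1.2
  have n2 : (2 : F) ≠ 0 := by
    intro h0
    have h3 := (CharP.cast_eq_zero_iff F p 2).1 (by exact_mod_cast h0)
    exact h2 ((Nat.prime_dvd_prime_iff_eq hp Nat.prime_two).1 h3)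
  have n7 : (7 : F) ≠ 0 := by
    intro h0
    have h3 := (CharP.cast_eq_zero_iff F p 7).1 (by exact_mod_cast h0)
    exact h7 ((Nat.prime_dvd_prime_iff_eq hp (by norm_num)).1 h3)
  refine ⟨n2, n7, ?_⟩
  have hZ : ∀ g ∈ P, g ∈ scalars (Fin 10) F → g * g = 1 := by
    intro g hg hs
    have h1 := hC.card_scalars_dvd e (S2116.result 7 (Or.inr rfl))
    rw [show Nat.card (Multiplicative (ZMod 6)) = 6 from Nat.card_zmod 6] at h1
    have hz : (⟨g, hg⟩ : P) ∈ (scalars (Fin 10) F).subgroupOf P := hs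
    have h2 : (⟨g, hg⟩ : P) ^ 6 = 1 := by
      have h4 : (⟨⟨g, hg⟩, hz⟩ : (scalars (Fin 10) F).subgroupOf P) ^ Nat.card ((scalars (Fin 10) F).subgroupOf P) = 1 :=
        pow_card_eq_one'
      have h5 : (⟨g, hg⟩ : P) ^ Nat.card ((scalars (Fin 10) F).subgroupOf P) = 1 := congrArg Subtype.val h4
      obtain ⟨m, hm⟩ := h1
      rw [hm, pow_mul, h5, one_pow]
    have h4 := hC.pow_card hz
    have h5 : orderOf (⟨g, hg⟩ : P) ∣ 2 := by
      have h6 := Nat.dvd_gcd (orderOf_dvd_of_pow_eq_one h2) (orderOf_dvd_of_pow_eq_one h4)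
      rwa [Fintype.card_fin] at h6
    have h6 := orderOf_dvd_iff_pow_eq_one.1 h5
    rw [pow_two] at h6
    exact congrArg Subtype.val h6
  have hbot := (H637.A7Main.ten_scalars p hC e hZ (Fintype.card_fin 10)).resolve_left hSD
  exact ⟨(((QuotientGroup.quotientMulEquivOfEq hbot).trans QuotientGroup.quotientBot).symm.trans e).symm⟩

/-- **A core with socle `A₇` is not that of a maximal subgroup of `SL₁₀`.** -/
theorem ten_sl (p : ℕ) [Fact p.Prime] [CharP F p] {H P : Subgroup (GL (Fin 10) F)} (hcore : IsResidualCore H P)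
    (hSD : ¬ SD P) (e : Soc P ≃* alternatingGroup (Fin 7)) : ¬ IsMaximalIn (specialLinear (Fin 10) F) H := by
  obtain ⟨n2, n7, ⟨e'⟩⟩ := exists_equiv p (core_of_residual hcore) hSD e
  exact kill_sl hcore e' n2 n7

/-- **A core with socle `A₇` is not that of a maximal subgroup of `SU₁₀`.** -/
theorem ten_su (p : ℕ) [Fact p.Prime] [CharP F p] {q : ℕ} (hF : Fintype.card F = q ^ 2)
    {H P : Subgroup (GL (Fin 10) F)} (hcore : IsResidualCore H P)
    (hSD : ¬ SD P) (e : Soc P ≃* alternatingGroup (Fin 7)) :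
    ¬ IsMaximalIn (Cfsg.GU 10 F q ⊓ specialLinear (Fin 10) F) H := by
  obtain ⟨n2, n7, ⟨e'⟩⟩ := exists_equiv p (core_of_residual hcore) hSD e
  exact kill_su hF hcore e' n2 n7

end Cfsg.Agent.H923.Ten.A7
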