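import Cfsg.Agent.H887.DS.SixFive
import Cfsg.Agent.H887.DS.SixTen
import Cfsg.Agent.H887.DS.Low
import Cfsg.Agent.H905.MdP
import Cfsg.Agent.H218.SdDC
import Cfsg.Agent.H927.LDTwF4

/-!
# Dimension ten: defining characteristic (helper923)
-/

set_option autoImplicit false
set_option linter.unusedSectionVars false
set_option linter.style.haveILetI false

namespace Cfsg.Agent.H923.Ten.Asm

open Cfsg Cfsg.Geo Matrix
open H915.LD (Core Soc tr SD Fr Cj)

universe u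

variable {F : Type u} [Field F] [Fintype F] {P : Subgroup (GL (Fin 10) F)} (p : ℕ) [hp : Fact p.Prime] [hFp : CharP F p]

/-- the possibilities in the defining characteristic -/
def Dc10 (p : ℕ) (P : Subgroup (GL (Fin 10) F)) : Prop :=
  P = specialLinear (Fin 10) F ∨
  (∃ (K : Type) (_ : Field K) (_ : Fintype K) (m : ℕ), Nonempty (Soc P ≃* ProjectiveSpecialLinearGroup (Fin m) K) ∧
    Nat.card K = Nat.card F ∧ (∀ k, ¬ Cj P (p ^ k)) ∧ ((m = 3 ∧ 5 ≤ p) ∨ (m = 4 ∧ 3 ≤ p) ∨ m = 5)) ∨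
  (∃ (K : Type) (_ : Field K) (_ : Fintype K) (_ : CharP K p) (N q : ℕ),
    Fintype.card K = q ^ 2 ∧ 3 ≤ N ∧ N ≤ 11 ∧ ¬ (N = 3 ∧ q = 2) ∧ Nonempty (Soc P ≃* PSU N K q) ∧ Cj P q)

include hFp hp in
theorem dc (hC : Core P) (hsd : ¬ SD P) (h : IsLieTypeChar p (Soc P)) : Dc10 p P := by
  have hs := hC.simple
  have h10 : Fintype.card (Fin 10) = 10 := by simp
  haveI : Nonempty (Fin 10) := ⟨0⟩
  have h2p := hp.out.two_le
  rcases H218.SdDC.sd_dc p hC (by simp) h with h1 | ⟨K, i1, i2, i3, l, hl, h4, ⟨e⟩⟩ |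
    ⟨K, i1, i2, i3, N, q, hK, hN, hN9, h32, ⟨e⟩⟩ | ⟨-, h2, h3⟩
  · exact (hsd h1).elim
  · rcases (show l = 1 ∨ 2 ≤ l by omega) with rfl | hl2
    · exact (hsd fun g hg => H905.Md.psl_two p hC.absIrred hC.perfect (h4 rfl) e hg).elim
    · have h5 := H905.Md.psl_rank p hC.absIrred hC.perfect hl h4 e
      rw [h10] at h5
      rcases (show l + 1 = 10 ∨ l + 1 < 10 by omega) with h6 | h6
      · exact Or.inl (H905.Md.psl_eq p hC.absIrred hC.perfect hl h4 e hC.no_subfield h6.symm).2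
      · have h7 := H887.DS.dim_cases p hC (m := l + 1) (by omega) (by rw [h10]; exact h6) (by rw [h10]; norm_num) e
        rw [h10] at h7
        have h8 : l = 2 ∨ l = 3 ∨ l = 4 := by omega
        rcases h8 with rfl | rfl | rfl
        · rcases H887.DS.field3 p hC e (Or.inr h10) with h9 | ⟨-, h9, h10', h11⟩
          · exact (hsd h9).elim
          · exact Or.inr (Or.inl ⟨K, i1, i2, 3, ⟨e⟩, h10', h11, Or.inl ⟨rfl, h9 h10⟩⟩)
        · obtain ⟨h9, h10', h11⟩ := H887.DS.field4 p hC e h10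
          exact Or.inr (Or.inl ⟨K, i1, i2, 4, ⟨e⟩, h10', h11, Or.inr (Or.inl ⟨rfl, h9⟩)⟩)
        · obtain ⟨h10', h11⟩ := H887.DS.ten5 p hC e h10
          exact Or.inr (Or.inl ⟨K, i1, i2, 5, ⟨e⟩, h10', h11, Or.inr (Or.inr rfl)⟩)
  · rw [h10] at hN9
    refine Or.inr (Or.inr ⟨K, i1, i2, i3, N, q, hK, hN, by omega, h32, ⟨e⟩, fun g hg => ?_⟩)
    exact ((H905.Md.psu_both p hC.absIrred hC.perfect hN hK h32 e hg).2).symm
  · have h4 := H927.LDTwF4.card_le_iso h2 hC.perfect h3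
    rw [h10] at h4
    omega

end Cfsg.Agent.H923.Ten.Asm
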