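import Cfsg.Agent.H923.Ten.U42Kill

/-!
# Cores with socle `PSp₄(3)` in dimension ten (helper923)
-/

set_option autoImplicit false
set_option linter.unusedSectionVars false

namespace Cfsg.Agent.H923.Ten.U42

open Module Matrix Cfsg Cfsg.Geo Cfsg.Agent.H659.Sp4 Cfsg.Agent.H659.SevenU42 Cfsg.Agent.H659.Ac
open Cfsg.Agent.LieClassical.GUOrder Cfsg.Agent.H915.LD

universe u

variable {F : Type u} [Field F] [Fintype F]

theorem exists_cov (p : ℕ) [hp : Fact p.Prime] [CharP F p] (hp2 : p ≠ 2) (hp3 : p ≠ 3)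
    {P : Subgroup (GL (Fin 10) F)} (hC : Core P) {k : Type*} [Field k] [Fintype k] (hk : Fintype.card k = 3)
    (e : Soc P ≃* PSp 2 k) : (2 : F) ≠ 0 ∧ (3 : F) ≠ 0 ∧ (∀ x ∈ P, x ∈ scalars (Fin 10) F → x = 1) ∧
      ∃ φ : Sp →* GL (Fin 10) F, Cov P φ := by
  have hne : ∀ q : ℕ, q.Prime → q ≠ p → (q : F) ≠ 0 := by
    intro q hq hqp h0
    rw [CharP.cast_eq_zero_iff F p] at h0
    exact hqp ((Nat.prime_dvd_prime_iff_eq hp.out hq).1 h0).symm
  have h2 : (2 : F) ≠ 0 := by exact_mod_cast hne 2 Nat.prime_two (Ne.symm hp2)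
  have h3 : (3 : F) ≠ 0 := by exact_mod_cast hne 3 Nat.prime_three (Ne.symm hp3)
  have hbot : (scalars (Fin 10) F).subgroupOf P = ⊥ := by
    rcases u42_stage hC p hp2 hp3 (by rw [Fintype.card_fin]; norm_num) hk e with h | h | h
    · rw [Fintype.card_fin] at h; omega
    · exact h.2.1
    · exact h.2.1
  have hb : ∀ x ∈ P, x ∈ scalars (Fin 10) F → x = 1 := by
    intro x hx hs
    have h1 : (⟨x, hx⟩ : P) ∈ (scalars (Fin 10) F).subgroupOf P := hs
    rw [hbot, Subgroup.mem_bot] at h1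
    exact congrArg Subtype.val h1
  refine ⟨h2, h3, hb, ?_⟩
  let e0 : ZMod 3 ≃+* k := ZMod.ringEquivOfPrime k Nat.prime_three hk
  let E : Soc P ≃* PSp 2 (ZMod 3) := e.trans (Cfsg.Agent.LieClassical.FieldTransfer.pspCongr 2 e0).symm
  let π : P →* PSp 2 (ZMod 3) := E.toMonoidHom.comp (toSoc P)
  have hπ : Function.Surjective π := E.surjective.comp (toSoc_surjective P)
  have hker : π.ker = (scalars (Fin 10) F).subgroupOf P := ker_comp E
  have hkc : π.ker ≤ Subgroup.center P := by rw [hker]; exact scalars_le_center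
  obtain ⟨φ, hφ, hφπ⟩ := H95.StemCover.exists_cover_of_trivial
    (H62.SpMult.perfect_Sp (F := ZMod 3) (m := 2) le_rfl (fun _ => le_refl 3))
    (H62.SpMult.hasTrivial_Sp (F := ZMod 3) (m := 2) le_rfl (fun _ => le_refl 3) (by decide))
    (QuotientGroup.mk' (Subgroup.center Sp)) (QuotientGroup.mk'_surjective _) (by rw [QuotientGroup.ker_mk'])
    hC.commutator_top π hπ hkc
  have hφc : ∀ w, φ w = 1 → w = 1 ∨ w = negG := by
    intro w hw
    have h4 := hφπ w
    rw [hw, map_one] at h4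
    exact center_sp ((QuotientGroup.eq_one_iff w).1 h4.symm)
  refine ⟨P.subtype.comp φ, ?_, ?_, ?_⟩
  · ext g
    constructor
    · rintro ⟨w, rfl⟩
      exact (φ w).2
    · intro hg
      obtain ⟨w, hw⟩ := hφ ⟨g, hg⟩
      exact ⟨w, congrArg Subtype.val hw⟩
  · apply hb _ (φ negG).2
    have h4 : φ negG ∈ (scalars (Fin 10) F).subgroupOf P := by
      rw [← hker, MonoidHom.mem_ker, hφπ]
      refine (QuotientGroup.eq_one_iff negG).2 ?_
      rw [Subgroup.mem_center_iff]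
      intro g
      apply Subtype.ext
      change g.1 * negG.1 = negG.1 * g.1
      rw [negG_val, mul_neg, neg_mul, mul_one, one_mul]
    exact h4
  · intro w hw
    exact hφc w (Subtype.ext hw)

/-- **A core with socle `PSp₄(3)` is not that of a maximal subgroup of `SL₁₀`.** -/
theorem ten_sl (p : ℕ) [Fact p.Prime] [CharP F p] (hp2 : p ≠ 2) (hp3 : p ≠ 3) {H P : Subgroup (GL (Fin 10) F)}
    (hcore : IsResidualCore H P) {k : Type*} [Field k] [Fintype k] (hk : Fintype.card k = 3)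
    (e : Soc P ≃* PSp 2 k) : ¬ IsMaximalIn (specialLinear (Fin 10) F) H := by
  obtain ⟨h2, h3, hb, φ, hφ⟩ := exists_cov p hp2 hp3 (core_of_residual hcore) hk e
  exact kill_sl hcore hφ hb h2 h3

/-- **A core with socle `PSp₄(3)` is not that of a maximal subgroup of `SU₁₀`.** -/
theorem ten_su (p : ℕ) [Fact p.Prime] [CharP F p] (hp2 : p ≠ 2) (hp3 : p ≠ 3) {q : ℕ} (hF : Fintype.card F = q ^ 2)
    {H P : Subgroup (GL (Fin 10) F)}
    (hcore : IsResidualCore H P) {k : Type*} [Field k] [Fintype k] (hk : Fintype.card k = 3)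
    (e : Soc P ≃* PSp 2 k) : ¬ IsMaximalIn (Cfsg.GU 10 F q ⊓ specialLinear (Fin 10) F) H := by
  obtain ⟨h2, h3, hb, φ, hφ⟩ := exists_cov p hp2 hp3 (core_of_residual hcore) hk e
  exact kill_su hF hcore hφ hb h2 h3

theorem ten_sl' (p : ℕ) [Fact p.Prime] [CharP F p] (hp2 : p ≠ 2) (hp3 : p ≠ 3) {H P : Subgroup (GL (Fin 10) F)}
    (hcore : IsResidualCore H P) {k : Type*} [Field k] [Fintype k] (hk : Fintype.card k = 4)
    (e : Soc P ≃* PSU 4 k 2) : ¬ IsMaximalIn (specialLinear (Fin 10) F) H := by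
  obtain ⟨e4⟩ := Cfsg.Agent.S0822.result (F := k) (K := ZMod 3) hk rfl
  exact ten_sl p hp2 hp3 hcore (k := ZMod 3) rfl (e.trans e4)

theorem ten_su' (p : ℕ) [Fact p.Prime] [CharP F p] (hp2 : p ≠ 2) (hp3 : p ≠ 3) {q : ℕ} (hF : Fintype.card F = q ^ 2)
    {H P : Subgroup (GL (Fin 10) F)}
    (hcore : IsResidualCore H P) {k : Type*} [Field k] [Fintype k] (hk : Fintype.card k = 4)
    (e : Soc P ≃* PSU 4 k 2) : ¬ IsMaximalIn (Cfsg.GU 10 F q ⊓ specialLinear (Fin 10) F) H := by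
  obtain ⟨e4⟩ := Cfsg.Agent.S0822.result (F := k) (K := ZMod 3) hk rfl
  exact ten_su p hp2 hp3 hF hcore (k := ZMod 3) rfl (e.trans e4)

end Cfsg.Agent.H923.Ten.U42
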