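import Cfsg.Agent.H923.Ten.AsmCross
import Cfsg.Agent.H923.Ten.AsmDC
import Cfsg.Agent.H923.Ten.A7Ten
import Cfsg.Agent.H923.Ten.U42Ten
import Cfsg.Agent.H840.L34.Kill
import Cfsg.Agent.H840.M11.K3
import Cfsg.Agent.H840.M11.KU
import Cfsg.Agent.H920.NineBase
import Cfsg.Agent.H48.NatSUEq
import Cfsg.Agent.H929.UThreeMain
import Cfsg.Agent.H876.D3.Main
import Cfsg.Agent.H887.D3.Fields5

/-!
# Dimension ten: assembly of the linear and the unitary row (helper923)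
-/

set_option autoImplicit false
set_option linter.unusedSectionVars false
set_option linter.style.haveILetI false

namespace Cfsg.Agent.H923.Ten.Asm

open Cfsg Cfsg.Geo Matrix
open H915.LD (Core Soc tr SD Fr Cj linear_core unitary_core not_fr_of_card q_eq_of_fr q_eq_of_cj)

universe u

variable {F : Type u} [Field F] [Fintype F] {H P : Subgroup (GL (Fin 10) F)}

theorem seven_ne {p : ℕ} [hp : Fact p.Prime] [CharP F p] (h : p ≠ 7) : (7 : F) ≠ 0 := by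
  intro h0
  have h1 : ((7 : ℕ) : F) = 0 := by exact_mod_cast h0
  rw [CharP.cast_eq_zero_iff F p] at h1
  exact h ((Nat.prime_dvd_prime_iff_eq hp.out (by norm_num)).1 h1)

theorem m11_two (hC : Core P) (p : ℕ) [hp : Fact p.Prime] [CharP F p] (hsd : ¬ SD P) (h : Spor.IsoM11 (Soc P)) : p ≠ 2 := by
  rcases H6.M11.m11 hC p h (by simp) with h1 | ⟨-, h1, -⟩ | ⟨-, ⟨h1, -⟩ | ⟨h1, -⟩⟩
  · exact (hsd h1).elim
  all_goals omega

theorem m11_sl (p : ℕ) [hp : Fact p.Prime] [CharP F p] (hR : IsResidualCore H P) (hC : Core P) (hsd : ¬ SD P)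
    (h : Spor.IsoM11 (Soc P)) (hH : IsMaximalIn (specialLinear (Fin 10) F) H) : False :=
  H840.M11.kill_linear hH hR h (two_ne (m11_two hC p hsd h)) hsd

theorem m11_su (p : ℕ) [hp : Fact p.Prime] [CharP F p] {q : ℕ} (hF : Fintype.card F = q ^ 2) (hR : IsResidualCore H P)
    (hC : Core P) (hsd : ¬ SD P)
    (h : Spor.IsoM11 (Soc P)) (hH : IsMaximalIn (Cfsg.GU 10 F q ⊓ specialLinear (Fin 10) F) H) : False :=
  H840.M11.kill_unitary hF hH hR h (two_ne (m11_two hC p hsd h)) hsd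

/-- **The linear row.** -/
theorem lin (hk : ∀ P : Subgroup (GL (Fin 10) F), Core P → IsKnownSimple' (Soc P))
    (H : Subgroup (GL (Fin 10) F)) (hH : IsMaximalIn (specialLinear (Fin 10) F) H) (hS : InLinearResidualClass H) :
    ∃ (P : Subgroup (GL (Fin 10) F)) (p : ℕ), IsResidualCore H P ∧ p.Prime ∧ CharP F p ∧
    ((Nonempty (Soc P ≃* ProjectiveSpecialLinearGroup (Fin 2) (ZMod 19)) ∧ Fintype.card F = p ∧
      (p % 19 = 1 ∨ p % 19 = 4 ∨ p % 19 = 5 ∨ p % 19 = 6 ∨ p % 19 = 7 ∨ p % 19 = 9 ∨ p % 19 = 11 ∨ p % 19 = 16 ∨ p % 19 = 17)) ∨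
     (Cfsg.Spor.IsoM12 (Soc P) ∧ Fintype.card F = p ∧ (p % 8 = 1 ∨ p % 8 = 3)) ∨
     (Cfsg.Spor.IsoM22 (Soc P) ∧ Fintype.card F = p ∧
      (p = 2 ∨ p % 28 = 1 ∨ p % 28 = 9 ∨ p % 28 = 25 ∨ p % 28 = 11 ∨ p % 28 = 15 ∨ p % 28 = 23)) ∨
     (Nonempty (Soc P ≃* ProjectiveSpecialLinearGroup (Fin 3) F) ∧ 5 ≤ p) ∨
     (Nonempty (Soc P ≃* ProjectiveSpecialLinearGroup (Fin 4) F) ∧ 3 ≤ p) ∨
     Nonempty (Soc P ≃* ProjectiveSpecialLinearGroup (Fin 5) F)) := by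
  obtain ⟨p, hFp⟩ := CharP.exists F
  have hpp := CharP.char_is_prime F p
  haveI hp : Fact p.Prime := ⟨hpp⟩
  obtain ⟨P, hR, hC, hsd, hcj⟩ := linear_core hS
  have hcj1 : ¬ Cj P p := by
    have := hcj p hp hFp 1
    rwa [pow_one] at this
  refine ⟨P, p, hR, hpp, hFp, ?_⟩
  by_cases hL : IsLieTypeChar p (Soc P)
  · rcases dc p hC hsd hL with h | ⟨K, i1, i2, m, ⟨e⟩, hKF, -, h⟩ | ⟨K, i1, i2, i3, N, q, hK, -, -, -, -, h⟩
    · exact absurd (h ▸ hR.le) (not_le_of_gt hH.1)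
    · have hKF' : Fintype.card K = Fintype.card F := by
        rwa [Nat.card_eq_fintype_card, Nat.card_eq_fintype_card] at hKF
      have e' := e.trans (LieClassical.SmallIso.pslCongr (Fin m) (FiniteField.ringEquivOfCardEq hKF'))
      rcases h with ⟨rfl, h5⟩ | ⟨rfl, h3⟩ | rfl
      · exact Or.inr (Or.inr (Or.inr (Or.inl ⟨⟨e'⟩, h5⟩)))
      · exact Or.inr (Or.inr (Or.inr (Or.inr (Or.inl ⟨⟨e'⟩, h3⟩))))
      · exact Or.inr (Or.inr (Or.inr (Or.inr (Or.inr ⟨e'⟩))))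
    · exfalso
      obtain ⟨k, rfl⟩ := H920.Nine.exists_q_pow (F := K) p hK
      exact hcj p hp hFp k h
  · rcases cross p hC hsd (hk P hC) hL with ⟨h19, K, i1, i2, hK, ⟨e⟩⟩ | ⟨⟨e⟩⟩ | ⟨h2, h3, K, i1, i2, hK, ⟨e⟩⟩ |
      ⟨h2, h7, K, i1, i2, hK, ⟨e⟩⟩ | h | ⟨h, h' | h'⟩ | ⟨h, h' | h'⟩
    · rcases (H464.Sl2.l2_19_10 p hC hK h19 e (by simp)).2.2 with ⟨h1, h2⟩ | ⟨-, h1, -⟩
      · exact Or.inl ⟨H912.Five.psl_zmod (by norm_num) ⟨K, i1, i2, hK, ⟨e⟩⟩, h1, h2⟩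
      · exact (hcj1 h1).elim
    · exact (A7.ten_sl p hR hsd e hH).elim
    · exact (U42.ten_sl' p h2 h3 hR hK e hH).elim
    · exact (H840.L34.kill_linear hH hR hK e (two_ne h2) (seven_ne h7)).elim
    · exact (m11_sl p hR hC hsd h hH).elim
    · exact Or.inr (Or.inl ⟨h, hC.card_eq p h'.2, h'.1⟩)
    · exact (hcj1 h'.2).elim
    · exact Or.inr (Or.inr (Or.inl ⟨h, hC.card_eq p h'.2, h'.1⟩))
    · exact (hcj1 h'.2).elim

/-- **The unitary row.** -/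
theorem uni (hk : ∀ P : Subgroup (GL (Fin 10) F), Core P → IsKnownSimple' (Soc P))
    (q : ℕ) (hF : Fintype.card F = q ^ 2)
    (H : Subgroup (GL (Fin 10) F)) (hH : IsMaximalIn (Cfsg.GU 10 F q ⊓ specialLinear (Fin 10) F) H)
    (hS : InUnitaryResidualClass H) :
    ∃ (P : Subgroup (GL (Fin 10) F)) (p : ℕ), IsResidualCore H P ∧ p.Prime ∧ CharP F p ∧
    ((Nonempty (Soc P ≃* ProjectiveSpecialLinearGroup (Fin 2) (ZMod 19)) ∧ q = p ∧ p ≠ 2 ∧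
      (p % 19 = 2 ∨ p % 19 = 3 ∨ p % 19 = 8 ∨ p % 19 = 10 ∨ p % 19 = 12 ∨ p % 19 = 13 ∨ p % 19 = 14 ∨ p % 19 = 15 ∨ p % 19 = 18)) ∨
     (Cfsg.Spor.IsoM12 (Soc P) ∧ q = p ∧ (p % 8 = 5 ∨ p % 8 = 7)) ∨
     (Cfsg.Spor.IsoM22 (Soc P) ∧ q = p ∧
      (p % 28 = 5 ∨ p % 28 = 13 ∨ p % 28 = 17 ∨ p % 28 = 3 ∨ p % 28 = 19 ∨ p % 28 = 27)) ∨
     (Nonempty (Soc P ≃* Cfsg.PSU 3 F q) ∧ 5 ≤ p) ∨
     (Nonempty (Soc P ≃* Cfsg.PSU 4 F q) ∧ 3 ≤ p) ∨
     Nonempty (Soc P ≃* Cfsg.PSU 5 F q)) := by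
  obtain ⟨p, hFp⟩ := CharP.exists F
  have hpp := CharP.char_is_prime F p
  haveI hp : Fact p.Prime := ⟨hpp⟩
  obtain ⟨P, hR, hC, hsd⟩ := unitary_core hS
  have hPU : P ≤ Cfsg.GU 10 F q := fun g hg => (hH.1.le (hR.le hg)).1
  have hcjq : Cj P q := H920.Nine.cj_of_le_GU hF hPU
  have hnfr : ¬ Fr P p := not_fr_of_card hC p hF
  refine ⟨P, p, hR, hpp, hFp, ?_⟩
  by_cases hL : IsLieTypeChar p (Soc P)
  · rcases dc p hC hsd hL with h | ⟨K, i1, i2, m, -, -, h, -⟩ | ⟨K, i1, i2, i3, N, q₀, hK, hN3, hN10, h32, ⟨e⟩, h⟩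
    · exact absurd (le_trans inf_le_right (h ▸ hR.le)) (not_le_of_gt hH.1)
    · exfalso
      obtain ⟨k, rfl⟩ := H920.Nine.exists_q_pow (F := F) p hF
      exact h k hcjq
    · have hq2 := H48.NatSU.two_le_of_sq hK
      have fin : ∀ M : ℕ, (Soc P ≃* PSU M K q₀) → Fintype.card F = q₀ ^ 2 → Nonempty (Soc P ≃* PSU M F q) := by
        intro M e hc
        obtain rfl : q = q₀ := by
          rw [hF] at hc
          exact Nat.pow_left_injective (n := 2) (by norm_num) hc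
        exact ⟨e.trans (LieClassical.FieldTransfer.psuCongr M q (FiniteField.ringEquivOfCardEq (hK.trans hF.symm)))⟩
      have hN : N = 3 ∨ N = 4 ∨ N = 5 ∨ (6 ≤ N ∧ N ≠ 10) ∨ N = 10 := by omega
      rcases hN with rfl | rfl | rfl | hN | rfl
      · rcases H929.U3.core_psu3 p hC (by omega) hK e (by simp) with h1 | ⟨h1, h2⟩
        · exact (hsd h1).elim
        · rw [Fintype.card_fin] at h2
          exact Or.inr (Or.inr (Or.inr (Or.inl ⟨fin 3 e (by rwa [Nat.card_eq_fintype_card] at h1), by omega⟩)))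
      · have h1 := H876.D3.core_psu_four p K (by simp) hK hC e
        rw [Fintype.card_fin] at h1
        have h2p := hpp.two_le
        have h3 := (H887.D3.psu4_ten p K hK hC e (by simp)).1
        rw [Nat.card_eq_fintype_card] at h3
        exact Or.inr (Or.inr (Or.inr (Or.inr (Or.inl ⟨fin 4 e h3, by omega⟩))))
      · have h3 := (H887.D3.psu5_ten p K hK hC e (by simp)).1
        rw [Nat.card_eq_fintype_card] at h3
        exact Or.inr (Or.inr (Or.inr (Or.inr (Or.inr (fin 5 e h3)))))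
      · exfalso
        have h1 := H876.D3.core_psu_six p K hN.1 (by simp) hK hC e
        rw [Fintype.card_fin] at h1
        omega
      · exfalso
        have h1 := H48.NatSU.psu_eq hC p hF hPU hK (by norm_num) (by norm_num) e rfl
        exact absurd (h1.2 ▸ hR.le) (not_le_of_gt hH.1)
  · rcases cross p hC hsd (hk P hC) hL with ⟨h19, K, i1, i2, hK, ⟨e⟩⟩ | ⟨⟨e⟩⟩ | ⟨h2, h3, K, i1, i2, hK, ⟨e⟩⟩ |
      ⟨h2, h7, K, i1, i2, hK, ⟨e⟩⟩ | h | ⟨h, h' | h'⟩ | ⟨h, h' | h'⟩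
    · obtain ⟨⟨-, hp2⟩, -, h4⟩ := H464.Sl2.l2_19_10 p hC hK h19 e (by simp)
      rcases h4 with ⟨h1, -⟩ | ⟨-, h1, h2⟩
      · exfalso
        refine hnfr ?_
        intro g hg
        rw [← h1]
        exact FiniteField.pow_card _
      · exact Or.inl ⟨H912.Five.psl_zmod (by norm_num) ⟨K, i1, i2, hK, ⟨e⟩⟩, q_eq_of_cj hC p hF h1, hp2, h2⟩
    · exact (A7.ten_su p hF hR hsd e hH).elim
    · exact (U42.ten_su' p h2 h3 hF hR hK e hH).elim
    · exact (H840.L34.kill_unitary hF hH hR hK e (two_ne h2) (seven_ne h7)).elim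
    · exact (m11_su p hF hR hC hsd h hH).elim
    · exact (hnfr h'.2).elim
    · exact Or.inr (Or.inl ⟨h, q_eq_of_cj hC p hF h'.2, h'.1⟩)
    · exact (hnfr h'.2).elim
    · exact Or.inr (Or.inr (Or.inl ⟨h, q_eq_of_cj hC p hF h'.2, h'.1⟩))

end Cfsg.Agent.H923.Ten.Asm
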