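import Cfsg.Agent.H923.Ten.A7Tab
import Mathlib.NumberTheory.Zsqrtd.Basic

/-!
# Checks on the tables (helper923)
-/

set_option autoImplicit false
set_option maxRecDepth 20000

namespace Cfsg.Agent.H923.Ten.A7

/-- normal form from a quadruple -/
def nfq (q : Fin 4 × Fin 3 × Fin 3 × Fin 2) : A := nf q.1 q.2.1 q.2.2.1 q.2.2.2

theorem chk_c2 : ∀ t : Fin 35, (gT (pi_c2 t))⁻¹ * c2 = nfq (nl_c2 t) * (gT t)⁻¹ := by decide +kernel
theorem chk_g7 : ∀ t : Fin 35, (gT (pi_g7 t))⁻¹ * g7 = nfq (nl_g7 t) * (gT t)⁻¹ := by decide +kernel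
theorem inj_c2 : Function.Injective pi_c2 := by unfold Function.Injective; decide +kernel
theorem inj_g7 : Function.Injective pi_g7 := by unfold Function.Injective; decide +kernel
theorem chk_cl : ∀ t : Fin 35, (gT t)⁻¹ = nfq (cl1 t) * (rep (cls t) * nfq (cl2 t)) := by decide +kernel
theorem chk_r1 : r1 = nf 1 1 0 1 * (r1 * nf 1 0 0 0) := by decide

/-- the symmetric matrices -/
def Sm (t : Fin 35) (i j : Fin 4) : ℤ√(-7) :=
  let p := ((Sl.getD t []).getD i []).getD j (0, 0)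
  ⟨p.1, p.2⟩

def Mz (l : List (List (ℤ × ℤ))) (i j : Fin 4) : ℤ√(-7) :=
  let p := (l.getD i []).getD j (0, 0)
  ⟨p.1, p.2⟩

/-- product of matrices -/
def mul4 (a b : Fin 4 → Fin 4 → ℤ√(-7)) (i j : Fin 4) : ℤ√(-7) :=
  a i 0 * b 0 j + a i 1 * b 1 j + a i 2 * b 2 j + a i 3 * b 3 j

/-- sign -/
def sg (l : Fin 2) : ℤ := if l = 0 then 1 else -1

def sz (l : Fin 2) : ℤ√(-7) := ⟨sg l, 0⟩

theorem m_c2 : ∀ (t : Fin 35) (i j : Fin 4), mul4 (mul4 (Mz Ml_c2) (Sm t)) (fun a b => Mz Ml_c2 b a) i j =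
    ⟨-28, 0⟩ * (sz (nl_c2 t).2.2.2 * Sm (pi_c2 t) i j) := by decide +kernel
theorem m_g7 : ∀ (t : Fin 35) (i j : Fin 4), mul4 (mul4 (Mz Ml_g7) (Sm t)) (fun a b => Mz Ml_g7 b a) i j =
    ⟨-28, 0⟩ * (sz (nl_g7 t).2.2.2 * Sm (pi_g7 t) i j) := by decide +kernel

theorem u_c2 : ∀ i j : Fin 4, mul4 (Mz Ml_c2) (fun a b => star (Mz Ml_c2 b a)) i j = if i = j then ⟨28, 0⟩ else 0 := by
  decide +kernel
theorem u_g7 : ∀ i j : Fin 4, mul4 (Mz Ml_g7) (fun a b => star (Mz Ml_g7 b a)) i j = if i = j then ⟨28, 0⟩ else 0 := by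
  decide +kernel
theorem u_c2' : ∀ i j : Fin 4, mul4 (fun a b => star (Mz Ml_c2 b a)) (Mz Ml_c2) i j = if i = j then ⟨28, 0⟩ else 0 := by
  decide +kernel
theorem u_g7' : ∀ i j : Fin 4, mul4 (fun a b => star (Mz Ml_g7 b a)) (Mz Ml_g7) i j = if i = j then ⟨28, 0⟩ else 0 := by
  decide +kernel
theorem s_sym : ∀ (t : Fin 35) (i j : Fin 4), Sm t i j = Sm t j i := by decide +kernel

/-- four times the values of the spherical function -/
def cv (t : Fin 35) : ℤ√(-7) :=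
  sz (cl1 t).2.2.2 * (sz (cl2 t).2.2.2 * (![⟨4, 0⟩, ⟨-1, 0⟩, 0, ⟨0, -1⟩] (cls t)))

/-- list sum, for kernel evaluation -/
def tot : ℤ√(-7) := ((List.finRange 35).map fun t => cv t * Sm t 0 0).sum

theorem tot_eq : tot = ⟨56, 0⟩ := by decide +kernel

end Cfsg.Agent.H923.Ten.A7
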