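import Cfsg.Agent.H923.Ten.A7Wt

/-!
# Ten-dimensional modules of `A₇`: the fixed line of the four-group (helper923)
-/

set_option autoImplicit false
set_option linter.unusedSectionVars false

namespace Cfsg.Agent.H923.Ten.A7

open Module Equiv

universe u v

variable {F : Type u} {V : Type v} [Field F] [AddCommGroup V] [Module F V] [FiniteDimensional F V]
variable {ρ : A →* (V →ₗ[F] V)}

theorem b_triv {c : F} (hc : c ≠ 0) {U : Submodule F V} (hU : ∀ u ∈ U, ρ b u ∈ U)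
    (hw : ∀ u ∈ U, ρ w u = c • u) : ∀ u ∈ U, ρ b u = u := by
  intro u hu
  have h1 := rel ρ r_wb u
  rw [hw _ (hU u hu), hw u hu, map_smul] at h1
  have h2 := smul_right_injective V hc h1
  have h3 : ρ b (ρ b u) = u := by rw [h2, act_inv]
  have h4 := bbb (ρ := ρ) u
  rw [h3] at h4
  exact h4

theorem a_triv {c : F} (hc : c ≠ 0) {U : Submodule F V} (hU : ∀ u ∈ U, ρ a u ∈ U)
    (hU0 : U ≤ V0 ρ) (hw : ∀ u ∈ U, ρ w u = c • u) : ∀ u ∈ U, ρ a u = u := by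
  intro u hu
  have h1 := rel ρ r_wa u
  rw [hw _ (hU u hu), hw u hu, map_smul, ← act, s3_act, (mem_V0.1 (hU0 hu)).2, (mem_V0.1 (hU0 hu)).1] at h1
  have h2 := smul_right_injective V hc h1
  have h3 : ρ a (ρ a u) = u := by rw [h2, act_inv]
  have h4 := aaa (ρ := ρ) u
  rw [h3] at h4
  exact h4

theorem b_W2 {v : V} (h1 : ∀ u ∈ W1 ρ, ρ b u = u) (hv : v ∈ W2 ρ) : ρ b v = v := by
  have h2 : ρ a⁻¹ v ∈ W1 ρ := by rw [ai]; exact a_W3 (a_W2 hv)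
  have h3 : ρ a (ρ b (ρ a⁻¹ v)) = v := by rw [h1 _ h2, act_inv]
  rw [rel ρ r_ab, act_inv] at h3
  exact h3

theorem b_W3 {v : V} (h1 : ∀ u ∈ W1 ρ, ρ b u = u) (hv : v ∈ W3 ρ) : ρ b v = v := by
  have h2 : ρ a v ∈ W1 ρ := a_W3 hv
  have h3 : ρ b (ρ a v) = ρ a v := h1 _ h2
  rw [← rel ρ r_ab] at h3
  have h4 := congrArg (ρ a⁻¹) h3
  rwa [inv_act, inv_act] at h4

theorem decomp (h2 : (2 : F) ≠ 0) (v : V) :
    ∃ v0 ∈ V0 ρ, ∃ v1 ∈ W1 ρ, ∃ v2 ∈ W2 ρ, ∃ v3 ∈ W3 ρ, v = v0 + v1 + v2 + v3 := by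
  have i1 : ∀ u, ρ s1 (ρ s1 u) = u := invol _ r_11
  have i2 : ∀ u, ρ s2 (ρ s2 u) = u := invol _ r_22
  have i3 : ∀ u, ρ s1 (ρ s2 u) = ρ s2 (ρ s1 u) := fun u => rel ρ r_12 u
  have h4 : (4 : F) ≠ 0 := by
    have : (4 : F) = 2 * 2 := by norm_num
    rw [this]; exact mul_ne_zero h2 h2
  refine ⟨(4 : F)⁻¹ • (v + ρ s1 v + ρ s2 v + ρ s2 (ρ s1 v)), Submodule.smul_mem _ _ ?_,
    (4 : F)⁻¹ • (v + ρ s1 v - ρ s2 v - ρ s2 (ρ s1 v)), Submodule.smul_mem _ _ ?_,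
    (4 : F)⁻¹ • (v - ρ s1 v + ρ s2 v - ρ s2 (ρ s1 v)), Submodule.smul_mem _ _ ?_,
    (4 : F)⁻¹ • (v - ρ s1 v - ρ s2 v + ρ s2 (ρ s1 v)), Submodule.smul_mem _ _ ?_, ?_⟩
  · rw [mem_V0]
    constructor
    · rw [map_add, map_add, map_add, i1, i3, i3, i1]; abel
    · rw [map_add, map_add, map_add, i2, i2]; abel
  · rw [mem_W1]
    constructor
    · rw [map_sub, map_sub, map_add, i1, i3, i3, i1]; abel
    · rw [map_sub, map_sub, map_add, i2, i2]; abel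
  · rw [mem_W2]
    constructor
    · rw [map_sub, map_add, map_sub, i1, i3, i3, i1]; abel
    · rw [map_sub, map_add, map_sub, i2, i2]; abel
  · rw [mem_W3]
    constructor
    · rw [map_add, map_sub, map_sub, i1, i3, i3, i1]; abel
    · rw [map_add, map_sub, map_sub, i2, i2]; abel
  · rw [← smul_add, ← smul_add, ← smul_add]
    have h5 : v + ρ s1 v + ρ s2 v + ρ s2 (ρ s1 v) + (v + ρ s1 v - ρ s2 v - ρ s2 (ρ s1 v)) +
        (v - ρ s1 v + ρ s2 v - ρ s2 (ρ s1 v)) + (v - ρ s1 v - ρ s2 v + ρ s2 (ρ s1 v)) = (4 : F) • v := by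
      have : (4 : F) • v = v + v + v + v := by
        rw [show (4 : F) = 1 + 1 + 1 + 1 by norm_num, add_smul, add_smul, add_smul, one_smul]
      rw [this]; abel
    rw [h5, smul_smul, inv_mul_cancel₀ h4, one_smul]

theorem indep (h2 : (2 : F) ≠ 0) {v0 v1 v2 v3 : V} (h0 : v0 ∈ V0 ρ) (h1 : v1 ∈ W1 ρ) (h2' : v2 ∈ W2 ρ)
    (h3 : v3 ∈ W3 ρ) (h : v0 + v1 + v2 + v3 = 0) : v0 = 0 ∧ v1 = 0 ∧ v2 = 0 ∧ v3 = 0 := by
  rw [mem_V0] at h0
  rw [mem_W1] at h1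
  rw [mem_W2] at h2'
  rw [mem_W3] at h3
  have key : ∀ x : V, x + x = 0 → x = 0 := by
    intro x hx
    rw [← two_smul F] at hx
    exact (smul_eq_zero.1 hx).resolve_left h2
  have e1 := congrArg (ρ s1) h
  rw [map_add, map_add, map_add, h0.1, h1.1, h2'.1, h3.1, map_zero] at e1
  have e2 := congrArg (ρ s2) h
  rw [map_add, map_add, map_add, h0.2, h1.2, h2'.2, h3.2, map_zero] at e2
  have e3 : v0 + v1 = 0 := key _ (by
    have : v0 + v1 + (v0 + v1) = (v0 + v1 + v2 + v3) + (v0 + v1 + -v2 + -v3) := by abel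
    rw [this, h, e1, add_zero])
  have e4 : v0 + v2 = 0 := key _ (by
    have : v0 + v2 + (v0 + v2) = (v0 + v1 + v2 + v3) + (v0 + -v1 + v2 + -v3) := by abel
    rw [this, h, e2, add_zero])
  have e5 : v0 + v3 = 0 := by
    have e6 : v2 + v3 = 0 := by
      have : v2 + v3 = (v0 + v1 + v2 + v3) - (v0 + v1) := by abel
      rw [this, h, e3, sub_zero]
    have e7 := congrArg (ρ s1) e4
    rw [map_add, h0.1, h2'.1, map_zero] at e7
    have e8 : v0 = 0 := key _ (by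
      have : v0 + v0 = (v0 + v2) + (v0 + -v2) := by abel
      rw [this, e4, e7, add_zero])
    rw [e8, zero_add] at e4
    rw [e4, zero_add] at e6
    rw [e8, e6, add_zero]
  have e7 := congrArg (ρ s1) e4
  rw [map_add, h0.1, h2'.1, map_zero] at e7
  have e8 : v0 = 0 := key _ (by
    have : v0 + v0 = (v0 + v2) + (v0 + -v2) := by abel
    rw [this, e4, e7, add_zero])
  rw [e8, zero_add] at e3 e4 e5
  exact ⟨e8, e3, e4, e5⟩

/-- the conclusion of the first step -/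
def Good (ρ : A →* (V →ₗ[F] V)) (v : V) : Prop :=
  v ≠ 0 ∧ ρ s1 v = v ∧ ρ s2 v = v ∧ ρ a v = v ∧ ρ b v = v ∧ ρ w v = -v ∧
    ∀ u, ρ s1 u = u → ρ s2 u = u → ∃ c : F, u = c • v

namespace Irr

variable (h : Irr ρ)

include h

theorem case3 (n1 n2 n3 n4 : ℕ) (hm : finrank F (W1 ρ) = 3) (h0 : finrank F (V0 ρ) = 1)
    (e1 : finrank F ↥(V0 ρ ⊓ Fx (ρ w)) = n1) (e2 : finrank F ↥(V0 ρ ⊓ Ng (ρ w)) = n2)
    (e3 : finrank F ↥(W1 ρ ⊓ Fx (ρ w)) = n3) (e4 : finrank F ↥(W1 ρ ⊓ Ng (ρ w)) = n4)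
    (e5 : n1 + n2 = 1) (e6 : n3 + n4 = 3) (e7 : n2 + n4 = 3) : ∃ v, Good ρ v := by
  have key : n2 = 1 := by
    by_contra hn2
    have hn4 : n4 = 3 := by omega
    have hn1 : n1 = 1 := by omega
    have h1 : W1 ρ ⊓ Ng (ρ w) = W1 ρ := Submodule.eq_of_le_of_finrank_eq inf_le_left (by rw [e4, hm, hn4])
    have h2 : V0 ρ ⊓ Fx (ρ w) = V0 ρ := Submodule.eq_of_le_of_finrank_eq inf_le_left (by rw [e1, h0, hn1])
    have h3 : ∀ u ∈ W1 ρ, ρ b u = u := b_triv (c := -1) (neg_ne_zero.2 one_ne_zero) (fun u hu => b_W1 hu)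
      (fun u hu => by
        rw [neg_smul, one_smul]
        rw [← h1] at hu
        exact mem_Ng.1 hu.2)
    have h4 : ∀ u ∈ V0 ρ, ρ b u = u := b_triv (c := 1) one_ne_zero (fun u hu => b_V0 hu)
      (fun u hu => by
        rw [one_smul]
        rw [← h2] at hu
        exact mem_Fx.1 hu.2)
    apply h.b_nontriv
    intro v
    obtain ⟨v0, hv0, v1, hv1, v2, hv2, v3, hv3, rfl⟩ := decomp (ρ := ρ) h.two v
    rw [map_add, map_add, map_add, h4 _ hv0, h3 _ hv1, b_W2 h3 hv2, b_W3 h3 hv3]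
  have h2 : V0 ρ ⊓ Ng (ρ w) = V0 ρ := Submodule.eq_of_le_of_finrank_eq inf_le_left (by rw [e2, h0, key])
  have hw : ∀ u ∈ V0 ρ, ρ w u = (-1 : F) • u := fun u hu => by
    rw [neg_smul, one_smul]
    rw [← h2] at hu
    exact mem_Ng.1 hu.2
  obtain ⟨v, hv0, hv⟩ := finrank_eq_one_iff'.1 h0
  refine ⟨v, fun h5 => hv0 (Subtype.ext h5), (mem_V0.1 v.2).1, (mem_V0.1 v.2).2,
    a_triv (neg_ne_zero.2 one_ne_zero) (fun u hu => a_V0 hu) le_rfl hw v v.2,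
    b_triv (neg_ne_zero.2 one_ne_zero) (fun u hu => b_V0 hu) hw v v.2, ?_, fun u hu1 hu2 => ?_⟩
  · rw [hw v v.2, neg_smul, one_smul]
  · obtain ⟨c, hc⟩ := hv ⟨u, mem_V0.2 ⟨hu1, hu2⟩⟩
    exact ⟨c, (congrArg Subtype.val hc).symm⟩

end Irr

end Cfsg.Agent.H923.Ten.A7
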