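import Cfsg.Agent.H923.Ten.A7Sym
import Cfsg.Agent.S0277

/-!
# `A₇` in dimension ten is never maximal (helper923)
-/

set_option autoImplicit false
set_option linter.unusedSectionVars false
set_option maxRecDepth 20000

namespace Cfsg.Agent.H923.Ten

open Module Matrix Cfsg Cfsg.Geo
open Cfsg.Agent.LieClassical.GUOrder

universe u

section gen

variable {F : Type u} [Field F]

theorem two_le_rank {n : ℕ} {X : Matrix (Fin n) (Fin n) F} (f g : Fin 2 → Fin n)
    (h : (X.submatrix f g).det ≠ 0) : 2 ≤ X.rank := by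
  have h1 := Matrix.rank_of_det_ne_zero h
  have h2 := Matrix.rank_submatrix_le X f g
  rw [h1] at h2
  simpa using h2

/-- an element of norm `d` -/
theorem exists_norm [Fintype F] {q : ℕ} (hF : Fintype.card F = q ^ 2) {d : F} (hd0 : d ≠ 0)
    (hd : frob hF d = d) : ∃ α : F, α ≠ 0 ∧ α * frob hF α = d := by
  have hq : 1 < q := two_le hF
  obtain ⟨g, hg⟩ := IsCyclic.exists_generator (α := Fˣ)
  have hS : (q + 1) * (q - 1) = q ^ 2 - 1 := by
    obtain ⟨m, rfl⟩ : ∃ m, q = m + 1 := ⟨q - 1, by omega⟩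
    rw [Nat.add_sub_cancel]
    apply Nat.eq_sub_of_add_eq
    ring
  have hord : orderOf g = (q + 1) * (q - 1) := by
    rw [orderOf_eq_card_of_forall_mem_zpowers hg, Nat.card_units, Nat.card_eq_fintype_card, hF, hS]
  obtain ⟨a, ha⟩ := (mem_powers_iff_mem_zpowers.2 (hg (Units.mk0 d hd0)) : Units.mk0 d hd0 ∈ Submonoid.powers g)
  have ha' : g ^ a = Units.mk0 d hd0 := ha
  have h1 : (Units.mk0 d hd0) ^ (q - 1) = 1 := by
    apply Units.ext
    rw [Units.val_pow_eq_pow_val, Units.val_mk0, Units.val_one]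
    have h2 : d ^ (q - 1) * d = 1 * d := by
      rw [← pow_succ, Nat.sub_add_cancel hq.le, ← frob_apply hF, hd, one_mul]
    exact mul_right_cancel₀ hd0 h2
  rw [← ha', ← pow_mul] at h1
  have h2 := orderOf_dvd_of_pow_eq_one h1
  rw [hord] at h2
  obtain ⟨b, hb⟩ := Nat.dvd_of_mul_dvd_mul_right (by omega) h2
  refine ⟨((g ^ b : Fˣ) : F), Units.ne_zero _, ?_⟩
  have h3 : (g ^ b) ^ (q + 1) = Units.mk0 d hd0 := by
    rw [← pow_mul, ← ha', hb, mul_comm]
  have := congrArg (Units.val) h3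
  rw [Units.val_pow_eq_pow_val, Units.val_mk0, pow_succ'] at this
  rw [frob_apply]
  exact this

end gen

namespace A7

variable {F : Type u} [Field F]

section facts

variable {P : Subgroup (GL (Fin 10) F)} {e : A ≃* P} {v : Fin 10 → F} {ξ : (Fin 10 → F) →ₗ[F] F} {lam : F}

theorem ne_28 (h2 : (2 : F) ≠ 0) (h7 : (7 : F) ≠ 0) : (28 : F) ≠ 0 := by
  have : (28 : F) = 2 * 2 * 7 := by norm_num
  rw [this]; exact mul_ne_zero (mul_ne_zero h2 h2) h7

theorem lam_ne (h : Sph (rp e) v ξ lam) (h7 : (7 : F) ≠ 0) : -lam ≠ 0 := by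
  intro h0
  have h1 := h.sq
  have h2 : lam = 0 := neg_eq_zero.1 h0
  rw [h2] at h1
  apply h7
  linear_combination h1

theorem Phi_sym (r : F) (hr : r * r = ((-7 : ℤ) : F)) (u : Fin 10 → F) : (Phi (rp e) ξ r hr u)ᵀ = Phi (rp e) ξ r hr u := by
  rw [Phi_apply, Matrix.transpose_sum]
  refine Finset.sum_congr rfl fun t _ => ?_
  rw [Matrix.transpose_smul, MF_transpose]
  congr 2
  funext i j
  exact s_sym t j i

theorem Phi_inj (h : Sph (rp e) v ξ lam) (h7 : (7 : F) ≠ 0)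
    (hP : ∀ g : A, ∃ G : GL (Fin 4) F, ∀ u, Phi (rp e) ξ (-lam) h.lam_mul (rp e g u) =
      (G : Matrix (Fin 4) (Fin 4) F) * Phi (rp e) ξ (-lam) h.lam_mul u * (G : Matrix (Fin 4) (Fin 4) F)ᵀ) :
    Function.Injective (Phi (rp e) ξ (-lam) h.lam_mul) := by
  rw [← LinearMap.ker_eq_bot]
  rcases h.irr.irr (LinearMap.ker (Phi (rp e) ξ (-lam) h.lam_mul)) (by
    intro g u hu
    obtain ⟨G, hG⟩ := hP g
    rw [LinearMap.mem_ker] at hu ⊢
    rw [hG, hu, Matrix.mul_zero, Matrix.zero_mul]) with h1 | h1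
  · exact h1
  · exfalso
    have h2 := h.Phi_v
    have h3 : Phi (rp e) ξ (-lam) h.lam_mul v = 0 := by
      rw [← LinearMap.mem_ker, h1]; trivial
    rw [h3, Matrix.zero_apply, mul_zero] at h2
    have h4 : (56 : F) = 2 * 28 := by norm_num
    rw [h4] at h2
    exact mul_ne_zero h.irr.two (ne_28 h.irr.two h7) h2.symm

theorem mdl (h : Sph (rp e) v ξ lam) (h7 : (7 : F) ≠ 0)
    (hP : ∀ g : A, ∃ G : GL (Fin 4) F, ∀ u, Phi (rp e) ξ (-lam) h.lam_mul (rp e g u) =
      (G : Matrix (Fin 4) (Fin 4) F) * Phi (rp e) ξ (-lam) h.lam_mul u * (G : Matrix (Fin 4) (Fin 4) F)ᵀ) :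
    Mdl (Phi (rp e) ξ (-lam) h.lam_mul) where
  inj := Phi_inj h h7 hP
  cl := by
    intro G u
    apply sym_surj (Phi_inj h h7 hP) (Phi_sym _ _)
    rw [Matrix.transpose_mul, Matrix.transpose_mul, Matrix.transpose_transpose, Phi_sym, Matrix.mul_assoc]

theorem scal (h : Sph (rp e) v ξ lam) (h7 : (7 : F) ≠ 0)
    (hP : ∀ g : A, ∃ G : GL (Fin 4) F, ∀ u, Phi (rp e) ξ (-lam) h.lam_mul (rp e g u) =
      (G : Matrix (Fin 4) (Fin 4) F) * Phi (rp e) ξ (-lam) h.lam_mul u * (G : Matrix (Fin 4) (Fin 4) F)ᵀ)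
    (G : GL (Fin 4) F) (c : F) (hG : ∀ v, (G : Matrix (Fin 4) (Fin 4) F) * Phi (rp e) ξ (-lam) h.lam_mul v *
      (G : Matrix (Fin 4) (Fin 4) F)ᵀ = c • Phi (rp e) ξ (-lam) h.lam_mul v) : G ∈ scalars (Fin 4) F := by
  apply sym_scalar (c := c)
  intro X hX
  obtain ⟨u, rfl⟩ := sym_surj (Phi_inj h h7 hP) (Phi_sym _ _) hX
  exact hG u

end facts

theorem card_aut {P : Subgroup (GL (Fin 10) F)} (e : A ≃* P) : Nat.card (MulAut P) = 5040 := by
  rw [← Nat.card_congr (MulAut.congr e).toEquiv,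
    ← Nat.card_congr (Equiv.ofBijective _ (S2119.result 7 (by norm_num) (by norm_num))),
    Nat.card_eq_fintype_card, Fintype.card_perm, Fintype.card_fin]
  rfl

theorem card_scalars_le {ι : Type} [Fintype ι] [DecidableEq ι] [Fintype F] :
    Nat.card (scalars ι F) ≤ Fintype.card F - 1 := by
  classical
  have h1 : Nat.card (scalars ι F) ≤ Nat.card Fˣ :=
    Nat.card_le_card_of_surjective _ (MonoidHom.rangeRestrict_surjective (Units.map
      (Matrix.scalar ι : F →+* Matrix ι ι F).toMonoidHom))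
  rwa [Nat.card_units, Nat.card_eq_fintype_card (α := F)] at h1

/-- **`A₇` is not maximal in `SL₁₀`.** -/
theorem kill_sl [Fintype F] {H P : Subgroup (GL (Fin 10) F)} (hcore : IsResidualCore H P) (e : A ≃* P)
    (h2 : (2 : F) ≠ 0) (h7 : (7 : F) ≠ 0) : ¬ IsMaximalIn (specialLinear (Fin 10) F) H := by
  obtain ⟨v, ξ, lam, h⟩ := (rp_irr e h2 hcore.absIrred).exists_sph
  have hP : ∀ g : A, ∃ G : GL (Fin 4) F, ∀ u, Phi (rp e) ξ (-lam) h.lam_mul (rp e g u) =
      (G : Matrix (Fin 4) (Fin 4) F) * Phi (rp e) ξ (-lam) h.lam_mul u * (G : Matrix (Fin 4) (Fin 4) F)ᵀ := by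
    intro g
    obtain ⟨G, -, hG⟩ := exists_G h h.lam_mul (lam_ne h h7) h2 (ne_28 h2 h7) ⊤ trivial trivial g
    exact ⟨G, hG⟩
  have hsur : ∀ X : Matrix (Fin 4) (Fin 4) F, Xᵀ = X → ∃ u, Phi (rp e) ξ (-lam) h.lam_mul u = X :=
    fun X hX => sym_surj (Phi_inj h h7 hP) (Phi_sym _ _) hX
  refine not_max_sl (Φ := Phi (rp e) ξ (-lam) h.lam_mul) (r := 1) (mdl h h7 hP) (scal h h7 hP) hcore ?_ ?_ ?_ ?_
  · intro g hg
    obtain ⟨G, hG⟩ := hP (e.symm ⟨g, hg⟩)
    refine ⟨G, fun u => ?_⟩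
    have h1 := hG u
    rwa [rp_apply, MulEquiv.apply_symm_apply] at h1
  · intro t ht
    refine eq_mul e h h7 hcore.absIrred t fun x => ⟨fun hx => hcore.normal t ht x hx, fun hx => ?_⟩
    have h1 := hcore.normal t⁻¹ (inv_mem ht) _ hx
    have h3 : t⁻¹ * (t * x * t⁻¹) * t⁻¹⁻¹ = x := by group
    rwa [h3] at h1
  · have hq : 3 ≤ Fintype.card F := by
      by_contra hlt
      have h1 : 1 < Fintype.card F := Fintype.one_lt_card
      have h3 : Fintype.card F = 2 := by omega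
      have h4 : ((Fintype.card F : ℕ) : F) = 0 := FiniteField.cast_card_eq_zero F
      rw [h3] at h4
      exact h2 (by exact_mod_cast h4)
    rw [card_aut e, Matrix.card_GL_field]
    set q := Fintype.card F with hqdef
    have h1 : Nat.card (scalars (Fin 4) F) ≤ q - 1 := card_scalars_le
    obtain ⟨a, ha⟩ : ∃ a, a = q ^ 3 * (q - 1) := ⟨_, rfl⟩
    have ha1 : 27 * (q - 1) ≤ a := by
      rw [ha]
      exact Nat.mul_le_mul_right _ (Nat.pow_le_pow_left hq 3)
    have ha2 : ∀ i : Fin 4, a ≤ q ^ 4 - q ^ (i : ℕ) := by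
      intro i
      have h5 : q ^ (i : ℕ) ≤ q ^ 3 := Nat.pow_le_pow_right (by omega) (by omega)
      have h6 : a = q ^ 4 - q ^ 3 := by
        rw [ha, Nat.mul_sub, mul_one]; rfl
      omega
    have h3 : a ^ 4 ≤ ∏ i : Fin 4, (q ^ 4 - q ^ (i : ℕ)) := by
      have := Finset.prod_le_prod' (s := Finset.univ) (fun i _ => ha2 i)
      rwa [Finset.prod_const, Finset.card_univ, Fintype.card_fin] at this
    have h4 : 54 ≤ a := by omega
    have h5 : 54 ^ 3 * a ≤ a ^ 4 := by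
      have : 54 ^ 3 * a ≤ a ^ 3 * a := Nat.mul_le_mul_right _ (Nat.pow_le_pow_left h4 3)
      calc 54 ^ 3 * a ≤ a ^ 3 * a := this
        _ = a ^ 4 := by ring
    have h6 : 5040 * Nat.card (scalars (Fin 4) F) ≤ 5040 * (q - 1) := Nat.mul_le_mul_left _ h1
    have h7' : 5040 * (q - 1) < 54 ^ 3 * a := by omega
    omega
  · obtain ⟨d, hd⟩ := hsur (Matrix.single 0 0 1) (by rw [Matrix.transpose_single])
    obtain ⟨x, hx⟩ := hsur (Matrix.single 0 0 1 + Matrix.single 1 1 1) (by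
      rw [Matrix.transpose_add, Matrix.transpose_single, Matrix.transpose_single])
    refine ⟨d, x, ?_, ?_, ?_, ?_⟩
    · rintro rfl
      rw [map_zero] at hd
      have := congrFun (congrFun hd 0) 0
      simp at this
    · rintro rfl
      rw [map_zero] at hx
      have := congrFun (congrFun hx 0) 0
      simp at this
    · rw [hd, show (Matrix.single 0 0 1 : Matrix (Fin 4) (Fin 4) F) =
        Matrix.vecMulVec (Pi.single 0 1) (Pi.single 0 1) by
          rw [Matrix.single_eq_single_vecMulVec_single]]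
      exact Matrix.rank_vecMulVec_le _ _
    · rw [hx]
      apply two_le_rank ![0, 1] ![0, 1]
      rw [Matrix.det_fin_two]
      simp

section unitary

variable [Fintype F] {q : ℕ} {P : Subgroup (GL (Fin 10) F)} {e : A ≃* P} {v : Fin 10 → F}
  {ξ : (Fin 10 → F) →ₗ[F] F} {lam : F}

theorem frob_lam (hF : Fintype.card F = q ^ 2) (h : Sph (rp e) v ξ lam) (hPU : P ≤ Cfsg.GU 10 F q) :
    frob hF lam = -lam := by
  have hinv : ∀ (g : A) x y, hermForm 10 F q (rp e g x) (rp e g y) = hermForm 10 F q x y := by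
    intro g x y
    rw [rp_apply, rp_apply]
    exact (mem_GU_iff _).1 (hPU (e g).2) x y
  have hadj : ∀ (g g' : A) (_ : g * g' = 1) x y, hermForm 10 F q (rp e g x) y = hermForm 10 F q x (rp e g' y) := by
    intro g g' hg x y
    rw [← hinv g x, act, hg, act1]
  have a1 := hadj s1 s1 (by decide)
  have a2 := hadj s2 s2 (by decide)
  have a3' := hadj s3 s3 (by decide)
  have hes : ∀ x y, hermForm 10 F q (es (rp e) x) y = hermForm 10 F q x (es (rp e) y) := by
    intro x y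
    rw [es, es, herm_add_left hF, herm_add_left hF, herm_add_left hF, herm_add_right hF, herm_add_right hF,
      herm_add_right hF, a1, a2, a3']
  have hv4 : es (rp e) v = (4 : F) • v := by
    have h1 := h.nfv 1 0 0 0
    have h2 := h.nfv 2 0 0 0
    have h3 := h.nfv 3 0 0 0
    rw [show nf 1 0 0 0 = s1 by decide, show (-1 : F) ^ ((0 : Fin 2) : ℕ) = 1 from pow_zero _, one_smul] at h1
    rw [show nf 2 0 0 0 = s2 by decide, show (-1 : F) ^ ((0 : Fin 2) : ℕ) = 1 from pow_zero _, one_smul] at h2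
    rw [show nf 3 0 0 0 = s3 by decide, show (-1 : F) ^ ((0 : Fin 2) : ℕ) = 1 from pow_zero _, one_smul] at h3
    rw [es, h1, h2, h3, show (4 : F) = 1 + 1 + 1 + 1 by norm_num, add_smul, add_smul, add_smul, one_smul]
  have f4 : frob hF (4 : F) = 4 := map_ofNat _ _
  have key : ∀ u κ, es (rp e) u = κ • v → 4 * hermForm 10 F q u v = κ * hermForm 10 F q v v := by
    intro u κ hκ
    rw [← herm_smul_left hF κ v v, ← hκ, hes, hv4, herm_smul_right hF, f4]
  set n := hermForm 10 F q v v with hn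
  have hn0 : n ≠ 0 := by
    intro h0
    apply h.good.1
    have h1 : ∀ u, hermForm 10 F q v u = 0 := by
      intro u
      obtain ⟨κ, hκ⟩ := h.good.es_eq u
      have h2 := key u κ hκ
      rw [h0, mul_zero] at h2
      rw [← frob_herm hF u v, (mul_eq_zero.1 h2).resolve_left h.four, map_zero]
    funext j
    rw [← herm_single hF v j, h1]
    rfl
  have fn : frob hF n = n := frob_herm hF v v
  have e1 := key _ lam h.hlam
  set g0 : A := e2 0 5 5 1 * e2 1 4 2 6 with hg0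
  have e2' : frob hF (hermForm 10 F q (rp e g0 v) v) = -hermForm 10 F q (rp e g0 v) v := by
    rw [frob_herm hF, ← hadj g0⁻¹ g0 (inv_mul_cancel _), h.good.rel1 (g := g0⁻¹) (g' := g0) 0 0 0 (by rw [hg0]; decide),
      ← neg_one_smul F, herm_smul_left hF, neg_one_mul]
  have e3 := congrArg (frob hF) e1
  rw [RingHom.map_mul (frob hF), RingHom.map_mul (frob hF), f4, fn, e2'] at e3
  have e4 : (frob hF lam + lam) * n = 0 := by linear_combination -e3 - e1
  exact eq_neg_of_add_eq_zero_left ((mul_eq_zero.1 e4).resolve_right hn0)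

theorem gG_mem (hF : Fintype.card F = q ^ 2) {r : F} (hfr : frob hF r = -r)
    (hr : r * r = ((-7 : ℤ) : F)) (h0 : r ≠ 0) (h2 : (2 : F) ≠ 0) (h28 : (28 : F) ≠ 0)
    {M : Fin 4 → Fin 4 → ℤ√(-7)}
    (hM : ∀ i j : Fin 4, mul4 M (fun a b => star (M b a)) i j = if i = j then ⟨28, 0⟩ else 0)
    (hM' : ∀ i j : Fin 4, mul4 (fun a b => star (M b a)) M i j = if i = j then ⟨28, 0⟩ else 0) :
    gG r hr h0 h2 h28 M hM hM' ∈ Cfsg.GU 4 F q := by
  rw [mem_GU_iff]
  apply (mul_map_eq_one_iff hF _).2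
  change ((2 * r)⁻¹ • MF r hr M)ᵀ * ((2 * r)⁻¹ • MF r hr M).map (frob hF) = 1
  have h3 : ((2 * r)⁻¹ • MF r hr M).map (frob hF) = (-(2 * r)⁻¹) • (MF r hr (fun a b => star (M b a)))ᵀ := by
    ext i j
    rw [Matrix.map_apply, Matrix.smul_apply, Matrix.smul_apply, Matrix.transpose_apply, smul_eq_mul, smul_eq_mul,
      map_mul, map_inv₀, map_mul, hfr, map_ofNat]
    have h4 : frob hF (MF r hr M i j) = MF r hr (fun a b => star (M b a)) j i := by
      change frob hF (ev r hr (M i j)) = ev r hr (star (M i j))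
      obtain ⟨a, b⟩ := M i j
      rw [Zsqrtd.star_mk, ev_apply, ev_apply, map_add, map_mul, map_intCast, map_intCast, hfr]
      push_cast; ring
    rw [h4, mul_neg, inv_neg]
  rw [h3, Matrix.transpose_smul, Matrix.smul_mul, Matrix.mul_smul, ← Matrix.transpose_mul, MF_mul, MF_28 hr hM',
    Matrix.transpose_smul, Matrix.transpose_one, smul_smul, smul_smul]
  have : (2 * r)⁻¹ * -(2 * r)⁻¹ * 28 = 1 := by
    have h3 : (28 : F) = -((2 * r) * (2 * r)) := by
      have : (2 * r) * (2 * r) = 4 * (r * r) := by ring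
      rw [this, hr]; push_cast; ring
    rw [h3]
    field_simp
  rw [this, one_smul]

/-- **`A₇` is not maximal in `SU₁₀`.** -/
theorem kill_su {H : Subgroup (GL (Fin 10) F)} (hF : Fintype.card F = q ^ 2) (hcore : IsResidualCore H P) (e : A ≃* P)
    (h2 : (2 : F) ≠ 0) (h7 : (7 : F) ≠ 0) : ¬ IsMaximalIn (Cfsg.GU 10 F q ⊓ specialLinear (Fin 10) F) H := by
  intro hmax
  have hPU : P ≤ Cfsg.GU 10 F q := hcore.le.trans (hmax.1.le.trans inf_le_left)
  obtain ⟨v, ξ, lam, h⟩ := (rp_irr e h2 hcore.absIrred).exists_sph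
  have hfr : frob hF (-lam) = - -lam := by rw [map_neg, frob_lam hF h hPU]
  have hPG : ∀ g : A, ∃ G ∈ Cfsg.GU 4 F q, ∀ u, Phi (rp e) ξ (-lam) h.lam_mul (rp e g u) =
      (G : Matrix (Fin 4) (Fin 4) F) * Phi (rp e) ξ (-lam) h.lam_mul u * (G : Matrix (Fin 4) (Fin 4) F)ᵀ :=
    fun g => exists_G h h.lam_mul (lam_ne h h7) h2 (ne_28 h2 h7) _ (gG_mem hF hfr _ _ _ _ _ _)
      (gG_mem hF hfr _ _ _ _ _ _) g
  have hP : ∀ g : A, ∃ G : GL (Fin 4) F, ∀ u, Phi (rp e) ξ (-lam) h.lam_mul (rp e g u) =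
      (G : Matrix (Fin 4) (Fin 4) F) * Phi (rp e) ξ (-lam) h.lam_mul u * (G : Matrix (Fin 4) (Fin 4) F)ᵀ := by
    intro g
    obtain ⟨G, -, hG⟩ := hPG g
    exact ⟨G, hG⟩
  have hsur : ∀ X : Matrix (Fin 4) (Fin 4) F, Xᵀ = X → ∃ u, Phi (rp e) ξ (-lam) h.lam_mul u = X :=
    fun X hX => sym_surj (Phi_inj h h7 hP) (Phi_sym _ _) hX
  refine not_max_su hF (Φ := Phi (rp e) ξ (-lam) h.lam_mul) (r := 1) (mdl h h7 hP) (scal h h7 hP) hcore ?_ ?_ ?_ ?_ hmax
  · intro g hg
    obtain ⟨G, hGU, hG⟩ := hPG (e.symm ⟨g, hg⟩)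
    refine ⟨G, hGU, fun u => ?_⟩
    have h1 := hG u
    rwa [rp_apply, MulEquiv.apply_symm_apply] at h1
  · intro t ht
    refine eq_mul e h h7 hcore.absIrred t fun x => ⟨fun hx => hcore.normal t ht x hx, fun hx => ?_⟩
    have h1 := hcore.normal t⁻¹ (inv_mem ht) _ hx
    have h3 : t⁻¹ * (t * x * t⁻¹) * t⁻¹⁻¹ = x := by group
    rwa [h3] at h1
  · have hq : 3 ≤ q := by
      have hq2 := two_le hF
      by_contra hlt
      have h3 : q = 2 := by omega
      have h4 : ((Fintype.card F : ℕ) : F) = 0 := FiniteField.cast_card_eq_zero F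
      rw [hF, h3] at h4
      have h5 : (2 : F) * 2 = 0 := by rw [← h4]; norm_num
      exact mul_ne_zero h2 h2 h5
    rw [card_aut e, S0277.result hF]
    have h1 : Nat.card (scalars (Fin 4) F) ≤ q ^ 2 - 1 := by
      rw [← hF]; exact card_scalars_le
    have h3 : ∏ i ∈ Finset.range 4, (if Even i then q ^ (i + 1) + 1 else q ^ (i + 1) - 1) =
        (q + 1) * (q ^ 2 - 1) * (q ^ 3 + 1) * (q ^ 4 - 1) := by
      simp [Finset.prod_range_succ, Nat.even_iff]
    rw [h3]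
    have h4 : 5040 * Nat.card (scalars (Fin 4) F) ≤ 5040 * (q ^ 2 - 1) := Nat.mul_le_mul_left _ h1
    refine lt_of_le_of_lt h4 ?_
    have h5 : 3 ^ 6 ≤ q ^ 6 := Nat.pow_le_pow_left hq 6
    have h6 : 3 ^ 2 ≤ q ^ 2 := Nat.pow_le_pow_left hq 2
    have h8 : 3 ^ 3 ≤ q ^ 3 := Nat.pow_le_pow_left hq 3
    have h9 : 3 ^ 4 ≤ q ^ 4 := Nat.pow_le_pow_left hq 4
    have h10 : q ^ (4 * (4 - 1) / 2) = q ^ 6 := rfl
    rw [h10]
    have h11 : 0 < q ^ 2 - 1 := by omega
    calc 5040 * (q ^ 2 - 1) < (3 ^ 6 * (4 * 28 * 80)) * (q ^ 2 - 1) := Nat.mul_lt_mul_of_pos_right (by norm_num) h11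
      _ ≤ (q ^ 6 * ((q + 1) * (q ^ 3 + 1) * (q ^ 4 - 1))) * (q ^ 2 - 1) := by
        apply Nat.mul_le_mul_right
        apply Nat.mul_le_mul h5
        apply Nat.mul_le_mul
        · apply Nat.mul_le_mul <;> omega
        · omega
      _ = q ^ 6 * ((q + 1) * (q ^ 2 - 1) * (q ^ 3 + 1) * (q ^ 4 - 1)) := by ring
  · obtain ⟨α, hα0, hα⟩ := exists_norm hF (d := (-1 : F)) (neg_ne_zero.2 one_ne_zero) (by rw [map_neg, map_one])
    have hone : frob hF (1 : F) = 1 := map_one _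
    obtain ⟨d, hd⟩ := hsur (Matrix.single 0 0 1) (by rw [Matrix.transpose_single])
    set w : Fin 4 → F := ![1, α, 0, 0] with hw
    obtain ⟨x, hx⟩ := hsur (Matrix.vecMulVec w w) (by
      ext i j; rw [Matrix.transpose_apply, Matrix.vecMulVec_apply, Matrix.vecMulVec_apply, mul_comm])
    refine ⟨d, x, ?_, ?_, ?_, ?_⟩
    · rw [hx]
      simp only [hh, Matrix.vecMulVec_apply, Fin.sum_univ_four, hw]
      simp [map_mul]
      linear_combination (1 + α * frob hF α) * hα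
    · rw [hx, hd]
      simp only [hh, Matrix.vecMulVec_apply, Fin.sum_univ_four, hw]
      simp
    · rw [hd, show (Matrix.single 0 0 1 : Matrix (Fin 4) (Fin 4) F) =
        Matrix.vecMulVec (Pi.single 0 1) (Pi.single 0 1) by
          rw [Matrix.single_eq_single_vecMulVec_single]]
      exact Matrix.rank_vecMulVec_le _ _
    · intro c hc
      rw [map_add, map_smul, hd, hx]
      apply two_le_rank ![0, 1] ![0, 1]
      rw [Matrix.det_fin_two]
      simp [hw]
      intro h0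
      apply hc
      have h5 : c * α ^ 2 = 0 := by linear_combination h0
      exact (mul_eq_zero.1 h5).resolve_right (pow_ne_zero 2 hα0)

end unitary

end A7

end Cfsg.Agent.H923.Ten
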