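import Cfsg.Agent.H923.Ten.A7Grp

/-!
# Linear algebra for the ten-dimensional modules of `A₇` (helper923)
-/

set_option autoImplicit false

namespace Cfsg.Agent.H923.Ten.A7

open Module

universe u v

section gen

variable {F : Type u} {V : Type v} [Field F] [AddCommGroup V] [Module F V]

/-- fixed space -/
def Fx (x : V →ₗ[F] V) : Submodule F V := LinearMap.ker (x - 1)
/-- negated space -/
def Ng (x : V →ₗ[F] V) : Submodule F V := LinearMap.ker (x + 1)

theorem mem_Fx {x : V →ₗ[F] V} {v : V} : v ∈ Fx x ↔ x v = v := by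
  rw [Fx, LinearMap.mem_ker, LinearMap.sub_apply, Module.End.one_apply, sub_eq_zero]

theorem mem_Ng {x : V →ₗ[F] V} {v : V} : v ∈ Ng x ↔ x v = -v := by
  rw [Ng, LinearMap.mem_ker, LinearMap.add_apply, Module.End.one_apply, add_eq_zero_iff_eq_neg]

variable [FiniteDimensional F V]

theorem rank_Fx (x : V →ₗ[F] V) :
    finrank F (LinearMap.range (x - 1)) + finrank F (Fx x) = finrank F V :=
  LinearMap.finrank_range_add_finrank_ker _

/-- Scott's lemma for two generators -/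
theorem scott (x y : V →ₗ[F] V) (h1 : ∀ v, x v = v → y v = v → v = 0)
    (h2 : LinearMap.range (x - 1) ⊔ LinearMap.range (y - 1) = ⊤) :
    finrank F (Fx x) + finrank F (Fx y) + finrank F (Fx (x * y)) ≤ finrank F V := by
  let f : Fx (x * y) →ₗ[F] V := (y - 1).comp (Fx (x * y)).subtype
  have hf : Function.Injective f := by
    rw [← LinearMap.ker_eq_bot, LinearMap.ker_eq_bot']
    rintro ⟨v, hv⟩ h
    have h3 : y v = v := sub_eq_zero.1 h
    have h4 : x (y v) = v := mem_Fx.1 hv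
    rw [h3] at h4
    exact Subtype.ext (h1 v h4 h3)
  have hr : LinearMap.range f ≤ LinearMap.range (x - 1) ⊓ LinearMap.range (y - 1) := by
    rintro _ ⟨⟨v, hv⟩, rfl⟩
    refine ⟨⟨-(y v), ?_⟩, ⟨v, rfl⟩⟩
    have h4 : x (y v) = v := mem_Fx.1 hv
    change x (-(y v)) - -(y v) = y v - v
    rw [map_neg, h4]
    abel
  have h5 := Submodule.finrank_mono hr
  rw [LinearMap.finrank_range_of_inj hf] at h5
  have h6 := Submodule.finrank_sup_add_finrank_inf_eq (LinearMap.range (x - 1)) (LinearMap.range (y - 1))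
  rw [h2, finrank_top] at h6
  have h7 := rank_Fx x
  have h8 := rank_Fx y
  omega

theorem three (x y z : V →ₗ[F] V) (h1 : ∀ v, x v = v → y v = v → z v = v → v = 0) :
    finrank F (Fx x) + finrank F (Fx y) + finrank F (Fx z) ≤ 2 * finrank F V := by
  have h2 := Submodule.finrank_sup_add_finrank_inf_eq (Fx x) (Fx y)
  have h3 := Submodule.finrank_sup_add_finrank_inf_eq (Fx x ⊓ Fx y) (Fx z)
  have h4 : Fx x ⊓ Fx y ⊓ Fx z = ⊥ := by
    rw [eq_bot_iff]
    rintro v ⟨⟨hx, hy⟩, hz⟩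
    exact h1 v (mem_Fx.1 hx) (mem_Fx.1 hy) (mem_Fx.1 hz)
  have h5 := Submodule.finrank_le (Fx x ⊔ Fx y)
  have h6 := Submodule.finrank_le (Fx x ⊓ Fx y ⊔ Fx z)
  rw [h4, finrank_bot] at h3
  omega

/-- an involution splits an invariant subspace -/
theorem split (h2 : (2 : F) ≠ 0) {x : V →ₗ[F] V} (U : Submodule F V) (hU : ∀ u ∈ U, x u ∈ U)
    (hx : ∀ u ∈ U, x (x u) = u) : finrank F ↥(U ⊓ Fx x) + finrank F ↥(U ⊓ Ng x) = finrank F U := by
  have h3 := Submodule.finrank_sup_add_finrank_inf_eq (U ⊓ Fx x) (U ⊓ Ng x)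
  have h4 : (U ⊓ Fx x) ⊓ (U ⊓ Ng x) = ⊥ := by
    rw [eq_bot_iff]
    rintro v ⟨⟨-, hx⟩, ⟨-, hy⟩⟩
    have h5 := (mem_Fx.1 hx).symm.trans (mem_Ng.1 hy)
    have h6 : (2 : F) • v = 0 := by
      rw [two_smul]
      nth_rewrite 1 [h5]
      exact neg_add_cancel v
    exact (smul_eq_zero.1 h6).resolve_left h2
  have h5 : (U ⊓ Fx x) ⊔ (U ⊓ Ng x) = U := by
    apply le_antisymm (sup_le inf_le_left inf_le_left)
    intro u hu
    have h6 : u = (2 : F)⁻¹ • (u + x u) + (2 : F)⁻¹ • (u - x u) := by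
      rw [← smul_add, add_add_sub_cancel, ← two_smul F u, smul_smul, inv_mul_cancel₀ h2, one_smul]
    rw [h6]
    refine Submodule.add_mem_sup ⟨U.smul_mem _ (U.add_mem hu (hU u hu)), ?_⟩
      ⟨U.smul_mem _ (U.sub_mem hu (hU u hu)), ?_⟩
    · refine mem_Fx.2 ?_
      rw [map_smul, map_add, hx u hu, add_comm]
    · refine mem_Ng.2 ?_
      rw [map_smul, map_sub, hx u hu, ← smul_neg, neg_sub]
  rw [h4, h5, finrank_bot] at h3
  omega

theorem finrank_eq_of_maps {U U' : Submodule F V} (x y : V →ₗ[F] V) (hxy : ∀ v, x (y v) = v)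
    (hyx : ∀ v, y (x v) = v)
    (h1 : ∀ u ∈ U, x u ∈ U') (h2 : ∀ u ∈ U', y u ∈ U) : finrank F U = finrank F U' := by
  refine LinearEquiv.finrank_eq (LinearEquiv.ofLinear (x.restrict h1) (y.restrict h2) ?_ ?_)
  · ext ⟨v, hv⟩
    exact hxy v
  · ext ⟨v, hv⟩
    exact hyx v

end gen

end Cfsg.Agent.H923.Ten.A7
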