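import Cfsg.Agent.H923.Ten.A7Lin

/-!
# Ten-dimensional modules of `A₇`: the four-group (helper923)
-/

set_option autoImplicit false
set_option linter.unusedSectionVars false

namespace Cfsg.Agent.H923.Ten.A7

open Module Equiv

universe u v

variable {F : Type u} {V : Type v} [Field F] [AddCommGroup V] [Module F V] [FiniteDimensional F V]

/-- the situation -/
structure Irr (ρ : A →* (V →ₗ[F] V)) : Prop where
  two : (2 : F) ≠ 0
  dim : finrank F V = 10
  irr : ∀ U : Submodule F V, (∀ g, ∀ u ∈ U, ρ g u ∈ U) → U = ⊥ ∨ U = ⊤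

variable {ρ : A →* (V →ₗ[F] V)}

theorem act (ρ : A →* (V →ₗ[F] V)) (g h : A) (v : V) : ρ g (ρ h v) = ρ (g * h) v := by
  rw [map_mul]; rfl

theorem act1 (ρ : A →* (V →ₗ[F] V)) (v : V) : ρ 1 v = v := by
  rw [map_one]; rfl

theorem rel (ρ : A →* (V →ₗ[F] V)) {g h g' h' : A} (e : g * h = g' * h') (v : V) :
    ρ g (ρ h v) = ρ g' (ρ h' v) := by
  rw [act, act, e]

theorem inv_act (ρ : A →* (V →ₗ[F] V)) (g : A) (v : V) : ρ g⁻¹ (ρ g v) = v := by
  rw [act, inv_mul_cancel, act1]

theorem act_inv (ρ : A →* (V →ₗ[F] V)) (g : A) (v : V) : ρ g (ρ g⁻¹ v) = v := by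
  rw [act, mul_inv_cancel, act1]

/-- the stabiliser of a vector -/
def stab (ρ : A →* (V →ₗ[F] V)) (v : V) : Subgroup A where
  carrier := {g | ρ g v = v}
  one_mem' := act1 ρ v
  mul_mem' := by
    intro x y hx hy
    have hx : ρ x v = v := hx
    have hy : ρ y v = v := hy
    show ρ (x * y) v = v
    rw [← act, hy, hx]
  inv_mem' := by
    intro x hx
    have hx : ρ x v = v := hx
    show ρ x⁻¹ v = v
    nth_rewrite 1 [← hx]
    exact inv_act ρ x v

theorem mem_stab {v : V} {g : A} : g ∈ stab ρ v ↔ ρ g v = v := Iff.rfl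

/-- dimension of the fixed space -/
noncomputable def f (ρ : A →* (V →ₗ[F] V)) (g : A) : ℕ := finrank F (Fx (ρ g))

theorem f_conj (ρ : A →* (V →ₗ[F] V)) {g x y : A} (h : g * x * g⁻¹ = y) : f ρ y = f ρ x := by
  symm
  refine finrank_eq_of_maps (ρ g) (ρ g⁻¹) (act_inv ρ g) (inv_act ρ g) ?_ ?_
  · intro u hu
    rw [mem_Fx] at hu ⊢
    have e : y * g = g * x := by rw [← h]; group
    rw [rel ρ e, hu]
  · intro u hu
    rw [mem_Fx] at hu ⊢
    have e : x * g⁻¹ = g⁻¹ * y := by rw [← h]; group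
    rw [rel ρ e, hu]

namespace Irr

variable (h : Irr ρ)

include h

theorem fix_zero {v : V} (hv : stab ρ v = ⊤) : v = 0 := by
  by_contra hv0
  have h1 : ∀ g, ρ g v = v := fun g => by
    have : g ∈ stab ρ v := by rw [hv]; trivial
    exact this
  rcases h.irr (F ∙ v) (by
    intro g u hu
    obtain ⟨c, rfl⟩ := Submodule.mem_span_singleton.1 hu
    rw [map_smul, h1]
    exact Submodule.smul_mem _ _ (Submodule.mem_span_singleton_self v)) with h2 | h2
  · exact hv0 (Submodule.span_singleton_eq_bot.1 h2)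
  · have h3 := finrank_span_le_card (R := F) ({v} : Set V)
    rw [h2, finrank_top, h.dim] at h3
    simp at h3

theorem f_s1_le : 3 * f ρ s1 ≤ 20 := by
  have h1 := three (ρ tx) (ρ ty) (ρ tz) (fun v hx hy hz => h.fix_zero (top_of_t _ hx hy hz))
  have h2 := f_conj ρ conj_tx
  have h3 := f_conj ρ conj_ty
  have h4 := f_conj ρ conj_tz
  rw [h.dim] at h1
  unfold f at h2 h3 h4 ⊢
  omega

theorem f_b_le : 3 * f ρ b ≤ 20 := by
  have h1 := three (ρ c2) (ρ d3) (ρ b) (fun v hx hy hz => h.fix_zero (top_of_d _ hx hy hz))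
  have h2 := f_conj ρ conj_c2
  have h3 := f_conj ρ conj_d3
  rw [h.dim] at h1
  unfold f at h2 h3 ⊢
  omega

/-- no element `≠ 1` acts trivially (used for `b`) -/
theorem b_nontriv (hb : ∀ v, ρ b v = v) : False := by
  have h1 : finrank F (Fx (ρ b)) = 10 := by
    rw [show Fx (ρ b) = ⊤ from by
        rw [eq_top_iff]; intro v _; exact mem_Fx.2 (hb v), finrank_top, h.dim]
  have h2 := h.f_b_le
  unfold f at h2
  omega

theorem f_x4_le : 3 * f ρ x4 ≤ 10 := by
  have h1 := scott (ρ qx) (ρ qy) (fun v hx hy => h.fix_zero (top_of_q _ hx hy)) (by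
    set R := LinearMap.range (ρ qx - 1) ⊔ LinearMap.range (ρ qy - 1) with hR
    -- the group preserving `R`
    let K : Subgroup A :=
      { carrier := {g | (∀ u ∈ R, ρ g u ∈ R) ∧ (∀ u ∈ R, ρ g⁻¹ u ∈ R)}
        one_mem' := by
          refine ⟨fun u hu => by rwa [act1], fun u hu => by rwa [inv_one, act1]⟩
        mul_mem' := by
          rintro x y ⟨hx, hx'⟩ ⟨hy, hy'⟩
          refine ⟨fun u hu => ?_, fun u hu => ?_⟩
          · rw [← act]; exact hx _ (hy _ hu)
          · rw [mul_inv_rev, ← act]; exact hy' _ (hx' _ hu)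
        inv_mem' := by
          rintro x ⟨hx, hx'⟩
          exact ⟨hx', fun u hu => by rw [inv_inv]; exact hx u hu⟩ }
    have key : ∀ g : A, LinearMap.range (ρ g - 1) ≤ R → g ∈ K := by
      intro g hg
      refine ⟨fun u hu => ?_, fun u hu => ?_⟩
      · have h3 : ρ g u = u + (ρ g - 1) u := by
          rw [LinearMap.sub_apply, Module.End.one_apply]; abel
        rw [h3]
        exact R.add_mem hu (hg ⟨u, rfl⟩)
      · have h3 : ρ g⁻¹ u = u - (ρ g - 1) (ρ g⁻¹ u) := by
          rw [LinearMap.sub_apply, Module.End.one_apply, act_inv]; abel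
        rw [h3]
        exact R.sub_mem hu (hg ⟨_, rfl⟩)
    have hK := top_of_q K (key qx le_sup_left) (key qy le_sup_right)
    rcases h.irr R (fun g u hu => by
      have : g ∈ K := by rw [hK]; trivial
      exact this.1 u hu) with h3 | h3
    · exfalso
      rw [h3] at hR
      have hx : ∀ v, ρ qx v = v := fun v => by
        have h4 : (ρ qx - 1) v ∈ (⊥ : Submodule F V) := by
          rw [hR]; exact Submodule.mem_sup_left ⟨v, rfl⟩
        rw [Submodule.mem_bot, LinearMap.sub_apply, Module.End.one_apply, sub_eq_zero] at h4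
        exact h4
      have hy : ∀ v, ρ qy v = v := fun v => by
        have h4 : (ρ qy - 1) v ∈ (⊥ : Submodule F V) := by
          rw [hR]; exact Submodule.mem_sup_right ⟨v, rfl⟩
        rw [Submodule.mem_bot, LinearMap.sub_apply, Module.End.one_apply, sub_eq_zero] at h4
        exact h4
      apply h.b_nontriv
      intro v
      have h5 := h.fix_zero (top_of_q _ (hx v) (hy v))
      rw [h5, map_zero]
    · exact h3)
  rw [← map_mul] at h1
  have h2 := f_conj ρ conj_qx
  have h3 := f_conj ρ conj_qy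
  have h4 := f_conj ρ conj_qz
  rw [h.dim] at h1
  unfold f at h2 h3 h4 ⊢
  omega

end Irr

end Cfsg.Agent.H923.Ten.A7
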