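import Cfsg.Agent.H923.Ten.A7Chk

/-!
# The ten-dimensional module of `A₇` as symmetric square (helper923)
-/

set_option autoImplicit false
set_option linter.unusedSectionVars false

namespace Cfsg.Agent.H923.Ten.A7

open Module Matrix

universe u v

section basic

variable {F : Type u} [Field F]

/-- evaluation of `ℤ[√-7]` -/
noncomputable def ev (r : F) (hr : r * r = ((-7 : ℤ) : F)) : ℤ√(-7) →+* F := Zsqrtd.lift ⟨r, hr⟩

theorem ev_apply {r : F} (hr : r * r = ((-7 : ℤ) : F)) (a b : ℤ) : ev r hr ⟨a, b⟩ = a + b * r := by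
  rw [ev, Zsqrtd.lift_apply_apply]

/-- a table as a matrix over the field -/
noncomputable def MF (r : F) (hr : r * r = ((-7 : ℤ) : F)) (a : Fin 4 → Fin 4 → ℤ√(-7)) : Matrix (Fin 4) (Fin 4) F :=
  Matrix.of fun i j => ev r hr (a i j)

theorem MF_mul {r : F} (hr : r * r = ((-7 : ℤ) : F)) (a b : Fin 4 → Fin 4 → ℤ√(-7)) :
    MF r hr a * MF r hr b = MF r hr (mul4 a b) := by
  ext i j
  rw [Matrix.mul_apply, Fin.sum_univ_four]
  simp only [MF, Matrix.of_apply, mul4, map_add, map_mul]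

theorem MF_transpose {r : F} (hr : r * r = ((-7 : ℤ) : F)) (a : Fin 4 → Fin 4 → ℤ√(-7)) :
    (MF r hr a)ᵀ = MF r hr (fun i j => a j i) := rfl

theorem ev_sz {r : F} (hr : r * r = ((-7 : ℤ) : F)) (l : Fin 2) : ev r hr (sz l) = (-1 : F) ^ (l : ℕ) := by
  rw [sz, ev_apply]
  fin_cases l
  · simp [sg]
  · simp [sg]

theorem MF_conj {r : F} (hr : r * r = ((-7 : ℤ) : F)) {M S S' : Fin 4 → Fin 4 → ℤ√(-7)} {l : Fin 2}
    (h : ∀ i j, mul4 (mul4 M S) (fun a b => M b a) i j = ⟨-28, 0⟩ * (sz l * S' i j)) :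
    MF r hr M * MF r hr S * (MF r hr M)ᵀ = (-28 : F) • ((-1 : F) ^ (l : ℕ) • MF r hr S') := by
  rw [MF_transpose, MF_mul, MF_mul]
  ext i j
  rw [MF, Matrix.of_apply, h, map_mul, map_mul, ev_sz, ev_apply, Matrix.smul_apply, Matrix.smul_apply, MF,
    Matrix.of_apply, smul_eq_mul, smul_eq_mul]
  push_cast
  ring

end basic

variable {F : Type u} {V : Type v} [Field F] [AddCommGroup V] [Module F V] [FiniteDimensional F V]
variable {ρ : A →* (V →ₗ[F] V)}

/-- the map to the symmetric matrices -/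
noncomputable def Phi (ρ : A →* (V →ₗ[F] V)) (ξ : V →ₗ[F] F) (r : F) (hr : r * r = ((-7 : ℤ) : F)) :
    V →ₗ[F] Matrix (Fin 4) (Fin 4) F :=
  ∑ t : Fin 35, (ξ.comp (ρ (gT t)⁻¹)).smulRight (MF r hr (Sm t))

theorem Phi_apply (ξ : V →ₗ[F] F) (r : F) (hr : r * r = ((-7 : ℤ) : F)) (u : V) :
    Phi ρ ξ r hr u = ∑ t : Fin 35, ξ (ρ (gT t)⁻¹ u) • MF r hr (Sm t) := by
  rw [Phi, LinearMap.sum_apply]
  rfl

namespace Sph

variable {v : V} {ξ : V →ₗ[F] F} {lam : F} (h : Sph ρ v ξ lam)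

include h

theorem step {g : A} {π : Fin 35 → Fin 35} {nl : Fin 35 → Fin 4 × Fin 3 × Fin 3 × Fin 2}
    {M : Fin 4 → Fin 4 → ℤ√(-7)} (h1 : ∀ t : Fin 35, (gT (π t))⁻¹ * g = nfq (nl t) * (gT t)⁻¹)
    (h2 : Function.Injective π)
    (h3 : ∀ (t : Fin 35) (i j : Fin 4), mul4 (mul4 M (Sm t)) (fun a b => M b a) i j =
      ⟨-28, 0⟩ * (sz (nl t).2.2.2 * Sm (π t) i j)) (r : F) (hr : r * r = ((-7 : ℤ) : F)) (u : V) :
    (-28 : F) • Phi ρ ξ r hr (ρ g u) = MF r hr M * Phi ρ ξ r hr u * (MF r hr M)ᵀ := by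
  rw [Phi_apply, Phi_apply, Matrix.mul_sum, Matrix.sum_mul, Finset.smul_sum]
  have hb : Function.Bijective π := Finite.injective_iff_bijective.1 h2
  rw [← hb.sum_comp]
  refine Finset.sum_congr rfl fun t _ => ?_
  rw [act, h1, ← act, nfq, h.nfx, Matrix.mul_smul, Matrix.smul_mul, MF_conj hr (h3 t), smul_smul, smul_smul, smul_smul]
  congr 1
  ring

theorem lam_mul : -lam * -lam = ((-7 : ℤ) : F) := by
  have := h.sq
  push_cast
  linear_combination this

theorem four : (4 : F) ≠ 0 := by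
  have : (4 : F) = 2 * 2 := by norm_num
  rw [this]; exact mul_ne_zero h.irr.two h.irr.two

/-- values of the spherical function -/
theorem value (t : Fin 35) : 4 * ξ (ρ (gT t)⁻¹ v) = ev (-lam) h.lam_mul (cv t) := by
  have h1 : ∀ c : Fin 4, 4 * ξ (ρ (rep c) v) = ev (-lam) h.lam_mul (![⟨4, 0⟩, ⟨-1, 0⟩, 0, ⟨0, -1⟩] c) := by
    intro c
    fin_cases c
    · change 4 * ξ (ρ 1 v) = ev (-lam) h.lam_mul ⟨4, 0⟩
      rw [act1, h.one, ev_apply]; norm_num
    · change 4 * ξ (ρ c6 v) = ev (-lam) h.lam_mul ⟨-1, 0⟩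
      rw [h.x, ev_apply, mul_neg, mul_inv_cancel₀ h.four]; norm_num
    · change 4 * ξ (ρ r1 v) = ev (-lam) h.lam_mul 0
      have h2 : ξ (ρ r1 v) = -ξ (ρ r1 v) := by
        conv_lhs => rw [chk_r1]
        rw [← act, ← act, h.nfx, h.nfv, map_smul]
        simp
      have h3 : (2 : F) * ξ (ρ r1 v) = 0 := by linear_combination h2
      rw [(mul_eq_zero.1 h3).resolve_left h.irr.two, map_zero, mul_zero]
    · change 4 * ξ (ρ (e2 0 5 5 1 * e2 1 4 2 6) v) = ev (-lam) h.lam_mul ⟨0, -1⟩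
      have h2 := congrArg ξ h.hlam
      rw [map_smul, h.one, smul_eq_mul, mul_one, es, map_add, map_add, map_add] at h2
      have n1 : ∀ u, ξ (ρ s1 u) = ξ u := fun u => by
        have := h.nfx 1 0 0 0 u
        rwa [show nf 1 0 0 0 = s1 by decide, show (-1 : F) ^ ((0 : Fin 2) : ℕ) = 1 from pow_zero _, one_mul] at this
      have n2 : ∀ u, ξ (ρ s2 u) = ξ u := fun u => by
        have := h.nfx 2 0 0 0 u
        rwa [show nf 2 0 0 0 = s2 by decide, show (-1 : F) ^ ((0 : Fin 2) : ℕ) = 1 from pow_zero _, one_mul] at this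
      have n3 : ∀ u, ξ (ρ s3 u) = ξ u := fun u => by
        have := h.nfx 3 0 0 0 u
        rwa [show nf 3 0 0 0 = s3 by decide, show (-1 : F) ^ ((0 : Fin 2) : ℕ) = 1 from pow_zero _, one_mul] at this
      rw [n1, n2, n3] at h2
      rw [ev_apply]
      push_cast
      linear_combination h2
  rw [chk_cl t, nfq, nfq, ← act, ← act, h.nfx, h.nfv, map_smul, map_smul, smul_eq_mul, cv, map_mul, map_mul, ev_sz,
    ev_sz, ← h1]
  ring

theorem Phi_v : (4 * Phi ρ ξ (-lam) h.lam_mul v 0 0 : F) = 56 := by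
  rw [Phi_apply, Matrix.sum_apply, Finset.mul_sum]
  have h1 : ∀ t : Fin 35, 4 * (ξ (ρ (gT t)⁻¹ v) • MF (-lam) h.lam_mul (Sm t)) 0 0 =
      ev (-lam) h.lam_mul (cv t * Sm t 0 0) := by
    intro t
    rw [Matrix.smul_apply, smul_eq_mul, ← mul_assoc, h.value, map_mul]
    rfl
  rw [Finset.sum_congr rfl fun t _ => h1 t, ← map_sum]
  have h2 : ∑ t : Fin 35, cv t * Sm t 0 0 = tot := by
    rw [tot, ← List.sum_ofFn, List.ofFn_eq_map]
  rw [h2, tot_eq, ev_apply]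
  norm_num

end Sph

end Cfsg.Agent.H923.Ten.A7
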