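import Cfsg.Agent.H923.Ten.Kill

/-!
# Overgroups of the form `X ↦ G X Gᵀ` in dimension ten, unitary case (helper923)
-/

set_option autoImplicit false
set_option linter.unusedSectionVars false

namespace Cfsg.Agent.H923.Ten

open Cfsg Cfsg.Geo Matrix
open Cfsg.Agent.H915.LD
open Cfsg.Agent.LieClassical.GUOrder
open scoped commutatorElement

universe u

variable {F : Type u} [Field F] [Fintype F] {m q : ℕ}

/-- the standard form on matrices -/
def hh (hF : Fintype.card F = q ^ 2) (X Y : Matrix (Fin m) (Fin m) F) : F := ∑ i, ∑ j, X i j * frob hF (Y i j)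

theorem hh_eq (hF : Fintype.card F = q ^ 2) (X Y : Matrix (Fin m) (Fin m) F) :
    hh hF X Y = (X * (Y.map (frob hF))ᵀ).trace := by
  unfold hh Matrix.trace
  refine Finset.sum_congr rfl fun i _ => ?_
  rw [Matrix.diag_apply, Matrix.mul_apply]
  rfl

theorem hh_conj (hF : Fintype.card F = q ^ 2) {G : GL (Fin m) F} (hG : G ∈ Cfsg.GU m F q)
    (X Y : Matrix (Fin m) (Fin m) F) :
    hh hF ((G : Matrix (Fin m) (Fin m) F) * X * (G : Matrix (Fin m) (Fin m) F)ᵀ)
      ((G : Matrix (Fin m) (Fin m) F) * Y * (G : Matrix (Fin m) (Fin m) F)ᵀ) = hh hF X Y := by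
  have h1 : (G : Matrix (Fin m) (Fin m) F)ᵀ * (G : Matrix (Fin m) (Fin m) F).map (frob hF) = 1 :=
    (mul_map_eq_one_iff hF _).1 ((mem_GU_iff G).1 hG)
  have h2 : ((G : Matrix (Fin m) (Fin m) F).map (frob hF))ᵀ * (G : Matrix (Fin m) (Fin m) F) = 1 := by
    have h3 := congrArg Matrix.transpose h1
    rwa [Matrix.transpose_mul, Matrix.transpose_transpose, Matrix.transpose_one] at h3
  rw [hh_eq, hh_eq]
  set A := (G : Matrix (Fin m) (Fin m) F) with hA
  set B := A.map (frob hF) with hB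
  have h4 : (A * Y * Aᵀ).map (frob hF) = B * Y.map (frob hF) * Bᵀ := by
    rw [Matrix.map_mul, Matrix.map_mul, hB, Matrix.transpose_map]
  rw [h4]
  have h5 : A * X * Aᵀ * (B * Y.map (frob hF) * Bᵀ)ᵀ = A * (X * (Y.map (frob hF))ᵀ * Bᵀ) := by
    rw [Matrix.transpose_mul, Matrix.transpose_mul, Matrix.transpose_transpose]
    calc A * X * Aᵀ * (B * ((Y.map (frob hF))ᵀ * Bᵀ))
        = A * X * (Aᵀ * B) * ((Y.map (frob hF))ᵀ * Bᵀ) := by simp only [Matrix.mul_assoc]
      _ = A * (X * (Y.map (frob hF))ᵀ * Bᵀ) := by rw [h1, Matrix.mul_one]; simp only [Matrix.mul_assoc]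
  rw [h5, Matrix.trace_mul_comm, Matrix.mul_assoc, h2, Matrix.mul_one]

theorem hh_add_left (hF : Fintype.card F = q ^ 2) (X X' Y : Matrix (Fin m) (Fin m) F) :
    hh hF (X + X') Y = hh hF X Y + hh hF X' Y := by
  simp only [hh, Matrix.add_apply, add_mul, Finset.sum_add_distrib]

theorem hh_smul_left (hF : Fintype.card F = q ^ 2) (c : F) (X Y : Matrix (Fin m) (Fin m) F) :
    hh hF (c • X) Y = c * hh hF X Y := by
  simp only [hh, Matrix.smul_apply, smul_eq_mul, Finset.mul_sum, mul_assoc]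

theorem hh_add_right (hF : Fintype.card F = q ^ 2) (X Y Y' : Matrix (Fin m) (Fin m) F) :
    hh hF X (Y + Y') = hh hF X Y + hh hF X Y' := by
  simp only [hh, Matrix.add_apply, map_add, mul_add, Finset.sum_add_distrib]

theorem hh_smul_right (hF : Fintype.card F = q ^ 2) (c : F) (X Y : Matrix (Fin m) (Fin m) F) :
    hh hF X (c • Y) = frob hF c * hh hF X Y := by
  simp only [hh, Matrix.smul_apply, smul_eq_mul, Finset.mul_sum, map_mul]
  exact Finset.sum_congr rfl fun i _ => Finset.sum_congr rfl fun j _ => by ring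

variable {Φ : (Fin 10 → F) →ₗ[F] Matrix (Fin m) (Fin m) F} {H P : Subgroup (GL (Fin 10) F)}

theorem herm_single (hF : Fintype.card F = q ^ 2) {n : ℕ} (u : Fin n → F) (j : Fin n) :
    hermForm n F q u (Pi.single j 1) = u j := by
  rw [herm_eq hF, Finset.sum_eq_single j]
  · simp
  · intro b _ hb
    rw [Pi.single_eq_of_ne hb, map_zero, mul_zero]
  · intro h; exact absurd (Finset.mem_univ _) h

/-- the form of the model is proportional to the standard one -/
theorem exists_herm (hF : Fintype.card F = q ^ 2) (hirr : ActsAbsolutelyIrreducibly (matrixSet P))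
    (hPU : P ≤ Cfsg.GU 10 F q)
    (hP : ∀ g ∈ P, ∃ G ∈ Cfsg.GU m F q, ∀ v, Φ ((g : Matrix (Fin 10) (Fin 10) F) *ᵥ v) =
      (G : Matrix (Fin m) (Fin m) F) * Φ v * (G : Matrix (Fin m) (Fin m) F)ᵀ) :
    ∃ c : F, ∀ u v, hh hF (Φ u) (Φ v) = c * hermForm 10 F q u v := by
  let M : Matrix (Fin 10) (Fin 10) F := Matrix.of fun j i => hh hF (Φ (Pi.single i 1)) (Φ (Pi.single j 1))
  have hexp : ∀ u : Fin 10 → F, u = ∑ i, u i • (Pi.single i (1 : F) : Fin 10 → F) := by
    intro u
    conv_lhs => rw [← Finset.univ_sum_single u]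
    refine Finset.sum_congr rfl fun i _ => ?_
    rw [← Pi.single_smul', smul_eq_mul, mul_one]
  have hsumr : ∀ (s : Finset (Fin 10)) (f : Fin 10 → Fin 10 → F) (X : Matrix (Fin m) (Fin m) F),
      hh hF X (Φ (∑ i ∈ s, f i)) = ∑ i ∈ s, hh hF X (Φ (f i)) := by
    intro s f X
    induction s using Finset.induction_on with
    | empty => simp [hh]
    | insert a s ha ih => rw [Finset.sum_insert ha, Finset.sum_insert ha, map_add, hh_add_right, ih]
  have hsuml : ∀ (s : Finset (Fin 10)) (f : Fin 10 → Fin 10 → F) (X : Matrix (Fin m) (Fin m) F),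
      hh hF (Φ (∑ i ∈ s, f i)) X = ∑ i ∈ s, hh hF (Φ (f i)) X := by
    intro s f X
    induction s using Finset.induction_on with
    | empty => simp [hh]
    | insert a s ha ih => rw [Finset.sum_insert ha, Finset.sum_insert ha, map_add, hh_add_left, ih]
  have hM : ∀ u v, hh hF (Φ u) (Φ v) = hermForm 10 F q (M *ᵥ u) v := by
    intro u v
    have h1 : ∀ j, (M *ᵥ u) j = hh hF (Φ u) (Φ (Pi.single j 1)) := by
      intro j
      conv_rhs => rw [hexp u, hsuml]
      rw [Matrix.mulVec, dotProduct]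
      refine Finset.sum_congr rfl fun i _ => ?_
      rw [map_smul, hh_smul_left, mul_comm]
      rfl
    rw [herm_eq hF]
    conv_lhs => rw [hexp v, hsumr]
    refine Finset.sum_congr rfl fun j _ => ?_
    rw [map_smul, hh_smul_right, h1, mul_comm]
  obtain ⟨c, hc⟩ := hirr.2 M (by
    rintro _ ⟨g, hg, rfl⟩
    apply eq_of_mulVec
    intro u
    rw [← Matrix.mulVec_mulVec, ← Matrix.mulVec_mulVec]
    obtain ⟨G, hG, hGΦ⟩ := hP g hg
    have h1 : ∀ w, hermForm 10 F q (M *ᵥ ((g : Matrix (Fin 10) (Fin 10) F) *ᵥ u)) w =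
        hermForm 10 F q ((g : Matrix (Fin 10) (Fin 10) F) *ᵥ (M *ᵥ u)) w := by
      intro w
      obtain ⟨v, rfl⟩ : ∃ v, w = (g : Matrix (Fin 10) (Fin 10) F) *ᵥ v :=
        ⟨((g⁻¹ : GL (Fin 10) F) : Matrix (Fin 10) (Fin 10) F) *ᵥ w, by
          rw [Matrix.mulVec_mulVec, ← Units.val_mul, mul_inv_cancel, Units.val_one, Matrix.one_mulVec]⟩
      rw [← hM, hGΦ, hGΦ, hh_conj hF hG, hM, (mem_GU_iff g).1 (hPU hg)]
    ext j
    exact (herm_single hF _ j).symm.trans ((h1 _).trans (herm_single hF _ j)))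
  refine ⟨c, fun u v => ?_⟩
  rw [hM, hc, Matrix.smul_mulVec, Matrix.one_mulVec, herm_smul_left hF]

theorem exists_skew (hF : Fintype.card F = q ^ 2) : ∃ c : F, c ≠ 0 ∧ frob hF c = -c := by
  obtain ⟨x, hx⟩ : ∃ x : F, frob hF x ≠ x := by
    by_contra hcon
    push Not at hcon
    have hq := two_le hF
    have h2 := FiniteField.X_pow_card_sub_X_natDegree_eq F (show 1 < q by omega)
    have h3 : (Polynomial.X ^ q - Polynomial.X : Polynomial F) ≠ 0 := by
      intro h0
      rw [h0, Polynomial.natDegree_zero] at h2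
      omega
    classical
    have h4 : (Finset.univ : Finset F).val ≤ (Polynomial.X ^ q - Polynomial.X : Polynomial F).roots := by
      rw [Finset.val_le_iff_val_subset]
      intro y _
      rw [Polynomial.mem_roots h3]
      have := hcon y
      rw [frob_apply] at this
      simp [this]
    have h5 := Multiset.card_le_card h4
    have h6 := h5.trans (Polynomial.card_roots' _)
    rw [h2] at h6
    have h7 : Fintype.card F ≤ q := h6
    rw [hF] at h7
    nlinarith
  refine ⟨x - frob hF x, fun h => hx (sub_eq_zero.1 h).symm, ?_⟩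
  rw [map_sub, frob_frob]
  ring

/-- unitary transvections -/
theorem exists_transv (hF : Fintype.card F = q ^ 2) {n : ℕ} (u : Fin n → F) (hu : hermForm n F q u u = 0) :
    ∃ (t : GL (Fin n) F) (c : F), c ≠ 0 ∧ t ∈ Cfsg.GU n F q ⊓ specialLinear (Fin n) F ∧
      ∀ x, (t : Matrix (Fin n) (Fin n) F) *ᵥ x = x + (c * hermForm n F q x u) • u := by
  obtain ⟨c, hc0, hc⟩ := exists_skew hF
  set M : Matrix (Fin n) (Fin n) F := 1 + c • Matrix.vecMulVec u (fun i => frob hF (u i)) with hM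
  have hMx : ∀ x, M *ᵥ x = x + (c * hermForm n F q x u) • u := by
    intro x
    rw [hM, Matrix.add_mulVec, Matrix.one_mulVec, Matrix.smul_mulVec, vecMulVec_mulVec_herm hF, smul_smul]
  have hiso : ∀ x y : Fin n → F, hermForm n F q (M *ᵥ x) (M *ᵥ y) = hermForm n F q x y := by
    intro x y
    have hwy : hermForm n F q u y = frob hF (hermForm n F q y u) := (frob_herm hF y u).symm
    rw [hMx, hMx, herm_add_left hF, herm_add_right hF, herm_add_right hF, herm_smul_left hF,
      herm_smul_right hF, herm_smul_left hF, herm_smul_right hF, hu, map_mul, hwy, hc]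
    ring
  have hdet : M.det = 1 := by
    have h1 : M = 1 + Matrix.replicateCol Unit (c • u) * Matrix.replicateRow Unit (fun i => frob hF (u i)) := by
      rw [hM]
      congr 1
      ext i j
      simp [Matrix.vecMulVec_apply, Matrix.mul_apply, mul_assoc]
    rw [h1, Matrix.det_one_add_replicateCol_mul_replicateRow]
    have h2 : (fun i => frob hF (u i)) ⬝ᵥ (c • u) = c * hermForm n F q u u := by
      rw [dotProduct_smul, smul_eq_mul, herm_eq hF, dotProduct]
      congr 1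
      exact Finset.sum_congr rfl fun i _ => mul_comm _ _
    rw [h2, hu, mul_zero, add_zero]
  exact ⟨(mkGU hF M hiso : GL (Fin n) F), c, hc0,
    Subgroup.mem_inf.2 ⟨(mkGU hF M hiso).2, (H908.mem_sl_iff _).2 hdet⟩, hMx⟩

/-- **No maximal subgroup of `SU_10`.** -/
theorem not_max_su (hF : Fintype.card F = q ^ 2) (h : Mdl Φ)
    (hsc : ∀ (G : GL (Fin m) F) (c : F), (∀ v, (G : Matrix (Fin m) (Fin m) F) * Φ v * (G : Matrix (Fin m) (Fin m) F)ᵀ =
      c • Φ v) → G ∈ scalars (Fin m) F)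
    {r : ℕ} (hcore : IsResidualCore H P)
    (hP : ∀ g ∈ P, ∃ G ∈ Cfsg.GU m F q, ∀ v, Φ ((g : Matrix (Fin 10) (Fin 10) F) *ᵥ v) =
      (G : Matrix (Fin m) (Fin m) F) * Φ v * (G : Matrix (Fin m) (Fin m) F)ᵀ)
    (hH : ∀ h ∈ H, ∃ x ∈ P, ∃ c : F, (h : Matrix (Fin 10) (Fin 10) F) = c • (x : Matrix (Fin 10) (Fin 10) F))
    (hcard : Nat.card (MulAut P) * Nat.card (scalars (Fin m) F) < Nat.card (Cfsg.GU m F q))
    (hd : ∃ d u : Fin 10 → F, hh hF (Φ u) (Φ u) = 0 ∧ hh hF (Φ d) (Φ u) ≠ 0 ∧ (Φ d).rank ≤ r ∧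
      ∀ c : F, c ≠ 0 → r < (Φ (d + c • u)).rank) :
    ¬ IsMaximalIn (Cfsg.GU 10 F q ⊓ specialLinear (Fin 10) F) H := by
  intro hmax
  have hP' : ∀ g ∈ P, ∃ G : GL (Fin m) F, ∀ v, Φ ((g : Matrix (Fin 10) (Fin 10) F) *ᵥ v) =
      (G : Matrix (Fin m) (Fin m) F) * Φ v * (G : Matrix (Fin m) (Fin m) F)ᵀ := by
    intro g hg
    obtain ⟨G, -, hG⟩ := hP g hg
    exact ⟨G, hG⟩
  have hle : H ≤ cone Φ r := le_cone hP' hH
  have hPU : P ≤ Cfsg.GU 10 F q := hcore.le.trans (hmax.1.le.trans inf_le_left)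
  obtain ⟨c, hc⟩ := exists_herm hF hcore.absIrred hPU hP
  obtain ⟨d, u, hu, hdu, hdr, hdu'⟩ := hd
  have hc0 : c ≠ 0 := by
    rintro rfl
    rw [hc, zero_mul] at hdu
    exact hdu rfl
  rw [hc] at hu hdu
  rcases hmax.2 (cone Φ r ⊓ (Cfsg.GU 10 F q ⊓ specialLinear (Fin 10) F)) (le_inf hle hmax.1.le) inf_le_right
    with h1 | h1
  · have h2 := card_le_of_normalize h hsc hcore.absIrred (Cfsg.GU m F q) (by
      intro G hG x hx
      have hkU : kap h G ∈ Cfsg.GU 10 F q := by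
        rw [mem_GU_iff]
        intro a b
        apply mul_left_cancel₀ hc0
        rw [← hc, ← hc, kap_spec, kap_spec, hh_conj hF hG]
      have h3 : P.map (MulAut.conj (kap h G)).toMonoidHom ≤ P := by
        refine le_of_perfect (conj_perfect hcore.perfect _) ?_ hH
        rw [← h1]
        rintro _ ⟨y, hy, rfl⟩
        change kap h G * y * (kap h G)⁻¹ ∈ cone Φ r ⊓ (Cfsg.GU 10 F q ⊓ specialLinear (Fin 10) F)
        exact Subgroup.mem_inf.2 ⟨mul_mem (mul_mem (kap_mem_cone h G) (hle (hcore.le hy)))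
          (inv_mem (kap_mem_cone h G)), Subgroup.mem_inf.2 ⟨mul_mem (mul_mem hkU (hPU hy)) (inv_mem hkU),
            conj_mem_sl (hmax.1.le (hcore.le hy)).2 _⟩⟩
      exact h3 ⟨x, hx, rfl⟩)
    omega
  · obtain ⟨t, e, he0, ht, htx⟩ := exists_transv hF u ((mul_eq_zero.1 hu).resolve_left hc0)
    rw [← h1] at ht
    have h2 := ((Subgroup.mem_inf.1 ht).1 d).2 hdr
    rw [htx] at h2
    have h3 := hdu' (e * hermForm 10 F q d u) (mul_ne_zero he0 fun h0 => hdu (by rw [h0, mul_zero]))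
    omega

end Cfsg.Agent.H923.Ten
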