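import Cfsg.Agent.H923.Ten.A7Model
import Cfsg.Agent.H923.Ten.KillU
import Cfsg.Agent.S2119

/-!
# Cores isomorphic to `A₇` in dimension ten (helper923)
-/

set_option autoImplicit false
set_option linter.unusedSectionVars false

namespace Cfsg.Agent.H923.Ten.A7

open Module Matrix Cfsg Cfsg.Geo
open Cfsg.Agent.LieClassical.GUOrder

universe u

variable {F : Type u} [Field F]

/-- the representation on column vectors -/
noncomputable def rp {P : Subgroup (GL (Fin 10) F)} (e : A ≃* P) : A →* ((Fin 10 → F) →ₗ[F] (Fin 10 → F)) where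
  toFun g := Matrix.toLin' ((e g : GL (Fin 10) F) : Matrix (Fin 10) (Fin 10) F)
  map_one' := by
    rw [map_one, OneMemClass.coe_one, Units.val_one, Matrix.toLin'_one]; rfl
  map_mul' x y := by
    rw [map_mul, Subgroup.coe_mul, Units.val_mul, Matrix.toLin'_mul]; rfl

theorem rp_apply {P : Subgroup (GL (Fin 10) F)} (e : A ≃* P) (g : A) (v : Fin 10 → F) :
    rp e g v = ((e g : GL (Fin 10) F) : Matrix (Fin 10) (Fin 10) F) *ᵥ v := by
  change Matrix.toLin' _ v = _
  rw [Matrix.toLin'_apply]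

theorem rp_irr {P : Subgroup (GL (Fin 10) F)} (e : A ≃* P) (h2 : (2 : F) ≠ 0)
    (hirr : ActsAbsolutelyIrreducibly (matrixSet P)) : Irr (rp e) where
  two := h2
  dim := by rw [finrank_pi, Fintype.card_fin]
  irr := by
    intro U hU
    apply hirr.1
    rintro _ ⟨x, hx, rfl⟩
    rw [Submodule.map_le_iff_le_comap]
    intro u hu
    have h1 := hU (e.symm ⟨x, hx⟩) u hu
    rw [rp_apply, MulEquiv.apply_symm_apply] at h1
    rw [Submodule.mem_comap, Matrix.toLin'_apply]
    exact h1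

section auto

variable {P : Subgroup (GL (Fin 10) F)} (e : A ≃* P)

/-- no element of `GL₁₀` induces an odd automorphism -/
theorem no_odd {v : Fin 10 → F} {ξ : (Fin 10 → F) →ₗ[F] F} {lam : F} (h : Sph (rp e) v ξ lam) (h7 : (7 : F) ≠ 0)
    (T : (Fin 10 → F) →ₗ[F] (Fin 10 → F)) (hT : Function.Injective T)
    (hc : ∀ (g g' : A), (g' : Equiv.Perm (Fin 7)) = Equiv.swap 4 5 * (g : Equiv.Perm (Fin 7)) * (Equiv.swap 4 5)⁻¹ →
      ∀ u, T (rp e g u) = rp e g' (T u)) : False := by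
  have c1 : ∀ u, T (rp e s1 u) = rp e s1 (T u) := hc s1 s1 (by decide)
  have c2' : ∀ u, T (rp e s2 u) = rp e s2 (T u) := hc s2 s2 (by decide)
  have c3' : ∀ u, T (rp e s3 u) = rp e s3 (T u) := hc s3 s3 (by decide)
  obtain ⟨hv0, v1, v2, -, -, -, hun⟩ := h.good
  obtain ⟨μ, hμ⟩ := hun (T v) (by rw [← c1, v1]) (by rw [← c2', v2])
  have hμ0 : μ ≠ 0 := by
    rintro rfl
    rw [zero_smul] at hμ
    exact hv0 (hT (hμ.trans (map_zero T).symm))
  have ces : ∀ u, T (es (rp e) u) = es (rp e) (T u) := fun u => by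
    rw [es, map_add, map_add, map_add, c1, c2', c3']; rfl
  set g0 : A := e2 0 5 5 1 * e2 1 4 2 6 with hg0
  have cg : ∀ u, T (rp e g0 u) = rp e (g0 * nf 0 0 0 1) (T u) := hc g0 (g0 * nf 0 0 0 1) (by rw [hg0]; decide)
  have h1 := congrArg T h.hlam
  rw [ces, cg, hμ, map_smul, map_smul, hμ, ← act, h.nfv, map_smul] at h1
  have h2 : ∀ (c : F) u, es (rp e) (c • u) = c • es (rp e) u := by
    intro c u
    rw [es, es, map_smul, map_smul, map_smul, smul_add, smul_add, smul_add]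
  rw [h2, h2, h.hlam, smul_smul, smul_smul, smul_smul] at h1
  have h3 := smul_left_injective F hv0 h1
  have h4 : (-1 : F) ^ ((1 : Fin 2) : ℕ) = -1 := pow_one _
  rw [h4] at h3
  have h5 : (2 * μ) * lam = 0 := by linear_combination -h3
  have h6 : lam = 0 := (mul_eq_zero.1 h5).resolve_left (mul_ne_zero h.irr.two hμ0)
  have h7' := h.sq
  rw [h6] at h7'
  apply h7
  linear_combination h7'

/-- every element normalising the core is a scalar times an element of the core -/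
theorem eq_mul {v : Fin 10 → F} {ξ : (Fin 10 → F) →ₗ[F] F} {lam : F} (h : Sph (rp e) v ξ lam) (h7 : (7 : F) ≠ 0)
    (hirr : ActsAbsolutelyIrreducibly (matrixSet P)) (t : GL (Fin 10) F) (ht : ∀ x, x ∈ P ↔ t * x * t⁻¹ ∈ P) :
    ∃ x ∈ P, ∃ c : F, (t : Matrix (Fin 10) (Fin 10) F) = c • (x : Matrix (Fin 10) (Fin 10) F) := by
  -- the automorphism
  let ψ : P ≃* P :=
    { toFun := fun x => ⟨t * x * t⁻¹, (ht x).1 x.2⟩
      invFun := fun x => ⟨t⁻¹ * x * t, (ht _).2 (by
        have : t * (t⁻¹ * (x : GL (Fin 10) F) * t) * t⁻¹ = x := by group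
        rw [this]; exact x.2)⟩
      left_inv := fun x => Subtype.ext (by change t⁻¹ * (t * (x : GL (Fin 10) F) * t⁻¹) * t = x; group)
      right_inv := fun x => Subtype.ext (by change t * (t⁻¹ * (x : GL (Fin 10) F) * t) * t⁻¹ = x; group)
      map_mul' := fun x y => Subtype.ext (by
        change t * ((x : GL (Fin 10) F) * y) * t⁻¹ = (t * x * t⁻¹) * (t * y * t⁻¹); group) }
  let φ : MulAut A := (e.trans ψ).trans e.symm
  obtain ⟨σ, hσ⟩ := (S2119.result 7 (by norm_num) (by norm_num)).2 φ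
  have hφ : ∀ g : A, t * (e g : GL (Fin 10) F) * t⁻¹ = (e (φ g) : GL (Fin 10) F) := by
    intro g
    change _ = ((e (e.symm (ψ (e g))) : P) : GL (Fin 10) F)
    rw [MulEquiv.apply_symm_apply]
    rfl
  have hφσ : ∀ g : A, ((φ g : A) : Equiv.Perm (Fin 7)) = σ * (g : Equiv.Perm (Fin 7)) * σ⁻¹ := by
    intro g
    rw [← hσ]
    exact MulAut.conjNormal_apply σ g
  rcases Int.units_eq_one_or (Equiv.Perm.sign σ) with h1 | h1
  · -- inner
    let σ' : A := ⟨σ, h1⟩
    have h2 : ∀ g : A, φ g = σ' * g * σ'⁻¹ := fun g => Subtype.ext (hφσ g)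
    obtain ⟨c, hc⟩ := hirr.2 (((e σ' : GL (Fin 10) F)⁻¹ * t : GL (Fin 10) F) : Matrix (Fin 10) (Fin 10) F) (by
      rintro _ ⟨x, hx, rfl⟩
      rw [← Units.val_mul, ← Units.val_mul]
      congr 1
      obtain ⟨g, hg⟩ : ∃ g : A, (e g : GL (Fin 10) F) = x := ⟨e.symm ⟨x, hx⟩, by rw [MulEquiv.apply_symm_apply]⟩
      have h3 := hφ g
      rw [h2, map_mul, map_mul, map_inv, Subgroup.coe_mul, Subgroup.coe_mul, Subgroup.coe_inv, hg] at h3
      have h4 : t * x = (e σ' : GL (Fin 10) F) * x * (e σ' : GL (Fin 10) F)⁻¹ * t := by rw [← h3]; group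
      rw [mul_assoc, h4]; group)
    refine ⟨_, (e σ').2, c, ?_⟩
    have h3 : t = (e σ' : GL (Fin 10) F) * ((e σ' : GL (Fin 10) F)⁻¹ * t) := by group
    conv_lhs => rw [h3]
    rw [Units.val_mul, hc, Matrix.mul_smul, Matrix.mul_one]
  · -- outer
    exfalso
    have hsw : Equiv.Perm.sign (Equiv.swap (4 : Fin 7) 5) = -1 := Equiv.Perm.sign_swap (by decide)
    let σ' : A := ⟨(Equiv.swap 4 5)⁻¹ * σ, by
      rw [Equiv.Perm.mem_alternatingGroup, map_mul, Equiv.Perm.sign_inv, hsw, h1]; decide⟩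
    have hσ' : σ = Equiv.swap 4 5 * (σ' : Equiv.Perm (Fin 7)) := by
      change σ = Equiv.swap 4 5 * ((Equiv.swap 4 5)⁻¹ * σ)
      group
    apply no_odd e h h7 (Matrix.toLin' ((t * (e σ' : GL (Fin 10) F)⁻¹ : GL (Fin 10) F) : Matrix (Fin 10) (Fin 10) F))
    · intro a b hab
      rw [Matrix.toLin'_apply, Matrix.toLin'_apply] at hab
      have h2 := congrArg (fun z => ((t * (e σ' : GL (Fin 10) F)⁻¹ : GL (Fin 10) F)⁻¹ : GL (Fin 10) F).1 *ᵥ z) hab
      simp only [Matrix.mulVec_mulVec, ← Units.val_mul, inv_mul_cancel, Units.val_one, Matrix.one_mulVec] at h2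
      exact h2
    · intro g g' hg' u
      rw [rp_apply, rp_apply, Matrix.toLin'_apply, Matrix.toLin'_apply, Matrix.mulVec_mulVec, Matrix.mulVec_mulVec,
        ← Units.val_mul, ← Units.val_mul]
      have h2 : (e g' : GL (Fin 10) F) = t * (e (σ'⁻¹ * g * σ') : GL (Fin 10) F) * t⁻¹ := by
        rw [hφ]
        congr 2
        apply Subtype.ext
        rw [hφσ, hg', hσ']
        push_cast
        group
      have h3 : t * (e σ' : GL (Fin 10) F)⁻¹ * (e g : GL (Fin 10) F) =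
          (e g' : GL (Fin 10) F) * (t * (e σ' : GL (Fin 10) F)⁻¹) := by
        rw [h2, map_mul, map_mul, map_inv, Subgroup.coe_mul, Subgroup.coe_mul, Subgroup.coe_inv]
        group
      rw [h3]

end auto

end Cfsg.Agent.H923.Ten.A7
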