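import Cfsg.Agent.H923.Ten.A7TwoB

/-!
# Ten-dimensional modules of `A₇`: the spherical function (helper923)
-/

set_option autoImplicit false
set_option linter.unusedSectionVars false
set_option maxRecDepth 10000

namespace Cfsg.Agent.H923.Ten.A7

open Module Equiv

universe u v

variable {F : Type u} {V : Type v} [Field F] [AddCommGroup V] [Module F V] [FiniteDimensional F V]
variable {ρ : A →* (V →ₗ[F] V)}

/-- the dual representation -/
def dl (ρ : A →* (V →ₗ[F] V)) : A →* (Dual F V →ₗ[F] Dual F V) where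
  toFun g := (ρ g⁻¹).dualMap
  map_one' := by
    ext ξ v
    change ξ (ρ (1 : A)⁻¹ v) = ξ v
    rw [inv_one, act1]
  map_mul' x y := by
    ext ξ v
    change ξ (ρ (x * y)⁻¹ v) = ξ (ρ y⁻¹ (ρ x⁻¹ v))
    rw [act, mul_inv_rev]

theorem dl_apply (g : A) (ξ : Dual F V) (v : V) : dl ρ g ξ v = ξ (ρ g⁻¹ v) := rfl

theorem Irr.dual (h : Irr ρ) : Irr (dl ρ) where
  two := h.two
  dim := by rw [Subspace.dual_finrank_eq, h.dim]
  irr := by
    intro U hU
    have h1 := h.irr U.dualCoannihilator (by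
      intro g u hu
      rw [Submodule.mem_dualCoannihilator] at hu ⊢
      intro ξ hξ
      have h2 := hu _ (hU g⁻¹ ξ hξ)
      rwa [dl_apply, inv_inv] at h2)
    have h2 : U.dualCoannihilator.dualAnnihilator = U := Subspace.dualCoannihilator_dualAnnihilator_eq
    rcases h1 with h1 | h1
    · right; rw [← h2, h1, Submodule.dualAnnihilator_bot]
    · left; rw [← h2, h1, Submodule.dualAnnihilator_top]

/-- normal form of the elements of the stabiliser of `{4, 5, 6}` -/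
def nf (i : Fin 4) (j k : Fin 3) (l : Fin 2) : A :=
  (![1, s1, s2, s3] i) * a ^ (j : ℕ) * b ^ (k : ℕ) * w ^ (l : ℕ)

theorem Good.nf_act {v : V} (hv : Good ρ v) (i : Fin 4) (j k : Fin 3) (l : Fin 2) :
    ρ (nf i j k l) v = (-1 : F) ^ (l : ℕ) • v := by
  obtain ⟨-, h1, h2, ha, hb, hw, -⟩ := hv
  have hw' : ρ (w ^ (l : ℕ)) v = (-1 : F) ^ (l : ℕ) • v := by
    fin_cases l
    · change ρ (w ^ 0) v = (-1 : F) ^ 0 • v
      rw [pow_zero, pow_zero, act1, one_smul]
    · change ρ (w ^ 1) v = (-1 : F) ^ 1 • v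
      rw [pow_one, pow_one, hw, neg_smul, one_smul]
  have hb' : b ^ (k : ℕ) ∈ stab ρ v := (stab ρ v).pow_mem (show b ∈ stab ρ v from hb) _
  have ha' : a ^ (j : ℕ) ∈ stab ρ v := (stab ρ v).pow_mem (show a ∈ stab ρ v from ha) _
  have hs' : (![1, s1, s2, s3] i : A) ∈ stab ρ v := by
    fin_cases i
    · exact one_mem _
    · exact h1
    · exact h2
    · change ρ s3 v = v
      rw [s3_act, h2, h1]
  rw [nf, ← act, hw', map_smul]
  congr 1
  exact mul_mem (mul_mem hs' ha') hb'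

theorem Good.rel0 {v : V} (hv : Good ρ v) {g g' : A} (i : Fin 4) (j k : Fin 3) (e : g = g' * nf i j k 0) :
    ρ g v = ρ g' v := by
  have h1 := hv.nf_act i j k 0
  rw [show (-1 : F) ^ ((0 : Fin 2) : ℕ) = 1 from pow_zero _, one_smul] at h1
  rw [e, ← act, h1]

theorem Good.rel1 {v : V} (hv : Good ρ v) {g g' : A} (i : Fin 4) (j k : Fin 3) (e : g = g' * nf i j k 1) :
    ρ g v = -ρ g' v := by
  have h1 := hv.nf_act i j k 1
  rw [show (-1 : F) ^ ((1 : Fin 2) : ℕ) = -1 from pow_one _, neg_smul, one_smul] at h1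
  rw [e, ← act, h1, map_neg]

/-- the sum over the four-group -/
def es (ρ : A →* (V →ₗ[F] V)) (v : V) : V := v + ρ s1 v + ρ s2 v + ρ s3 v

theorem Good.es_eq {v : V} (hv : Good ρ v) (u : V) : ∃ κ : F, es ρ u = κ • v := by
  obtain ⟨-, h1, h2, ha, hb, hw, h6⟩ := hv
  have i1 : ∀ u, ρ s1 (ρ s1 u) = u := invol _ r_11
  have i2 : ∀ u, ρ s2 (ρ s2 u) = u := invol _ r_22
  have i3 : ∀ u, ρ s1 (ρ s2 u) = ρ s2 (ρ s1 u) := fun u => rel ρ r_12 u
  apply h6
  · rw [es, map_add, map_add, map_add, i1, s3_act, i1]; abel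
  · rw [es, map_add, map_add, map_add, i2, s3_act, i3, i2]; abel

/-- the situation after the second step -/
structure Sph (ρ : A →* (V →ₗ[F] V)) (v : V) (ξ : V →ₗ[F] F) (lam : F) : Prop where
  irr : Irr ρ
  good : Good ρ v
  nfv : ∀ i j k l, ρ (nf i j k l) v = (-1 : F) ^ (l : ℕ) • v
  nfx : ∀ i j k l u, ξ (ρ (nf i j k l) u) = (-1 : F) ^ (l : ℕ) * ξ u
  one : ξ v = 1
  x : ξ (ρ c6 v) = -(4 : F)⁻¹
  hlam : es ρ (ρ (e2 0 5 5 1 * e2 1 4 2 6) v) = lam • v
  sq : lam ^ 2 = -7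

theorem nf_inv_exists (i : Fin 4) (j k : Fin 3) (l : Fin 2) :
    ∃ i' j' k', (nf i j k l)⁻¹ = nf i' j' k' l := by
  revert i j k l; decide

theorem Irr.exists_sph (h : Irr ρ) : ∃ v ξ lam, Sph ρ v ξ lam := by
  obtain ⟨v, hv⟩ := h.exists_good
  obtain ⟨ξ0, hξ⟩ := h.dual.exists_good
  have h4 : (4 : F) ≠ 0 := by
    have : (4 : F) = 2 * 2 := by norm_num
    rw [this]; exact mul_ne_zero h.two h.two
  -- action on the functional
  have nx : ∀ i j k l u, ξ0 (ρ (nf i j k l) u) = (-1 : F) ^ (l : ℕ) * ξ0 u := by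
    intro i j k l u
    obtain ⟨i', j', k', e⟩ := nf_inv_exists i j k l
    have h1 := hξ.nf_act i' j' k' l
    rw [← e] at h1
    have h2 := LinearMap.congr_fun h1 u
    rw [dl_apply, inv_inv] at h2
    rw [h2]; rfl
  have n1 : ∀ u, ξ0 (ρ s1 u) = ξ0 u := fun u => by
    have := nx 1 0 0 0 u
    rwa [show nf 1 0 0 0 = s1 by decide, show (-1 : F) ^ ((0 : Fin 2) : ℕ) = 1 from pow_zero _, one_mul] at this
  have n2 : ∀ u, ξ0 (ρ s2 u) = ξ0 u := fun u => by
    have := nx 2 0 0 0 u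
    rwa [show nf 2 0 0 0 = s2 by decide, show (-1 : F) ^ ((0 : Fin 2) : ℕ) = 1 from pow_zero _, one_mul] at this
  have n3 : ∀ u, ξ0 (ρ s3 u) = ξ0 u := fun u => by
    have := nx 3 0 0 0 u
    rwa [show nf 3 0 0 0 = s3 by decide, show (-1 : F) ^ ((0 : Fin 2) : ℕ) = 1 from pow_zero _, one_mul] at this
  have nes : ∀ u, ξ0 (es ρ u) = 4 * ξ0 u := fun u => by
    rw [es, map_add, map_add, map_add, n1, n2, n3]; ring
  -- nonvanishing
  have hne : ξ0 v ≠ 0 := by
    intro h0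
    have h1 : ∀ g, ξ0 (ρ g v) = 0 := by
      intro g
      obtain ⟨κ, hκ⟩ := hv.es_eq (ρ g v)
      have h2 := nes (ρ g v)
      rw [hκ, map_smul, h0, smul_zero] at h2
      exact (mul_eq_zero.1 h2.symm).resolve_left h4
    rcases h.irr (Submodule.span F (Set.range fun g => ρ g v)) (by
      intro g u hu
      induction hu using Submodule.span_induction with
      | mem x hx =>
        obtain ⟨y, rfl⟩ := hx
        rw [act]
        exact Submodule.subset_span ⟨_, rfl⟩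
      | zero => rw [map_zero]; exact zero_mem _
      | add x y _ _ hx hy => rw [map_add]; exact add_mem hx hy
      | smul c x _ hx => rw [map_smul]; exact Submodule.smul_mem _ _ hx) with h2 | h2
    · apply hv.1
      rw [← Submodule.mem_bot F, ← h2]
      exact Submodule.subset_span ⟨1, act1 ρ v⟩
    · apply hξ.1
      apply LinearMap.ext
      intro u
      have hu : u ∈ Submodule.span F (Set.range fun g => ρ g v) := by rw [h2]; trivial
      induction hu using Submodule.span_induction with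
      | mem x hx => obtain ⟨y, rfl⟩ := hx; exact h1 y
      | zero => rw [map_zero, map_zero]
      | add x y _ _ hx hy => rw [map_add, hx, hy, LinearMap.zero_apply, LinearMap.zero_apply, LinearMap.zero_apply, add_zero]
      | smul c x _ hx => rw [map_smul, hx, LinearMap.zero_apply, LinearMap.zero_apply, smul_zero]
  set ξ : V →ₗ[F] F := (ξ0 v)⁻¹ • ξ0 with hξdef
  have ξap : ∀ u, ξ u = (ξ0 v)⁻¹ * ξ0 u := fun u => rfl
  have h1 : ξ v = 1 := by rw [ξap, inv_mul_cancel₀ hne]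
  have nx' : ∀ i j k l u, ξ (ρ (nf i j k l) u) = (-1 : F) ^ (l : ℕ) * ξ u := by
    intro i j k l u
    rw [ξap, ξap, nx]; ring
  have nes' : ∀ u, ξ (es ρ u) = 4 * ξ u := fun u => by
    rw [ξap, ξap, nes]; ring
  -- the value at `c6`
  have hx : ξ (ρ c6 v) = -(4 : F)⁻¹ := by
    obtain ⟨κ, hκ⟩ := hv.es_eq (ρ c6 v)
    have hκ1 : κ = -1 := by
      by_contra hne1
      have hne2 : 1 + κ ≠ 0 := fun h0 => hne1 (by linear_combination h0)
      have e0 : v + es ρ (ρ c6 v) = (1 + κ) • v := by rw [hκ, add_smul, one_smul]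
      have e1 : ρ c6 (ρ c6 v) = ρ s1 (ρ c6 v) := by
        rw [act, act]; exact hv.rel0 1 0 0 (by decide)
      have e2' : ρ c6 (ρ s1 (ρ c6 v)) = v := by
        rw [act, act]
        exact (hv.rel0 (g' := 1) 1 0 0 (by decide)).trans (act1 ρ v)
      have e3 : ρ c6 (ρ s2 (ρ c6 v)) = ρ s2 (ρ c6 v) := by
        rw [act, act, act]; exact hv.rel0 0 1 0 (by decide)
      have e4 : ρ c6 (ρ s3 (ρ c6 v)) = ρ s3 (ρ c6 v) := by
        rw [act, act, act]; exact hv.rel0 0 2 0 (by decide)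
      have e5 := congrArg (ρ c6) e0
      rw [map_smul, es, map_add, map_add, map_add, map_add, e1, e2', e3, e4] at e5
      have e6 : (1 + κ) • v = (1 + κ) • ρ c6 v := by
        rw [← e5, ← e0, es]; abel
      have e7 : ρ c6 v = v := (smul_right_injective V hne2 e6).symm
      apply hv.1
      apply h.fix_zero
      have hb : b ∈ stab ρ v := hv.2.2.2.2.1
      have h6 : c6 ∈ stab ρ v := e7
      have h4' : c4 ∈ stab ρ v := by
        rw [show c4 = b * c6 * b⁻¹ by decide]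
        exact mul_mem (mul_mem hb h6) (inv_mem hb)
      refine top_of_c _ ?_ ?_ h4' ?_ h6
      · exact (hv.rel0 (g' := 1) 1 2 0 (by decide)).trans (act1 ρ v)
      · exact (hv.rel0 (g' := 1) 1 1 0 (by decide)).trans (act1 ρ v)
      · rw [show c5 = b * c4 * b⁻¹ by decide]
        exact mul_mem (mul_mem hb h4') (inv_mem hb)
    have e8 := nes' (ρ c6 v)
    rw [hκ, hκ1, map_smul, h1, smul_eq_mul, mul_one] at e8
    rw [eq_neg_iff_add_eq_zero]
    have e9 : (4 : F) * (ξ (ρ c6 v) + 4⁻¹) = 0 := by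
      rw [mul_add, ← e8, mul_inv_cancel₀ h4]; ring
    exact (mul_eq_zero.1 e9).resolve_left h4
  obtain ⟨lam, hlam⟩ := hv.es_eq (ρ (e2 0 5 5 1 * e2 1 4 2 6) v)
  refine ⟨v, ξ, lam, h, hv, hv.nf_act, nx', h1, hx, hlam, ?_⟩
  -- the square
  set g0 : A := e2 0 5 5 1 * e2 1 4 2 6 with hg0
  have y1 : 4 * ξ (ρ g0 v) = lam := by
    rw [← nes', hlam, map_smul, h1, smul_eq_mul, mul_one]
  have y2 : ρ g0⁻¹ v = -ρ g0 v := hv.rel1 0 0 0 (by rw [hg0]; decide)
  have y3 : ξ (ρ g0⁻¹ (es ρ (ρ g0 v))) = lam * ξ (ρ g0⁻¹ v) := by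
    rw [hlam, map_smul, map_smul, smul_eq_mul]
  have z : ∀ (k : A) (i : Fin 4) (j m : Fin 3) (l : Fin 2) (i' : Fin 4) (j' m' : Fin 3) (l' : Fin 2),
      g0⁻¹ * k * g0 = nf i j m l * (c6 * nf i' j' m' l') →
      ξ (ρ g0⁻¹ (ρ k (ρ g0 v))) = (-1) ^ (l : ℕ) * ((-1) ^ (l' : ℕ) * -(4 : F)⁻¹) := by
    intro k i j m l i' j' m' l' e
    rw [act, act, e, ← act, ← act, nx', hv.nf_act, map_smul, map_smul, hx, smul_eq_mul]
  have z1 := z s1 0 2 0 1 0 1 0 0 (by rw [hg0]; decide)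
  have z2 := z s2 0 2 2 1 0 1 1 0 (by rw [hg0]; decide)
  have z3 := z s3 0 2 1 1 0 1 2 0 (by rw [hg0]; decide)
  rw [es, map_add, map_add, map_add, map_add, map_add, map_add, z1, z2, z3, inv_act, h1, y2, map_neg] at y3
  have y4 : (1 : F) + 4⁻¹ + 4⁻¹ + 4⁻¹ = -(lam * ξ (ρ g0 v)) := by
    have hl0 : (-1 : F) ^ ((0 : Fin 2) : ℕ) = 1 := pow_zero _
    have hl1 : (-1 : F) ^ ((1 : Fin 2) : ℕ) = -1 := pow_one _
    rw [hl0, hl1] at y3
    linear_combination y3
  have y5 : (4 : F) * (1 + 4⁻¹ + 4⁻¹ + 4⁻¹) = 7 := by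
    have : (4 : F) * (1 + 4⁻¹ + 4⁻¹ + 4⁻¹) = 4 + 3 * (4 * 4⁻¹) := by ring
    rw [this, mul_inv_cancel₀ h4]; norm_num
  rw [y4] at y5
  linear_combination (-1 : F) * y5 - lam * y1

end Cfsg.Agent.H923.Ten.A7
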