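import Cfsg.Agent.H923.Ten.A7Rep

/-!
# The model of the ten-dimensional module of `A₇` (helper923)
-/

set_option autoImplicit false
set_option linter.unusedSectionVars false
set_option maxRecDepth 20000

namespace Cfsg.Agent.H923.Ten.A7

open Module Matrix Cfsg Cfsg.Geo
open Cfsg.Agent.LieClassical.GUOrder

universe u v

section sym

variable {F : Type u} [Field F]

def ix : Fin 10 → Fin 4 × Fin 4 :=
  ![(0, 0), (0, 1), (0, 2), (0, 3), (1, 1), (1, 2), (1, 3), (2, 2), (2, 3), (3, 3)]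

theorem ix_surj : ∀ i j : Fin 4, ∃ k, ix k = (i, j) ∨ ix k = (j, i) := by decide

/-- coordinates -/
def cd (F : Type u) [Field F] : Matrix (Fin 4) (Fin 4) F →ₗ[F] (Fin 10 → F) where
  toFun X k := X (ix k).1 (ix k).2
  map_add' _ _ := rfl
  map_smul' _ _ := rfl

theorem cd_inj {X Y : Matrix (Fin 4) (Fin 4) F} (hX : Xᵀ = X) (hY : Yᵀ = Y) (h : cd F X = cd F Y) : X = Y := by
  ext i j
  obtain ⟨k, hk | hk⟩ := ix_surj i j
  · have := congrFun h k
    change X (ix k).1 (ix k).2 = Y (ix k).1 (ix k).2 at this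
    rwa [hk] at this
  · have := congrFun h k
    change X (ix k).1 (ix k).2 = Y (ix k).1 (ix k).2 at this
    rw [hk] at this
    have e1 : X i j = X j i := by rw [← congrFun (congrFun hX i) j]; rfl
    have e2 : Y i j = Y j i := by rw [← congrFun (congrFun hY i) j]; rfl
    rw [e1, e2]
    exact this

theorem sym_surj {Φ : (Fin 10 → F) →ₗ[F] Matrix (Fin 4) (Fin 4) F} (hinj : Function.Injective Φ)
    (hsym : ∀ v, (Φ v)ᵀ = Φ v) {X : Matrix (Fin 4) (Fin 4) F} (hX : Xᵀ = X) : ∃ v, Φ v = X := by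
  have h1 : Function.Injective ((cd F).comp Φ) := fun a b hab => hinj (cd_inj (hsym a) (hsym b) hab)
  obtain ⟨v, hv⟩ := (LinearMap.injective_iff_surjective.1 h1) (cd F X)
  exact ⟨v, cd_inj (hsym v) hX hv⟩

/-- elements acting as scalars are scalars -/
theorem sym_scalar {G : GL (Fin 4) F} {c : F}
    (h : ∀ X : Matrix (Fin 4) (Fin 4) F, Xᵀ = X →
      (G : Matrix (Fin 4) (Fin 4) F) * X * (G : Matrix (Fin 4) (Fin 4) F)ᵀ = c • X) : G ∈ scalars (Fin 4) F := by
  set A : Matrix (Fin 4) (Fin 4) F := (G : Matrix (Fin 4) (Fin 4) F) with hA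
  have e1 : ∀ i j k l : Fin 4, A i k * A j l + A i l * A j k =
      c * ((if i = k ∧ j = l then 1 else 0) + if i = l ∧ j = k then 1 else 0) := by
    intro i j k l
    have h1 := h (Matrix.single k l 1 + Matrix.single l k 1) (by
      rw [Matrix.transpose_add, Matrix.transpose_single, Matrix.transpose_single, add_comm])
    have h2 := congrFun (congrFun h1 i) j
    rw [Matrix.mul_add, Matrix.add_mul, Matrix.smul_apply, Matrix.add_apply, Matrix.add_apply] at h2
    have h3 : ∀ k l : Fin 4, (A * Matrix.single k l (1 : F) * Aᵀ) i j = A i k * A j l := by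
      intro k l
      rw [Matrix.mul_apply, Finset.sum_eq_single l]
      · rw [Matrix.mul_single_apply_same, mul_one, Matrix.transpose_apply]
      · intro b _ hb
        rw [Matrix.mul_single_apply_of_ne (hbj := hb), zero_mul]
      · intro h0; exact absurd (Finset.mem_univ _) h0
    rw [h3, h3] at h2
    rw [h2, smul_eq_mul]
    congr 2
    · rw [Matrix.single_apply]; simp only [eq_comm]
    · rw [Matrix.single_apply]; simp only [eq_comm]
  have e0 : ∀ i j k : Fin 4, A i k * A j k = c * (if i = k ∧ j = k then 1 else 0) := by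
    intro i j k
    have h1 := h (Matrix.single k k 1) (by rw [Matrix.transpose_single])
    have h2 := congrFun (congrFun h1 i) j
    have h3 : (A * Matrix.single k k (1 : F) * Aᵀ) i j = A i k * A j k := by
      rw [Matrix.mul_apply, Finset.sum_eq_single k]
      · rw [Matrix.mul_single_apply_same, mul_one, Matrix.transpose_apply]
      · intro b _ hb
        rw [Matrix.mul_single_apply_of_ne (hbj := hb), zero_mul]
      · intro h0; exact absurd (Finset.mem_univ _) h0
    rw [h3, Matrix.smul_apply, smul_eq_mul, Matrix.single_apply] at h2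
    rw [h2]
    simp only [eq_comm]
  -- off-diagonal entries vanish
  have e2 : ∀ i k : Fin 4, i ≠ k → A i k = 0 := by
    intro i k hik
    have := e0 i i k
    rw [if_neg (fun h => hik h.1), mul_zero] at this
    exact mul_self_eq_zero.1 this
  have e3 : ∀ k : Fin 4, A k k * A k k = c := by
    intro k
    have := e0 k k k
    rwa [if_pos ⟨rfl, rfl⟩, mul_one] at this
  have e4 : ∀ k l : Fin 4, k ≠ l → A k k * A l l = c := by
    intro k l hkl
    have := e1 k l k l
    rw [e2 k l hkl, zero_mul, add_zero, if_pos ⟨rfl, rfl⟩, if_neg (fun h => hkl h.1), add_zero, mul_one] at this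
    exact this
  have e5 : A 0 0 ≠ 0 := by
    intro h0
    have hc : c = 0 := by rw [← e3 0, h0, mul_zero]
    have hA0 : A = 0 := by
      ext i j
      by_cases hij : i = j
      · subst hij
        have := e3 i
        rw [hc] at this
        exact mul_self_eq_zero.1 this
      · exact e2 i j hij
    have h1 : A * ((G⁻¹ : GL (Fin 4) F) : Matrix (Fin 4) (Fin 4) F) = 1 := by
      rw [hA, ← Units.val_mul, mul_inv_cancel, Units.val_one]
    rw [hA0, Matrix.zero_mul] at h1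
    exact absurd (congrFun (congrFun h1 0) 0) (by simp)
  rw [mem_scalars_iff]
  refine ⟨Units.mk0 _ e5, ?_⟩
  rw [← hA, Units.val_mk0]
  ext i j
  rw [Matrix.smul_apply, Matrix.one_apply, smul_eq_mul]
  by_cases hij : i = j
  · subst hij
    rw [if_pos rfl, mul_one]
    by_cases hi : i = 0
    · rw [hi]
    · have h1 := e4 0 i (Ne.symm hi)
      rw [← e3 0] at h1
      exact mul_left_cancel₀ e5 h1
  · rw [if_neg hij, mul_zero]
    exact e2 i j hij

end sym

section gen

variable {F : Type u} [Field F]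

theorem MF_28 {r : F} (hr : r * r = ((-7 : ℤ) : F)) {a : Fin 4 → Fin 4 → ℤ√(-7)}
    (h : ∀ i j, a i j = if i = j then ⟨28, 0⟩ else 0) : MF r hr a = (28 : F) • 1 := by
  ext i j
  rw [MF, Matrix.of_apply, h, Matrix.smul_apply, Matrix.one_apply, smul_eq_mul]
  by_cases hij : i = j
  · rw [if_pos hij, if_pos hij, ev_apply]; norm_num
  · rw [if_neg hij, if_neg hij, map_zero, mul_zero]

/-- the generator attached to a table -/
noncomputable def gG (r : F) (hr : r * r = ((-7 : ℤ) : F)) (h0 : r ≠ 0) (h2 : (2 : F) ≠ 0) (h28 : (28 : F) ≠ 0)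
    (M : Fin 4 → Fin 4 → ℤ√(-7))
    (hM : ∀ i j : Fin 4, mul4 M (fun a b => star (M b a)) i j = if i = j then ⟨28, 0⟩ else 0)
    (hM' : ∀ i j : Fin 4, mul4 (fun a b => star (M b a)) M i j = if i = j then ⟨28, 0⟩ else 0) : GL (Fin 4) F where
  val := (2 * r)⁻¹ • MF r hr M
  inv := ((2 * r) * 28⁻¹) • MF r hr (fun a b => star (M b a))
  val_inv := by
    rw [Matrix.smul_mul, Matrix.mul_smul, MF_mul, MF_28 hr hM, smul_smul, smul_smul]
    have : (2 * r)⁻¹ * (2 * r * 28⁻¹ * 28) = 1 := by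
      field_simp
    rw [mul_assoc, this, one_smul]
  inv_val := by
    rw [Matrix.smul_mul, Matrix.mul_smul, MF_mul, MF_28 hr hM', smul_smul, smul_smul]
    have : (2 * r) * 28⁻¹ * (2 * r)⁻¹ * 28 = 1 := by
      field_simp
    rw [this, one_smul]

theorem gG_conj {r : F} (hr : r * r = ((-7 : ℤ) : F)) (h0 : r ≠ 0) (h2 : (2 : F) ≠ 0) (h28 : (28 : F) ≠ 0)
    {M : Fin 4 → Fin 4 → ℤ√(-7)}
    (hM : ∀ i j : Fin 4, mul4 M (fun a b => star (M b a)) i j = if i = j then ⟨28, 0⟩ else 0)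
    (hM' : ∀ i j : Fin 4, mul4 (fun a b => star (M b a)) M i j = if i = j then ⟨28, 0⟩ else 0)
    {X Y : Matrix (Fin 4) (Fin 4) F} (h : (-28 : F) • Y = MF r hr M * X * (MF r hr M)ᵀ) :
    Y = (gG r hr h0 h2 h28 M hM hM' : Matrix (Fin 4) (Fin 4) F) * X *
      (gG r hr h0 h2 h28 M hM hM' : Matrix (Fin 4) (Fin 4) F)ᵀ := by
  change Y = ((2 * r)⁻¹ • MF r hr M) * X * ((2 * r)⁻¹ • MF r hr M)ᵀ
  rw [Matrix.transpose_smul, Matrix.smul_mul, Matrix.smul_mul, Matrix.mul_smul, ← h, smul_smul, smul_smul]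
  have : (2 * r)⁻¹ * (2 * r)⁻¹ * -28 = 1 := by
    have h3 : (-28 : F) = (2 * r) * (2 * r) := by
      have : (2 * r) * (2 * r) = 4 * (r * r) := by ring
      rw [this, hr]; push_cast; ring
    rw [h3]
    field_simp
  rw [this, one_smul]

/-- the two generators -/
theorem exists_G {V : Type v} [AddCommGroup V] [Module F V] [FiniteDimensional F V]
    {ρ : A →* (V →ₗ[F] V)} {v : V} {ξ : V →ₗ[F] F} {lam : F} (h : Sph ρ v ξ lam) {r : F}
    (hr : r * r = ((-7 : ℤ) : F)) (h0 : r ≠ 0) (h2 : (2 : F) ≠ 0) (h28 : (28 : F) ≠ 0) (K : Subgroup (GL (Fin 4) F))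
    (k1 : gG r hr h0 h2 h28 (Mz Ml_c2) u_c2 u_c2' ∈ K) (k2 : gG r hr h0 h2 h28 (Mz Ml_g7) u_g7 u_g7' ∈ K) (g : A) :
    ∃ G ∈ K, ∀ u, Phi ρ ξ r hr (ρ g u) =
      (G : Matrix (Fin 4) (Fin 4) F) * Phi ρ ξ r hr u * (G : Matrix (Fin 4) (Fin 4) F)ᵀ := by
  let S : Subgroup A :=
    { carrier := {g | ∃ G ∈ K, ∀ u, Phi ρ ξ r hr (ρ g u) =
        (G : Matrix (Fin 4) (Fin 4) F) * Phi ρ ξ r hr u * (G : Matrix (Fin 4) (Fin 4) F)ᵀ}
      one_mem' := ⟨1, one_mem _, fun u => by
        rw [act1, Units.val_one, Matrix.transpose_one, Matrix.one_mul, Matrix.mul_one]⟩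
      mul_mem' := by
        rintro x y ⟨G, hG, hx⟩ ⟨G', hG', hy⟩
        refine ⟨G * G', mul_mem hG hG', fun u => ?_⟩
        rw [← act, hx, hy, Units.val_mul, Matrix.transpose_mul]
        simp only [Matrix.mul_assoc]
      inv_mem' := by
        rintro x ⟨G, hG, hx⟩
        refine ⟨G⁻¹, inv_mem hG, fun u => ?_⟩
        have h1 := hx (ρ x⁻¹ u)
        rw [act_inv] at h1
        rw [h1]
        have e1 : ((G⁻¹ : GL (Fin 4) F) : Matrix (Fin 4) (Fin 4) F) * (G : Matrix (Fin 4) (Fin 4) F) = 1 := by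
          rw [← Units.val_mul, inv_mul_cancel, Units.val_one]
        have e2 : (G : Matrix (Fin 4) (Fin 4) F)ᵀ * ((G⁻¹ : GL (Fin 4) F) : Matrix (Fin 4) (Fin 4) F)ᵀ = 1 := by
          rw [← Matrix.transpose_mul, e1, Matrix.transpose_one]
        generalize Phi ρ ξ r hr (ρ x⁻¹ u) = X
        symm
        calc ((G⁻¹ : GL (Fin 4) F) : Matrix (Fin 4) (Fin 4) F) * ((G : Matrix (Fin 4) (Fin 4) F) * X *
              (G : Matrix (Fin 4) (Fin 4) F)ᵀ) * ((G⁻¹ : GL (Fin 4) F) : Matrix (Fin 4) (Fin 4) F)ᵀ =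
            (((G⁻¹ : GL (Fin 4) F) : Matrix (Fin 4) (Fin 4) F) * (G : Matrix (Fin 4) (Fin 4) F)) * X *
              ((G : Matrix (Fin 4) (Fin 4) F)ᵀ * ((G⁻¹ : GL (Fin 4) F) : Matrix (Fin 4) (Fin 4) F)ᵀ) := by
              simp only [Matrix.mul_assoc]
          _ = X := by rw [e1, e2, Matrix.one_mul, Matrix.mul_one] }
  have m1 : c2 ∈ S := by
    refine ⟨_, k1, fun u => ?_⟩
    exact gG_conj hr h0 h2 h28 u_c2 u_c2' (h.step chk_c2 inj_c2 m_c2 r hr u)
  have m2 : g7 ∈ S := by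
    refine ⟨_, k2, fun u => ?_⟩
    exact gG_conj hr h0 h2 h28 u_g7 u_g7' (h.step chk_g7 inj_g7 m_g7 r hr u)
  have hS : S = ⊤ := top_of_g S m1 m2
  have : g ∈ S := by rw [hS]; trivial
  exact this

end gen

end Cfsg.Agent.H923.Ten.A7
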