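import Cfsg.Agent.H923.Ten.A7Sph

/-!
# Tables for the ten-dimensional module of `A₇` (helper923)
-/

set_option autoImplicit false
set_option maxRecDepth 20000

namespace Cfsg.Agent.H923.Ten.A7

/-- representatives -/
def gT : Fin 35 → A := ![
  e2 0 3 3 4 * e2 1 5 2 6,
  e2 0 2 2 4 * e2 1 5 3 6,
  e2 0 2 2 6 * e2 6 4 1 5,
  e2 0 2 2 4 * e2 1 6 6 5,
  e2 0 4 1 5,
  e2 0 1 1 4 * e2 2 5 3 6,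
  e2 0 1 1 6 * e2 6 4 2 5,
  e2 0 1 1 4 * e2 2 6 6 5,
  e2 0 4 2 5,
  e2 0 1 1 6 * e2 6 4 3 5,
  e2 0 1 1 4 * e2 3 6 6 5,
  e2 0 4 3 5,
  e2 0 1 1 6 * e2 6 5 5 4,
  e2 0 5 5 4,
  e2 0 1 1 4,
  e2 1 4 2 6 * e2 6 3 3 5,
  e2 1 3 3 6 * e2 6 4 2 5,
  e2 1 3 3 4 * e2 2 6 6 5,
  e2 1 4 2 5,
  e2 1 2 2 6 * e2 6 4 3 5,
  e2 1 2 2 4 * e2 3 6 6 5,
  e2 1 4 3 5,
  e2 1 2 2 6 * e2 6 5 5 4,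
  e2 1 5 5 4,
  e2 1 2 2 4,
  e2 2 5 5 3 * e2 3 6 6 4,
  e2 2 6 6 5 * e2 5 3 3 4,
  e2 2 4 3 5,
  e2 2 3 3 6 * e2 6 5 5 4,
  e2 2 5 5 4,
  e2 2 3 3 4,
  e2 2 6 6 5 * e2 5 4 4 3,
  e2 3 5 5 4,
  e2 2 4 4 3,
  1]

def pi_c2 : Fin 35 → Fin 35 := ![0, 15, 16, 17, 18, 1, 2, 3, 4, 19, 20, 21, 22, 23, 24, 5, 6, 7, 8, 25, 26, 27, 28, 29, 30, 9, 10, 11, 12, 13, 14, 31, 32, 33, 34]

def nl_c2 : Fin 35 → Fin 4 × Fin 3 × Fin 3 × Fin 2 := ![(0, 0, 1, 0), (0, 2, 0, 0), (0, 1, 0, 0), (0, 1, 0, 0), (1, 2, 0, 0), (2, 1, 0, 1), (2, 1, 0, 1), (2, 1, 0, 1), (2, 1, 0, 1), (1, 2, 0, 0), (1, 2, 0, 0), (1, 2, 0, 0), (1, 2, 0, 0), (1, 2, 0, 0), (1, 2, 0, 0), (1, 0, 0, 1), (3, 2, 0, 1), (3, 2, 0, 1), (0, 0, 0, 1), (1, 0, 0, 0), (1, 0, 0, 0), (1, 2, 0, 0), (1, 0, 0, 0), (1, 2,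 0, 0), (1, 0, 0, 0), (0, 1, 0, 0), (0, 1, 0, 0), (1, 2, 0, 0), (0, 1, 0, 0), (1, 2, 0, 0), (0, 1, 0, 0), (1, 1, 0, 0), (1, 2, 0, 0), (1, 1, 0, 0), (1, 2, 0, 0)]

def pi_g7 : Fin 35 → Fin 35 := ![15, 16, 17, 18, 0, 19, 20, 21, 1, 22, 23, 2, 24, 3, 4, 25, 26, 27, 5, 28, 29, 6, 30, 7, 8, 31, 32, 9, 33, 10, 11, 34, 12, 13, 14]

def nl_g7 : Fin 35 → Fin 4 × Fin 3 × Fin 3 × Fin 2 := ![(1, 2, 0, 0), (1, 1, 0, 0), (1, 2, 0, 0), (3, 2, 0, 0), (1, 2, 1, 0), (1, 1, 0, 0), (1, 0, 0, 0), (2, 0, 0, 0), (1, 0, 1, 0), (1, 0, 0, 0), (2, 2, 0, 0), (1, 0, 1, 0), (1, 0, 0, 0), (1, 0, 1, 0), (2, 2, 1, 0), (1, 2, 0, 0), (1, 1, 0, 0), (1, 2, 0, 0), (0, 1, 1, 0), (1, 2, 0, 0), (1, 1, 0, 0), (0, 1, 1, 0), (1, 2, 0, 0), (0, 1, 1, 0), (1, 1, 1, 0), (1, 1, 0, 0), (1, 2, 0, 0), (0,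 1, 1, 0), (1, 1, 0, 0), (0, 1, 1, 0), (1, 2, 1, 0), (1, 2, 0, 0), (0, 1, 1, 0), (1, 2, 1, 0), (0, 1, 1, 0)]

/-- classes: 0 trivial, 1 = `c6`, 2 = `r1`, 3 = `g0` -/
def r1 : A := e2 0 4 4 6 * e2 6 2 1 5

def cls : Fin 35 → Fin 4 := ![3, 3, 2, 2, 2, 3, 2, 2, 2, 2, 2, 2, 1, 1, 1, 3, 2, 2, 2, 2, 2, 2, 1, 1, 1, 2, 2, 2, 1, 1, 1, 1, 1, 1, 0]

def rep : Fin 4 → A := ![1, c6, r1, e2 0 5 5 1 * e2 1 4 2 6]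

def cl1 : Fin 35 → Fin 4 × Fin 3 × Fin 3 × Fin 2 := ![(1, 1, 0, 0), (1, 1, 0, 0), (0, 0, 0, 0), (0, 0, 0, 0), (0, 2, 0, 1), (1, 1, 0, 0), (0, 0, 0, 0), (0, 0, 0, 0), (0, 0, 0, 1), (0, 2, 0, 0), (0, 2, 0, 0), (0, 1, 0, 1), (0, 0, 1, 1), (0, 0, 1, 0), (0, 0, 1, 1), (1, 1, 0, 0), (0, 1, 0, 0), (0, 1, 0, 0), (0, 0, 0, 0), (0, 1, 0, 0), (0, 1, 0, 0), (0, 2, 0, 0), (0, 1, 1, 1), (0, 0, 1, 1), (0, 1, 1, 1), (0, 1, 0, 0), (0, 1, 0, 0), (0, 1, 0, 0), (0, 2, 1, 1), (0, 1, 1, 1), (0, 2, 1, 1), (0, 1, 1, 1), (0, 2, 1, 1), (0, 1, 1, 1), (0, 0, 0, 0)]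

def cl2 : Fin 35 → Fin 4 × Fin 3 × Fin 3 × Fin 2 := ![(0, 0, 0, 1), (1, 0, 2, 0), (0, 0, 0, 0), (0, 0, 2, 0), (1, 0, 1, 0), (3, 1, 2, 1), (2, 1, 2, 1), (2, 1, 0, 1), (1, 2, 1, 0), (0, 1, 0, 0), (0, 1, 2, 0), (1, 1, 1, 0), (0, 0, 0, 1), (0, 0, 2, 1), (0, 0, 1, 1), (3, 1, 0, 0), (2, 1, 0, 0), (2, 1, 2, 0), (2, 1, 1, 0), (0, 1, 2, 1), (0, 1, 0, 1), (0, 1, 1, 1), (1, 0, 0, 1), (0, 0, 1, 0), (1, 0, 1, 1), (2, 0, 0, 0), (2, 0, 2, 0), (2, 0, 1, 0), (2, 1, 0, 1), (0, 2, 1, 0), (2, 1, 1, 1), (3, 2, 0, 1), (0, 1, 1, 0), (3, 2, 1, 1), (0, 0, 0, 0)]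

/-- entries `p + q √-7` -/
def Sl : List (List (List (ℤ × ℤ))) := [
  [[(2, -2), (-1, 1), (-4, 0), (0, 0)], [(-1, 1), (-2, 2), (0, 0), (4, 0)], [(-4, 0), (0, 0), (-2, -2), (-1, -1)], [(0, 0), (4, 0), (-1, -1), (2, 2)]],
  [[(4, 0), (0, -2), (2, 0), (1, -1)], [(0, -2), (4, 0), (-1, -1), (2, 0)], [(2, 0), (-1, -1), (-4, 0), (0, 2)], [(1, -1), (2, 0), (0, 2), (-4, 0)]],
  [[(2, 2), (1, 1), (-1, -1), (1, 1)], [(1, 1), (4, 0), (3, 1), (-3, -1)], [(-1, -1), (3, 1), (4, 0), (3, 1)], [(1, 1), (-3, -1), (3, 1), (4, 0)]],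
  [[(-4, 0), (3, -1), (-1, 1), (-3, 1)], [(3, -1), (-4, 0), (-1, 1), (-3, 1)], [(-1, 1), (-1, 1), (-2, 2), (1, -1)], [(-3, 1), (-3, 1), (1, -1), (-4, 0)]],
  [[(-4, 0), (-3, 1), (4, 0), (1, -1)], [(-3, 1), (-2, -2), (-1, -1), (0, 0)], [(4, 0), (-1, -1), (4, 0), (-3, -1)], [(1, -1), (0, 0), (-3, -1), (2, -2)]],
  [[(4, 0), (0, 2), (2, 0), (1, 1)], [(0, 2), (4, 0), (-1, 1), (2, 0)], [(2, 0), (-1, 1), (-4, 0), (0, -2)], [(1, 1), (2, 0), (0, -2), (-4, 0)]],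
  [[(-4, 0), (-3, 1), (-3, 1), (1, -1)], [(-3, 1), (-4, 0), (3, -1), (-1, 1)], [(-3, 1), (3, -1), (-4, 0), (-1, 1)], [(1, -1), (-1, 1), (-1, 1), (-2, 2)]],
  [[(4, 0), (-1, -1), (-3, -1), (-3, -1)], [(-1, -1), (2, 2), (-1, -1), (-1, -1)], [(-3, -1), (-1, -1), (4, 0), (-3, -1)], [(-3, -1), (-1, -1), (-3, -1), (4, 0)]],
  [[(-2, -2), (3, -1), (0, 0), (1, 1)], [(3, -1), (-4, 0), (-1, 1), (4, 0)], [(0, 0), (-1, 1), (2, -2), (3, 1)], [(1, 1), (4, 0), (3, 1), (4, 0)]],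
  [[(2, -2), (0, 0), (1, -1), (4, 0)], [(0, 0), (2, 2), (-4, 0), (1, 1)], [(1, -1), (-4, 0), (-2, 2), (0, 0)], [(4, 0), (1, 1), (0, 0), (-2, -2)]],
  [[(2, 2), (0, 0), (1, 1), (4, 0)], [(0, 0), (2, -2), (-4, 0), (1, -1)], [(1, 1), (-4, 0), (-2, -2), (0, 0)], [(4, 0), (1, -1), (0, 0), (-2, 2)]],
  [[(4, 0), (0, 0), (2, 0), (-6, 0)], [(0, 0), (4, 0), (6, 0), (2, 0)], [(2, 0), (6, 0), (-4, 0), (0, 0)], [(-6, 0), (2, 0), (0, 0), (-4, 0)]],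
  [[(-4, 0), (-1, 1), (0, -2), (2, 0)], [(-1, 1), (4, 0), (2, 0), (0, 2)], [(0, -2), (2, 0), (-4, 0), (1, 1)], [(2, 0), (0, 2), (1, 1), (4, 0)]],
  [[(4, 0), (-1, 1), (-3, 1), (4, 0)], [(-1, 1), (-2, 2), (0, 0), (-3, -1)], [(-3, 1), (0, 0), (2, 2), (1, 1)], [(4, 0), (-3, -1), (1, 1), (-4, 0)]],
  [[(-2, 2), (1, -1), (-3, -1), (0, 0)], [(1, -1), (4, 0), (-4, 0), (-3, 1)], [(-3, -1), (-4, 0), (-4, 0), (-1, -1)], [(0, 0), (-3, 1), (-1, -1), (2, 2)]],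
  [[(2, 2), (-1, -1), (-4, 0), (0, 0)], [(-1, -1), (-2, -2), (0, 0), (4, 0)], [(-4, 0), (0, 0), (-2, 2), (-1, 1)], [(0, 0), (4, 0), (-1, 1), (2, -2)]],
  [[(-4, 0), (2, 0), (1, -1), (0, 2)], [(2, 0), (4, 0), (0, -2), (-1, -1)], [(1, -1), (0, -2), (4, 0), (2, 0)], [(0, 2), (-1, -1), (2, 0), (-4, 0)]],
  [[(-4, 0), (2, 0), (1, 1), (0, -2)], [(2, 0), (4, 0), (0, 2), (-1, 1)], [(1, 1), (0, 2), (4, 0), (2, 0)], [(0, -2), (-1, 1), (2, 0), (-4, 0)]],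
  [[(4, 0), (-2, 0), (6, 0), (0, 0)], [(-2, 0), (-4, 0), (0, 0), (-6, 0)], [(6, 0), (0, 0), (-4, 0), (-2, 0)], [(0, 0), (-6, 0), (-2, 0), (4, 0)]],
  [[(4, 0), (-1, 1), (-3, 1), (-3, 1)], [(-1, 1), (2, -2), (-1, 1), (-1, 1)], [(-3, 1), (-1, 1), (4, 0), (-3, 1)], [(-3, 1), (-1, 1), (-3, 1), (4, 0)]],
  [[(-4, 0), (-3, -1), (-3, -1), (1, 1)], [(-3, -1), (-4, 0), (3, 1), (-1, -1)], [(-3, -1), (3, 1), (-4, 0), (-1, -1)], [(1, 1), (-1, -1), (-1, -1), (-2, -2)]],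
  [[(-2, 2), (3, 1), (0, 0), (1, -1)], [(3, 1), (-4, 0), (-1, -1), (4, 0)], [(0, 0), (-1, -1), (2, 2), (3, -1)], [(1, -1), (4, 0), (3, -1), (4, 0)]],
  [[(2, -2), (4, 0), (0, 0), (-1, 1)], [(4, 0), (-2, -2), (-1, -1), (0, 0)], [(0, 0), (-1, -1), (2, 2), (-4, 0)], [(-1, 1), (0, 0), (-4, 0), (-2, 2)]],
  [[(-4, 0), (-4, 0), (-1, 1), (-3, 1)], [(-4, 0), (4, 0), (-3, -1), (1, 1)], [(-1, 1), (-3, -1), (2, -2), (0, 0)], [(-3, 1), (1, 1), (0, 0), (-2, -2)]],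
  [[(-2, -2), (0, 0), (-1, -1), (3, -1)], [(0, 0), (2, -2), (3, 1), (1, -1)], [(-1, -1), (3, 1), (4, 0), (-4, 0)], [(3, -1), (1, -1), (-4, 0), (-4, 0)]],
  [[(-4, 0), (3, 1), (-1, -1), (-3, -1)], [(3, 1), (-4, 0), (-1, -1), (-3, -1)], [(-1, -1), (-1, -1), (-2, -2), (1, 1)], [(-3, -1), (-3, -1), (1, 1), (-4, 0)]],
  [[(2, -2), (1, -1), (-1, 1), (1, -1)], [(1, -1), (4, 0), (3, -1), (-3, 1)], [(-1, 1), (3, -1), (4, 0), (3, -1)], [(1, -1), (-3, 1), (3, -1), (4, 0)]],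
  [[(-4, 0), (-3, -1), (4, 0), (1, 1)], [(-3, -1), (-2, 2), (-1, 1), (0, 0)], [(4, 0), (-1, 1), (4, 0), (-3, 1)], [(1, 1), (0, 0), (-3, 1), (2, 2)]],
  [[(2, 2), (4, 0), (0, 0), (-1, -1)], [(4, 0), (-2, 2), (-1, 1), (0, 0)], [(0, 0), (-1, 1), (2, -2), (-4, 0)], [(-1, -1), (0, 0), (-4, 0), (-2, -2)]],
  [[(2, -2), (0, 0), (1, -1), (-3, -1)], [(0, 0), (-2, -2), (-3, 1), (-1, -1)], [(1, -1), (-3, 1), (-4, 0), (4, 0)], [(-3, -1), (-1, -1), (4, 0), (4, 0)]],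
  [[(4, 0), (4, 0), (1, 1), (3, 1)], [(4, 0), (-4, 0), (3, -1), (-1, 1)], [(1, 1), (3, -1), (-2, -2), (0, 0)], [(3, 1), (-1, 1), (0, 0), (2, -2)]],
  [[(-4, 0), (-1, -1), (0, 2), (2, 0)], [(-1, -1), (4, 0), (2, 0), (0, -2)], [(0, 2), (2, 0), (-4, 0), (1, -1)], [(2, 0), (0, -2), (1, -1), (4, 0)]],
  [[(2, 2), (-1, -1), (3, -1), (0, 0)], [(-1, -1), (-4, 0), (4, 0), (3, 1)], [(3, -1), (4, 0), (4, 0), (1, -1)], [(0, 0), (3, 1), (1, -1), (-2, 2)]],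
  [[(-4, 0), (1, 1), (3, 1), (-4, 0)], [(1, 1), (2, 2), (0, 0), (3, -1)], [(3, 1), (0, 0), (-2, 2), (-1, 1)], [(-4, 0), (3, -1), (-1, 1), (4, 0)]],
  [[(4, 0), (-6, 0), (0, 0), (-2, 0)], [(-6, 0), (-4, 0), (-2, 0), (0, 0)], [(0, 0), (-2, 0), (4, 0), (6, 0)], [(-2, 0), (0, 0), (6, 0), (-4, 0)]]]

def Ml_c2 : List (List (ℤ × ℤ)) := [[(3, -1), (2, 0), (1, -1), (0, 0)], [(2, 0), (-3, -1), (0, 0), (-1, 1)], [(1, 1), (0, 0), (-3, -1), (2, 0)], [(0, 0), (-1, -1), (2, 0), (3, -1)]]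

def Ml_g7 : List (List (ℤ × ℤ)) := [[(3, -1), (0, 0), (-2, 0), (-1, 1)], [(-1, -1), (0, 0), (3, -1), (-2, 0)], [(0, 0), (0, -2), (0, 0), (0, 0)], [(2, 0), (0, 0), (1, -1), (4, 0)]]

end Cfsg.Agent.H923.Ten.A7
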