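import Cfsg.Agent.H923.Ten.A7Fix

/-!
# Ten-dimensional modules of `A₇`: the excluded case (helper923)
-/

set_option autoImplicit false
set_option linter.unusedSectionVars false

namespace Cfsg.Agent.H923.Ten.A7

open Module Equiv

universe u v

variable {F : Type u} {V : Type v} [Field F] [AddCommGroup V] [Module F V] [FiniteDimensional F V]
variable {ρ : A →* (V →ₗ[F] V)}

/-- the sum of the nontrivial weight spaces -/
def WW (ρ : A →* (V →ₗ[F] V)) : Submodule F V := W1 ρ ⊔ W2 ρ ⊔ W3 ρ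

theorem mem_WW {v : V} : v ∈ WW ρ ↔ ∃ v1 ∈ W1 ρ, ∃ v2 ∈ W2 ρ, ∃ v3 ∈ W3 ρ, v = v1 + v2 + v3 := by
  rw [WW, Submodule.mem_sup]
  constructor
  · rintro ⟨y, hy, v3, h3, rfl⟩
    obtain ⟨v1, h1, v2, h2, rfl⟩ := Submodule.mem_sup.1 hy
    exact ⟨v1, h1, v2, h2, v3, h3, rfl⟩
  · rintro ⟨v1, h1, v2, h2, v3, h3, rfl⟩
    exact ⟨v1 + v2, Submodule.add_mem_sup h1 h2, v3, h3, rfl⟩

theorem V0_inf_WW (h2 : (2 : F) ≠ 0) {v : V} (h0 : v ∈ V0 ρ) (hW : v ∈ WW ρ) : v = 0 := by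
  obtain ⟨v1, h1, v2, h2', v3, h3, rfl⟩ := mem_WW.1 hW
  exact (indep h2 h0 (neg_mem h1) (neg_mem h2') (neg_mem h3) (by abel)).1

theorem V0_sup_WW (h2 : (2 : F) ≠ 0) : V0 ρ ⊔ WW ρ = ⊤ := by
  rw [eq_top_iff]
  intro v _
  obtain ⟨v0, hv0, v1, hv1, v2, hv2, v3, hv3, rfl⟩ := decomp (ρ := ρ) h2 v
  rw [add_assoc, add_assoc, ← add_assoc v1]
  exact Submodule.add_mem_sup hv0 (mem_WW.2 ⟨v1, hv1, v2, hv2, v3, hv3, rfl⟩)

theorem a_WW {v : V} (hv : v ∈ WW ρ) : ρ a v ∈ WW ρ := by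
  obtain ⟨v1, h1, v2, h2', v3, h3, rfl⟩ := mem_WW.1 hv
  rw [map_add, map_add]
  exact mem_WW.2 ⟨_, a_W3 h3, _, a_W1 h1, _, a_W2 h2', by abel⟩

theorem s2_WW {v : V} (hv : v ∈ WW ρ) : ρ s2 v ∈ WW ρ := by
  obtain ⟨v1, h1, v2, h2', v3, h3, rfl⟩ := mem_WW.1 hv
  rw [map_add, map_add, (mem_W1.1 h1).2, (mem_W2.1 h2').2, (mem_W3.1 h3).2]
  exact mem_WW.2 ⟨_, neg_mem h1, _, h2', _, neg_mem h3, rfl⟩

theorem r_c2 : c2 * 1 = (a⁻¹ * s2) * 1 := by decide

theorem c2_act (v : V) : ρ c2 v = ρ a (ρ a (ρ s2 v)) := by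
  have h1 := rel ρ r_c2 v
  rw [act1, ← act, ai] at h1
  exact h1

def ga : A := e2 1 4 2 6 * e2 6 3 3 5
def gc : A := e2 0 3 3 6 * e2 1 4 2 5

theorem k_a : ga * b * ga⁻¹ = a := by decide
theorem k_c : gc * b * gc⁻¹ = c2 := by decide
theorem k_1 : ga * s1 * ga⁻¹ = e2 0 4 5 6 := by decide
theorem k_2 : ga * s2 * ga⁻¹ = e2 0 6 4 5 := by decide
theorem k_3 : gc * s1 * gc⁻¹ = e2 3 4 5 6 := by decide
theorem k_4 : gc * s2 * gc⁻¹ = e2 3 5 4 6 := by decide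
theorem k_5 : gc * a * gc⁻¹ = b := by decide

theorem stab_conj {g k g' : A} {v : V} (e : g * k * g⁻¹ = g') (hk : ρ k (ρ g⁻¹ v) = ρ g⁻¹ v) : ρ g' v = v := by
  rw [← e, ← act, ← act, hk, act_inv]

/-- sifting: the pointwise stabiliser of `1` and `2` -/
theorem sift (K : Subgroup A) (h1 : e2 0 4 5 6 ∈ K) (h2 : e2 0 6 4 5 ∈ K) (h3 : e2 3 4 5 6 ∈ K)
    (h4 : e2 3 5 4 6 ∈ K) (h5 : b ∈ K) (g : A) (g1 : g.1 1 = 1) (g2 : g.1 2 = 2) : g ∈ K := by
  have inj := g.1.injective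
  -- first point
  obtain ⟨k, hk, k1, k2, k0⟩ : ∃ k ∈ K, k.1 1 = 1 ∧ k.1 2 = 2 ∧ k.1 0 = g.1 0 := by
    have h6 : g.1 0 ≠ 1 := fun h => absurd (inj (h.trans g1.symm)) (by decide)
    have h7 : g.1 0 ≠ 2 := fun h => absurd (inj (h.trans g2.symm)) (by decide)
    generalize g.1 0 = t at h6 h7
    fin_cases t
    · exact ⟨1, one_mem _, by decide⟩
    · exact absurd rfl h6
    · exact absurd rfl h7
    · exact ⟨_, mul_mem h3 h1, by decide⟩
    · exact ⟨_, h1, by decide⟩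
    · exact ⟨_, mul_mem h1 h2, by decide⟩
    · exact ⟨_, h2, by decide⟩
  suffices hs : k⁻¹ * g ∈ K by
    have := mul_mem hk hs
    rwa [mul_inv_cancel_left] at this
  have ap : ∀ (x y : A) (i j l : Fin 7), y.1 i = j → x.1 l = j → (x⁻¹ * y).1 i = l := by
    intro x y i j l h h'
    change x.1⁻¹ (y.1 i) = l
    rw [h, ← h']
    exact Equiv.symm_apply_apply x.1 l
  have f0 : (k⁻¹ * g).1 0 = 0 := ap k g 0 _ 0 rfl k0
  have f1 : (k⁻¹ * g).1 1 = 1 := ap k g 1 _ 1 g1 k1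
  have f2 : (k⁻¹ * g).1 2 = 2 := ap k g 2 _ 2 g2 k2
  generalize k⁻¹ * g = x at f0 f1 f2
  clear g1 g2 inj ap k0 k1 k2 hk k g
  have inj := x.1.injective
  obtain ⟨k, hk, k0, k1, k2, k3⟩ : ∃ k ∈ K, k.1 0 = 0 ∧ k.1 1 = 1 ∧ k.1 2 = 2 ∧ k.1 3 = x.1 3 := by
    have h6 : x.1 3 ≠ 0 := fun h => absurd (inj (h.trans f0.symm)) (by decide)
    have h7 : x.1 3 ≠ 1 := fun h => absurd (inj (h.trans f1.symm)) (by decide)
    have h8 : x.1 3 ≠ 2 := fun h => absurd (inj (h.trans f2.symm)) (by decide)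
    generalize x.1 3 = t at h6 h7 h8
    fin_cases t
    · exact absurd rfl h6
    · exact absurd rfl h7
    · exact absurd rfl h8
    · exact ⟨1, one_mem _, by decide⟩
    · exact ⟨_, h3, by decide⟩
    · exact ⟨_, h4, by decide⟩
    · exact ⟨_, mul_mem h3 h4, by decide⟩
  suffices hs : k⁻¹ * x ∈ K by
    have := mul_mem hk hs
    rwa [mul_inv_cancel_left] at this
  have ap : ∀ (x y : A) (i j l : Fin 7), y.1 i = j → x.1 l = j → (x⁻¹ * y).1 i = l := by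
    intro x y i j l h h'
    change x.1⁻¹ (y.1 i) = l
    rw [h, ← h']
    exact Equiv.symm_apply_apply x.1 l
  have f0' : (k⁻¹ * x).1 0 = 0 := ap k x 0 _ 0 f0 k0
  have f1' : (k⁻¹ * x).1 1 = 1 := ap k x 1 _ 1 f1 k1
  have f2' : (k⁻¹ * x).1 2 = 2 := ap k x 2 _ 2 f2 k2
  have f3' : (k⁻¹ * x).1 3 = 3 := ap k x 3 _ 3 rfl k3
  generalize k⁻¹ * x = y at f0' f1' f2' f3'
  clear f0 f1 f2 inj ap k0 k1 k2 k3 hk k x
  have inj := y.1.injective
  obtain ⟨k, hk, k0, k1, k2, k3, k4⟩ : ∃ k ∈ K, k.1 0 = 0 ∧ k.1 1 = 1 ∧ k.1 2 = 2 ∧ k.1 3 = 3 ∧ k.1 4 = y.1 4 := by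
    have h6 : y.1 4 ≠ 0 := fun h => absurd (inj (h.trans f0'.symm)) (by decide)
    have h7 : y.1 4 ≠ 1 := fun h => absurd (inj (h.trans f1'.symm)) (by decide)
    have h8 : y.1 4 ≠ 2 := fun h => absurd (inj (h.trans f2'.symm)) (by decide)
    have h9 : y.1 4 ≠ 3 := fun h => absurd (inj (h.trans f3'.symm)) (by decide)
    generalize y.1 4 = t at h6 h7 h8 h9
    fin_cases t
    · exact absurd rfl h6
    · exact absurd rfl h7
    · exact absurd rfl h8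
    · exact absurd rfl h9
    · exact ⟨1, one_mem _, by decide⟩
    · exact ⟨_, h5, by decide⟩
    · exact ⟨_, mul_mem h5 h5, by decide⟩
  suffices hs : k⁻¹ * y ∈ K by
    have := mul_mem hk hs
    rwa [mul_inv_cancel_left] at this
  have ap : ∀ (x y : A) (i j l : Fin 7), y.1 i = j → x.1 l = j → (x⁻¹ * y).1 i = l := by
    intro x y i j l h h'
    change x.1⁻¹ (y.1 i) = l
    rw [h, ← h']
    exact Equiv.symm_apply_apply x.1 l
  have g0 : (k⁻¹ * y).1 0 = 0 := ap k y 0 _ 0 f0' k0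
  have g1 : (k⁻¹ * y).1 1 = 1 := ap k y 1 _ 1 f1' k1
  have g2 : (k⁻¹ * y).1 2 = 2 := ap k y 2 _ 2 f2' k2
  have g3 : (k⁻¹ * y).1 3 = 3 := ap k y 3 _ 3 f3' k3
  have g4 : (k⁻¹ * y).1 4 = 4 := ap k y 4 _ 4 rfl k4
  generalize k⁻¹ * y = z at g0 g1 g2 g3 g4
  have inj := z.1.injective
  have h6 : z.1 5 ≠ 0 := fun h => absurd (inj (h.trans g0.symm)) (by decide)
  have h7 : z.1 5 ≠ 1 := fun h => absurd (inj (h.trans g1.symm)) (by decide)
  have h8 : z.1 5 ≠ 2 := fun h => absurd (inj (h.trans g2.symm)) (by decide)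
  have h9 : z.1 5 ≠ 3 := fun h => absurd (inj (h.trans g3.symm)) (by decide)
  have h10 : z.1 5 ≠ 4 := fun h => absurd (inj (h.trans g4.symm)) (by decide)
  have l6 : z.1 6 ≠ 0 := fun h => absurd (inj (h.trans g0.symm)) (by decide)
  have l7 : z.1 6 ≠ 1 := fun h => absurd (inj (h.trans g1.symm)) (by decide)
  have l8 : z.1 6 ≠ 2 := fun h => absurd (inj (h.trans g2.symm)) (by decide)
  have l9 : z.1 6 ≠ 3 := fun h => absurd (inj (h.trans g3.symm)) (by decide)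
  have l10 : z.1 6 ≠ 4 := fun h => absurd (inj (h.trans g4.symm)) (by decide)
  have l11 : z.1 6 ≠ z.1 5 := fun h => absurd (inj h) (by decide)
  have h11 : z.1 5 = 5 ∨ z.1 5 = 6 := by
    generalize z.1 5 = t at h6 h7 h8 h9 h10
    revert t; decide
  have h12 : z.1 6 = 5 ∨ z.1 6 = 6 := by
    generalize z.1 6 = t at l6 l7 l8 l9 l10
    revert t; decide
  rcases h11 with h13 | h13
  · have h14 : z.1 6 = 6 := h12.resolve_left (fun h => l11 (h.trans h13.symm))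
    have : z = 1 := by
      apply Subtype.ext
      apply Equiv.ext
      intro i
      fin_cases i
      · exact g0
      · exact g1
      · exact g2
      · exact g3
      · exact g4
      · exact h13
      · exact h14
    rw [this]; exact one_mem _
  · exfalso
    have h14 : z.1 6 = 5 := h12.resolve_right (fun h => l11 (h.trans h13.symm))
    have h15 : z.1 = swap 5 6 := by
      apply Equiv.ext
      intro i
      fin_cases i
      · exact g0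
      · exact g1
      · exact g2
      · exact g3
      · exact g4
      · exact h13
      · exact h14
    have h16 := z.2
    rw [Perm.mem_alternatingGroup, h15, Perm.sign_swap (by decide)] at h16
    exact absurd h16 (by decide)

end Cfsg.Agent.H923.Ten.A7
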