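import Cfsg.Agent.H923.Ten.A7Two

/-!
# Ten-dimensional modules of `A₇`: the excluded case, conclusion (helper923)
-/

set_option autoImplicit false
set_option linter.unusedSectionVars false

namespace Cfsg.Agent.H923.Ten.A7

open Module Equiv

universe u v

variable {F : Type u} {V : Type v} [Field F] [AddCommGroup V] [Module F V] [FiniteDimensional F V]
variable {ρ : A →* (V →ₗ[F] V)}

theorem mem_range_conj {g k g' : A} {v : V} (e : g * k * g⁻¹ = g') (hv : v ∈ LinearMap.range (ρ g' - 1)) :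
    ρ g⁻¹ v ∈ LinearMap.range (ρ k - 1) := by
  obtain ⟨u, rfl⟩ := hv
  refine ⟨ρ g⁻¹ u, ?_⟩
  rw [LinearMap.sub_apply, Module.End.one_apply, LinearMap.sub_apply, Module.End.one_apply, map_sub]
  have e1 : k * g⁻¹ = g⁻¹ * g' := by rw [← e]; group
  rw [rel ρ e1]

namespace Irr

variable (h : Irr ρ)

include h

theorem case2_exists (hm : finrank F (W1 ρ) = 2) (h0 : finrank F (V0 ρ) = 4) (hw : ∀ u ∈ W1 ρ, ρ w u = u) :
    ∃ v : V, v ≠ 0 ∧ (∀ g : A, g.1 1 = 1 → g.1 2 = 2 → ρ g v = v) ∧ v + ρ a v + ρ a (ρ a v) = 0 := by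
  have hb1 : ∀ u ∈ W1 ρ, ρ b u = u := b_triv (c := 1) one_ne_zero (fun u hu => b_W1 hu)
    (fun u hu => by rw [one_smul]; exact hw u hu)
  have hbW : ∀ u ∈ WW ρ, ρ b u = u := by
    intro u hu
    obtain ⟨v1, h1, v2, h2', v3, h3, rfl⟩ := mem_WW.1 hu
    rw [map_add, map_add, hb1 _ h1, b_W2 hb1 h2', b_W3 hb1 h3]
  -- dimension of `WW`
  have dW : finrank F (WW ρ) = 6 := by
    have h1 := Submodule.finrank_sup_add_finrank_inf_eq (V0 ρ) (WW ρ)
    have h2 : V0 ρ ⊓ WW ρ = ⊥ := by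
      rw [eq_bot_iff]; rintro v ⟨hv0, hv1⟩; exact V0_inf_WW h.two hv0 hv1
    rw [h2, V0_sup_WW h.two, finrank_top, finrank_bot, h.dim, h0] at h1
    omega
  have hfb : f ρ b = 6 := by
    have h1 := h.f_b_le
    have h2 : finrank F (WW ρ) ≤ finrank F (Fx (ρ b)) :=
      Submodule.finrank_mono fun u hu => mem_Fx.2 (hbW u hu)
    unfold f at h1 ⊢
    omega
  have hFb : WW ρ = Fx (ρ b) :=
    Submodule.eq_of_le_of_finrank_eq (fun u hu => mem_Fx.2 (hbW u hu)) (dW.trans hfb.symm)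
  have hb0 : ∀ u ∈ V0 ρ, u + ρ b u + ρ b (ρ b u) = 0 := by
    intro u hu
    apply V0_inf_WW h.two (add_mem (add_mem hu (b_V0 hu)) (b_V0 (b_V0 hu)))
    rw [hFb, mem_Fx, map_add, map_add, bbb]
    abel
  have hbr : LinearMap.range (ρ b - 1) = V0 ρ := by
    apply Submodule.eq_of_le_of_finrank_eq
    · rintro _ ⟨u, rfl⟩
      have h1 : u ∈ V0 ρ ⊔ WW ρ := by rw [V0_sup_WW h.two]; trivial
      obtain ⟨v0, hv0, v1, hv1, rfl⟩ := Submodule.mem_sup.1 h1
      rw [LinearMap.sub_apply, Module.End.one_apply, map_add, hbW v1 hv1, add_sub_add_right_eq_sub]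
      exact sub_mem (b_V0 hv0) hv0
    · have h1 := rank_Fx (ρ b)
      have h2 := hfb
      unfold f at h2
      rw [h.dim, h2] at h1
      omega
  have hfa : f ρ a = 6 := (f_conj ρ conj_a).trans hfb
  have hra : finrank F (LinearMap.range (ρ a - 1)) = 4 := by
    have h1 := rank_Fx (ρ a)
    have h2 := hfa
    unfold f at h2
    rw [h.dim, h2] at h1
    omega
  -- `a` is trivial on `V0`
  have ha0 : ∀ u ∈ V0 ρ, ρ a u = u := by
    have d12 : finrank F ↥(W1 ρ ⊔ W2 ρ) = 4 := by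
      have h1 := Submodule.finrank_sup_add_finrank_inf_eq (W1 ρ) (W2 ρ)
      have h2 : W1 ρ ⊓ W2 ρ = ⊥ := by
        rw [eq_bot_iff]
        rintro v ⟨hv0, hv1⟩
        exact (indep h.two (zero_mem (V0 ρ)) hv0 (neg_mem hv1) (zero_mem (W3 ρ)) (by abel)).2.1
      rw [h2, finrank_bot, hm, ← eqW12, hm] at h1
      omega
    have h3 : finrank F ((W1 ρ ⊔ W2 ρ).map (ρ a - 1)) = 4 := by
      rw [← d12, ← LinearMap.range_domRestrict]
      apply LinearMap.finrank_range_of_inj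
      rw [← LinearMap.ker_eq_bot, LinearMap.ker_eq_bot']
      rintro ⟨x, hx⟩ hx0
      obtain ⟨v1, h1, v2, h2', rfl⟩ := Submodule.mem_sup.1 hx
      have h7 : ρ a (v1 + v2) - (v1 + v2) = 0 := hx0
      rw [map_add] at h7
      obtain ⟨-, h8, h9, -⟩ := indep h.two (zero_mem (V0 ρ)) h1 (sub_mem h2' (a_W1 h1)) (neg_mem (a_W2 h2')) (by
        have h10 : 0 + v1 + (v2 - ρ a v1) + -ρ a v2 = -(ρ a v1 + ρ a v2 - (v1 + v2)) := by abel
        rw [h10, h7, neg_zero])
      apply Subtype.ext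
      change v1 + v2 = 0
      rw [h8, map_zero, sub_zero] at h9
      rw [h8, h9, add_zero]
    have h4 : (W1 ρ ⊔ W2 ρ).map (ρ a - 1) = LinearMap.range (ρ a - 1) := by
      apply Submodule.eq_of_le_of_finrank_eq
      · rintro _ ⟨u, -, rfl⟩; exact ⟨u, rfl⟩
      · rw [h3, hra]
    intro u hu
    have h5 : (ρ a - 1) u ∈ (W1 ρ ⊔ W2 ρ).map (ρ a - 1) := by rw [h4]; exact ⟨u, rfl⟩
    obtain ⟨x, hx, hxu⟩ := h5
    have h6 : (ρ a - 1) u = 0 := by
      apply V0_inf_WW h.two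
      · rw [LinearMap.sub_apply, Module.End.one_apply]
        exact sub_mem (a_V0 hu) hu
      · rw [← hxu, LinearMap.sub_apply, Module.End.one_apply]
        have hx' : x ∈ WW ρ := (le_sup_left : W1 ρ ⊔ W2 ρ ≤ WW ρ) hx
        exact sub_mem (a_WW hx') hx'
    rw [LinearMap.sub_apply, Module.End.one_apply, sub_eq_zero] at h6
    exact h6
  have split' : ∀ u : V, ∃ v0 ∈ V0 ρ, ∃ v1 ∈ WW ρ, u = v0 + v1 := by
    intro u
    have h1 : u ∈ V0 ρ ⊔ WW ρ := by rw [V0_sup_WW h.two]; trivial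
    obtain ⟨v0, hv0, v1, hv1, rfl⟩ := Submodule.mem_sup.1 h1
    exact ⟨v0, hv0, v1, hv1, rfl⟩
  have hRa : LinearMap.range (ρ a - 1) ≤ WW ρ := by
    rintro _ ⟨u, rfl⟩
    obtain ⟨v0, hv0, v1, hv1, rfl⟩ := split' u
    rw [LinearMap.sub_apply, Module.End.one_apply, map_add, ha0 v0 hv0, add_sub_add_left_eq_sub]
    exact sub_mem (a_WW hv1) hv1
  have hRc : LinearMap.range (ρ c2 - 1) ≤ WW ρ := by
    rintro _ ⟨u, rfl⟩
    obtain ⟨v0, hv0, v1, hv1, rfl⟩ := split' u
    rw [LinearMap.sub_apply, Module.End.one_apply, map_add, c2_act, c2_act, (mem_V0.1 hv0).2, ha0 v0 hv0,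
      ha0 v0 hv0, add_sub_add_left_eq_sub]
    exact sub_mem (a_WW (a_WW (s2_WW hv1))) hv1
  have hrc : finrank F (LinearMap.range (ρ c2 - 1)) = 4 := by
    have h1 := rank_Fx (ρ c2)
    have h2 := (f_conj ρ conj_c2).trans hfb
    unfold f at h2
    rw [h.dim, h2] at h1
    omega
  have hinf : LinearMap.range (ρ a - 1) ⊓ LinearMap.range (ρ c2 - 1) ≠ ⊥ := by
    intro hbot
    have h1 := Submodule.finrank_sup_add_finrank_inf_eq (LinearMap.range (ρ a - 1)) (LinearMap.range (ρ c2 - 1))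
    have h2 := Submodule.finrank_mono (sup_le hRa hRc)
    rw [hbot, finrank_bot, hra, hrc] at h1
    omega
  obtain ⟨v, ⟨hva, hvc⟩, hv0⟩ := Submodule.exists_mem_ne_zero_of_ne_bot hinf
  have hva' := mem_range_conj k_a hva
  have hvc' := mem_range_conj k_c hvc
  rw [hbr] at hva' hvc'
  refine ⟨v, hv0, fun g g1 g2 => ?_, ?_⟩
  · exact sift (stab ρ v) (stab_conj k_1 (mem_V0.1 hva').1) (stab_conj k_2 (mem_V0.1 hva').2)
      (stab_conj k_3 (mem_V0.1 hvc').1) (stab_conj k_4 (mem_V0.1 hvc').2) (stab_conj k_5 (ha0 _ hvc')) g g1 g2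
  · have h1 := hb0 _ hva'
    have h2 := congrArg (ρ ga) h1
    have e1 : ga * b = a * ga := by rw [← k_a]; group
    rw [map_add, map_add, act_inv, rel ρ e1, act_inv, rel ρ e1, rel ρ e1, act_inv, map_zero] at h2
    exact h2

theorem case2_false' (v : V) (hv : v ≠ 0) (hs : ∀ g : A, g.1 1 = 1 → g.1 2 = 2 → ρ g v = v)
    (hr : v + ρ a v + ρ a (ρ a v) = 0) {μ : F} (hμ : μ = 1 ∨ μ = -1) (hw : ρ (e2 1 2 4 5) v = μ • v) : False := by
  classical
  -- the vectors
  let u : Fin 7 → Fin 7 → V := fun k l => if hkl : ∃ g : A, g.1 1 = k ∧ g.1 2 = l then ρ hkl.choose v else 0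
  have hu : ∀ g : A, ρ g v = u (g.1 1) (g.1 2) := by
    intro g
    have hex : ∃ g' : A, g'.1 1 = g.1 1 ∧ g'.1 2 = g.1 2 := ⟨g, rfl, rfl⟩
    change _ = if hkl : ∃ g' : A, g'.1 1 = g.1 1 ∧ g'.1 2 = g.1 2 then ρ hkl.choose v else 0
    rw [dif_pos hex]
    obtain ⟨e1, e2⟩ := hex.choose_spec
    generalize hex.choose = x at e1 e2
    have h1 : ρ (x⁻¹ * g) v = v := by
      apply hs
      · change x.1⁻¹ (g.1 1) = 1
        rw [← e1]; exact Equiv.symm_apply_apply x.1 1
      · change x.1⁻¹ (g.1 2) = 2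
        rw [← e2]; exact Equiv.symm_apply_apply x.1 2
    rw [← act] at h1
    rw [← h1, act_inv, h1]
  have ex3 : ∀ k l m : Fin 7, k ≠ l → l ≠ m → k ≠ m → ∃ g : A, g.1 1 = k ∧ g.1 2 = l ∧ g.1 3 = m := by
    intro k l m hkl hlm hkm
    obtain ⟨σ, s1, s2, s3⟩ : ∃ σ : Perm (Fin 7), σ 1 = k ∧ σ 2 = l ∧ σ 3 = m := by
      set σ1 : Perm (Fin 7) := swap 1 k with hσ1
      set σ2 : Perm (Fin 7) := swap (σ1 2) l * σ1 with hσ2
      have a1 : σ1 1 = k := swap_apply_left 1 k
      have b1 : σ2 1 = k := by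
        rw [hσ2, Perm.mul_apply, a1]
        exact swap_apply_of_ne_of_ne (fun h => absurd (σ1.injective (a1.trans h)) (by decide)) hkl
      have b2 : σ2 2 = l := by rw [hσ2, Perm.mul_apply, swap_apply_left]
      refine ⟨swap (σ2 3) m * σ2, ?_, ?_, ?_⟩
      · rw [Perm.mul_apply, b1]
        exact swap_apply_of_ne_of_ne (fun h => absurd (σ2.injective (b1.trans h)) (by decide)) hkm
      · rw [Perm.mul_apply, b2]
        exact swap_apply_of_ne_of_ne (fun h => absurd (σ2.injective (b2.trans h)) (by decide)) hlm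
      · rw [Perm.mul_apply, swap_apply_left]
    rcases Int.units_eq_one_or (Perm.sign σ) with h1 | h1
    · exact ⟨⟨σ, h1⟩, s1, s2, s3⟩
    · refine ⟨⟨σ * swap 5 6, ?_⟩, ?_, ?_, ?_⟩
      · rw [Perm.mem_alternatingGroup, map_mul, h1, Perm.sign_swap (by decide)]; decide
      · change σ (swap 5 6 1) = k
        rw [show swap (5 : Fin 7) 6 1 = 1 by decide, s1]
      · change σ (swap 5 6 2) = l
        rw [show swap (5 : Fin 7) 6 2 = 2 by decide, s2]
      · change σ (swap 5 6 3) = m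
        rw [show swap (5 : Fin 7) 6 3 = 3 by decide, s3]
  have ex2 : ∀ k l : Fin 7, k ≠ l → ∃ g : A, g.1 1 = k ∧ g.1 2 = l := by
    intro k l hkl
    obtain ⟨m, hm1, hm2⟩ : ∃ m : Fin 7, l ≠ m ∧ k ≠ m := by revert k l; decide
    obtain ⟨g, g1, g2, -⟩ := ex3 k l m hkl hm1 hm2
    exact ⟨g, g1, g2⟩
  have P1 : ∀ (g : A) (k l : Fin 7), k ≠ l → ρ g (u k l) = u (g.1 k) (g.1 l) := by
    intro g k l hkl
    obtain ⟨x, rfl, rfl⟩ := ex2 k l hkl
    rw [← hu, act, hu]
    rfl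
  have P2 : ∀ k l : Fin 7, k ≠ l → u l k = μ • u k l := by
    intro k l hkl
    obtain ⟨x, rfl, rfl⟩ := ex2 k l hkl
    rw [← hu, ← map_smul, ← hw, act, hu]
    congr 1
  have P3 : ∀ k l m : Fin 7, k ≠ l → l ≠ m → k ≠ m → u k l + u l m + u m k = 0 := by
    intro k l m hkl hlm hkm
    obtain ⟨g, rfl, rfl, rfl⟩ := ex3 k l m hkl hlm hkm
    have h1 := congrArg (ρ g) hr
    rw [map_add, map_add, map_zero, hu, act, act, act, hu, hu] at h1
    exact h1
  have hv' : u 1 2 = v := by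
    have := hu 1
    rw [act1] at this
    exact this.symm
  rcases hμ with rfl | rfl
  · -- all equal
    have P2' : ∀ k l : Fin 7, k ≠ l → u l k = u k l := fun k l hkl => by rw [P2 k l hkl, one_smul]
    have P4 : ∀ k l m n : Fin 7, k ≠ l → l ≠ m → k ≠ m → k ≠ n → l ≠ n → m ≠ n → u k l = u m n := by
      intro k l m n h1 h2 h3 h4 h5 h6
      have e1 := P3 k l m h1 h2 h3
      have e2 := P3 k l n h1 h5 h4
      have e3 := P3 k m n h3 h6 h4
      have e4 := P3 l m n h2 h6 h5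
      rw [P2' k m h3] at e1
      rw [P2' k n h4] at e2 e3
      rw [P2' l n h5] at e4
      have e5 : (2 : F) • (u k l - u m n) = 0 := by
        have : (2 : F) • (u k l - u m n) = (u k l + u l m + u k m) + (u k l + u l n + u k n) -
            (u k m + u m n + u k n) - (u l m + u m n + u l n) := by
          rw [two_smul]; abel
        rw [this, e1, e2, e3, e4]; simp
      exact sub_eq_zero.1 ((smul_eq_zero.1 e5).resolve_left h.two)
    apply hv
    apply h.fix_zero
    apply top_of_g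
    · change ρ c2 v = v
      rw [hu]
      change u 2 0 = v
      rw [← hv', P4 2 0 3 4, P4 1 2 3 4] <;> decide
    · change ρ g7 v = v
      rw [hu]
      change u 2 3 = v
      rw [← hv', P4 2 3 4 5, P4 1 2 4 5] <;> decide
  · -- few vectors
    have hS : ∀ k l : Fin 7, k ≠ l → u k l ∈ Submodule.span F (Set.range (u 0)) := by
      intro k l hkl
      by_cases hk : k = 0
      · rw [hk]; exact Submodule.subset_span ⟨l, rfl⟩
      by_cases hl : l = 0
      · rw [hl, P2 0 k (Ne.symm hk)]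
        exact Submodule.smul_mem _ _ (Submodule.subset_span ⟨k, rfl⟩)
      · have e1 := P3 0 k l (Ne.symm hk) hkl (Ne.symm hl)
        rw [P2 0 l (Ne.symm hl)] at e1
        have e2 : u k l = u 0 l - u 0 k := by
          have : u k l = (u 0 k + u k l + (-1 : F) • u 0 l) + (u 0 l - u 0 k) := by
            rw [neg_smul, one_smul]; abel
          rw [this, e1, zero_add]
        rw [e2]
        exact sub_mem (Submodule.subset_span ⟨l, rfl⟩) (Submodule.subset_span ⟨k, rfl⟩)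
    have hinv : ∀ g : A, ∀ x ∈ Submodule.span F (Set.range fun p : {p : Fin 7 // p ≠ 0} => u 0 p.1),
        ρ g x ∈ Submodule.span F (Set.range (u 0)) := by
      intro g x hx
      induction hx using Submodule.span_induction with
      | mem x hx =>
        obtain ⟨⟨p, hp⟩, rfl⟩ := hx
        rw [P1 g 0 p (Ne.symm hp)]
        exact hS _ _ fun h1 => hp (g.1.injective h1).symm
      | zero => rw [map_zero]; exact zero_mem _
      | add x y _ _ hx hy => rw [map_add]; exact add_mem hx hy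
      | smul c x _ hx => rw [map_smul]; exact Submodule.smul_mem _ _ hx
    have hu00 : u 0 0 = 0 := by
      have : ¬ ∃ g : A, g.1 1 = 0 ∧ g.1 2 = 0 := by
        rintro ⟨g, g1, g2⟩
        exact absurd (g.1.injective (g1.trans g2.symm)) (by decide)
      exact dif_neg this
    have hSS : Submodule.span F (Set.range (u 0)) ≤
        Submodule.span F (Set.range fun p : {p : Fin 7 // p ≠ 0} => u 0 p.1) := by
      rw [Submodule.span_le]
      rintro _ ⟨p, rfl⟩
      by_cases hp : p = 0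
      · rw [hp, hu00]; exact zero_mem _
      · exact Submodule.subset_span ⟨⟨p, hp⟩, rfl⟩
    rcases h.irr (Submodule.span F (Set.range (u 0))) (fun g x hx => hinv g x (hSS hx)) with h1 | h1
    · have h2 := hS 1 2 (by decide)
      rw [h1, Submodule.mem_bot, hv'] at h2
      exact hv h2
    · have h2 := finrank_range_le_card (R := F) (u 0)
      rw [Set.finrank, h1, finrank_top, h.dim] at h2
      simp at h2

theorem case2_false (hm : finrank F (W1 ρ) = 2) (h0 : finrank F (V0 ρ) = 4) (hw : ∀ u ∈ W1 ρ, ρ w u = u) :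
    False := by
  obtain ⟨v, hv, hs, hr⟩ := h.case2_exists hm h0 hw
  have r1 : e2 1 2 4 5 * a = a⁻¹ * e2 1 2 4 5 := by decide
  have r2 : e2 1 2 4 5 * e2 1 2 4 5 = 1 * 1 := by decide
  set w' : A := e2 1 2 4 5 with hw'
  have hs' : ∀ g : A, g.1 1 = 1 → g.1 2 = 2 → ρ g (ρ w' v) = ρ w' v := by
    intro g g1 g2
    have h1 : ρ (w' * g * w') v = v := by
      apply hs
      · change w'.1 (g.1 (w'.1 1)) = 1
        rw [show w'.1 1 = 2 by rw [hw']; decide, g2, hw']; decide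
      · change w'.1 (g.1 (w'.1 2)) = 2
        rw [show w'.1 2 = 1 by rw [hw']; decide, g1, hw']; decide
    rw [← act, ← act] at h1
    have h2 := congrArg (ρ w') h1
    rwa [invol w' r2] at h2
  have hr' : ρ w' v + ρ a (ρ w' v) + ρ a (ρ a (ρ w' v)) = 0 := by
    have h1 := congrArg (ρ w') hr
    rw [map_add, map_add, map_zero, rel ρ r1, rel ρ r1, rel ρ r1, ai, ai, aaa] at h1
    rw [← h1]; abel
  by_cases hz : v + ρ w' v = 0
  · have h3 : ρ w' v = (-1 : F) • v := by
      rw [neg_smul, one_smul]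
      exact (neg_eq_of_add_eq_zero_right hz).symm
    exact h.case2_false' v hv hs hr (Or.inr rfl) h3
  · refine h.case2_false' (v + ρ w' v) hz (fun g g1 g2 => by rw [map_add, hs g g1 g2, hs' g g1 g2]) ?_
      (Or.inl rfl) ?_
    · have : v + ρ w' v + ρ a (v + ρ w' v) + (ρ a (ρ a (v + ρ w' v))) =
          (v + ρ a v + ρ a (ρ a v)) + (ρ w' v + ρ a (ρ w' v) + ρ a (ρ a (ρ w' v))) := by
        rw [map_add, map_add]; abel
      rw [this, hr, hr', add_zero]
    · rw [map_add, invol w' r2, one_smul, add_comm]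

/-- **First step.** -/
theorem exists_good : ∃ v, Good ρ v := by
  obtain ⟨m, n1, n2, n3, n4, d1, d2, d3, d4, d5, d6, d7, d8, d9, d10, d11, d12, d13⟩ := h.dims
  have h1 := h.f_s1_le
  have h2 := h.f_x4_le
  rw [d12] at h1
  rw [d13] at h2
  obtain rfl | rfl : m = 2 ∨ m = 3 := by omega
  · exfalso
    have hn3 : n3 = 2 := by omega
    have hW : W1 ρ ⊓ Fx (ρ w) = W1 ρ := Submodule.eq_of_le_of_finrank_eq inf_le_left (by rw [d7, d1, hn3])
    refine h.case2_false d1 (by omega) fun u hu => ?_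
    rw [← hW] at hu
    exact mem_Fx.1 hu.2
  · exact h.case3 n1 n2 n3 n4 d1 (by omega) d5 d6 d7 d8 (by omega) d10 d11

end Irr

end Cfsg.Agent.H923.Ten.A7
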