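import Cfsg.Agent.H923.Ten.A7Mod

/-!
# Ten-dimensional modules of `A₇`: weight spaces of the four-group (helper923)
-/

set_option autoImplicit false
set_option linter.unusedSectionVars false

namespace Cfsg.Agent.H923.Ten.A7

open Module Equiv

universe u v

variable {F : Type u} {V : Type v} [Field F] [AddCommGroup V] [Module F V] [FiniteDimensional F V]

/-- the weight spaces -/
def V0 (ρ : A →* (V →ₗ[F] V)) : Submodule F V := Fx (ρ s1) ⊓ Fx (ρ s2)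
def W1 (ρ : A →* (V →ₗ[F] V)) : Submodule F V := Fx (ρ s1) ⊓ Ng (ρ s2)
def W2 (ρ : A →* (V →ₗ[F] V)) : Submodule F V := Ng (ρ s1) ⊓ Fx (ρ s2)
def W3 (ρ : A →* (V →ₗ[F] V)) : Submodule F V := Ng (ρ s1) ⊓ Ng (ρ s2)

variable {ρ : A →* (V →ₗ[F] V)}

theorem mem_V0 {v : V} : v ∈ V0 ρ ↔ ρ s1 v = v ∧ ρ s2 v = v := by
  rw [V0, Submodule.mem_inf, mem_Fx, mem_Fx]
theorem mem_W1 {v : V} : v ∈ W1 ρ ↔ ρ s1 v = v ∧ ρ s2 v = -v := by
  rw [W1, Submodule.mem_inf, mem_Fx, mem_Ng]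
theorem mem_W2 {v : V} : v ∈ W2 ρ ↔ ρ s1 v = -v ∧ ρ s2 v = v := by
  rw [W2, Submodule.mem_inf, mem_Ng, mem_Fx]
theorem mem_W3 {v : V} : v ∈ W3 ρ ↔ ρ s1 v = -v ∧ ρ s2 v = -v := by
  rw [W3, Submodule.mem_inf, mem_Ng, mem_Ng]

theorem r_12 : s1 * s2 = s2 * s1 := by decide
theorem r_3 : s3 * 1 = s1 * s2 := by decide
theorem r_11 : s1 * s1 = 1 * 1 := by decide
theorem r_22 : s2 * s2 = 1 * 1 := by decide
theorem r_ww : w * w = 1 * 1 := by decide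
theorem r_w1 : w * s1 = s1 * w := by decide
theorem r_w2 : w * s2 = s3 * w := by decide
theorem r_w3 : w * s3 = s2 * w := by decide
theorem r_a1 : a * s1 = s2 * a := by decide
theorem r_a2 : a * s2 = s3 * a := by decide
theorem r_a3 : a * s3 = s1 * a := by decide
theorem r_b1 : b * s1 = s1 * b := by decide
theorem r_b2 : b * s2 = s2 * b := by decide
theorem r_ab : a * b = b * a := by decide
theorem r_wb : w * b = b⁻¹ * w := by decide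
theorem r_wa : w * a = (a⁻¹ * s3) * w := by decide
theorem b3 : b * b * b = 1 := by decide
theorem a3 : a * a * a = 1
  := by decide
theorem a2i : a⁻¹ = a * a := by decide

/-- the value of `s₃` -/
theorem s3_act (v : V) : ρ s3 v = ρ s1 (ρ s2 v) := by
  have := rel ρ r_3 v
  rwa [act1] at this

theorem invol (g : A) (hg : g * g = 1 * 1) (v : V) : ρ g (ρ g v) = v := by
  rw [rel ρ hg, act1, act1]

theorem a_W1 {v : V} (hv : v ∈ W1 ρ) : ρ a v ∈ W2 ρ := by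
  rw [mem_W1] at hv
  rw [mem_W2]
  constructor
  · rw [← rel ρ r_a3, s3_act, hv.2, map_neg, hv.1, map_neg]
  · rw [← rel ρ r_a1, hv.1]

theorem a_W2 {v : V} (hv : v ∈ W2 ρ) : ρ a v ∈ W3 ρ := by
  rw [mem_W2] at hv
  rw [mem_W3]
  constructor
  · rw [← rel ρ r_a3, s3_act, hv.2, hv.1, map_neg]
  · rw [← rel ρ r_a1, hv.1, map_neg]

theorem a_W3 {v : V} (hv : v ∈ W3 ρ) : ρ a v ∈ W1 ρ := by
  rw [mem_W3] at hv
  rw [mem_W1]
  constructor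
  · rw [← rel ρ r_a3, s3_act, hv.2, map_neg, hv.1, neg_neg]
  · rw [← rel ρ r_a1, hv.1, map_neg]

theorem a_V0 {v : V} (hv : v ∈ V0 ρ) : ρ a v ∈ V0 ρ := by
  rw [mem_V0] at hv
  rw [mem_V0]
  constructor
  · rw [← rel ρ r_a3, s3_act, hv.2, hv.1]
  · rw [← rel ρ r_a1, hv.1]

theorem ai (v : V) : ρ a⁻¹ v = ρ a (ρ a v) := by
  rw [act, a2i]

theorem aaa (v : V) : ρ a (ρ a (ρ a v)) = v := by
  rw [act, act, a3, act1]

theorem bbb (v : V) : ρ b (ρ b (ρ b v)) = v := by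
  rw [act, act, b3, act1]

theorem b_V0 {v : V} (hv : v ∈ V0 ρ) : ρ b v ∈ V0 ρ := by
  rw [mem_V0] at *
  exact ⟨by rw [← rel ρ r_b1, hv.1], by rw [← rel ρ r_b2, hv.2]⟩
theorem b_W1 {v : V} (hv : v ∈ W1 ρ) : ρ b v ∈ W1 ρ := by
  rw [mem_W1] at *
  exact ⟨by rw [← rel ρ r_b1, hv.1], by rw [← rel ρ r_b2, hv.2, map_neg]⟩

theorem eqW12 : finrank F (W1 ρ) = finrank F (W2 ρ) :=
  finrank_eq_of_maps (ρ a) (ρ a⁻¹) (act_inv ρ a) (inv_act ρ a) (fun _ hu => a_W1 hu)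
    (fun u hu => by rw [ai]; exact a_W3 (a_W2 hu))

theorem eqW23 : finrank F (W2 ρ) = finrank F (W3 ρ) :=
  finrank_eq_of_maps (ρ a) (ρ a⁻¹) (act_inv ρ a) (inv_act ρ a) (fun _ hu => a_W2 hu)
    (fun u hu => by rw [ai]; exact a_W1 (a_W3 hu))

namespace Irr

variable (h : Irr ρ)

include h

theorem dim_V0 : finrank F (V0 ρ) + finrank F (W1 ρ) = f ρ s1 :=
  split h.two (Fx (ρ s1)) (fun u hu => mem_Fx.2 (by rw [rel ρ r_12, mem_Fx.1 hu]))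
    (fun u _ => invol _ r_22 u)

theorem dim_Ng : f ρ s1 + finrank F (Ng (ρ s1)) = 10 := by
  have h1 := split h.two (x := ρ s1) ⊤ (fun _ _ => trivial) (fun u _ => invol _ r_11 u)
  rw [top_inf_eq, top_inf_eq, finrank_top, h.dim] at h1
  exact h1

theorem dim_W2 : finrank F (W2 ρ) + finrank F (W3 ρ) = finrank F (Ng (ρ s1)) :=
  split h.two (Ng (ρ s1)) (fun u hu => mem_Ng.2 (by rw [rel ρ r_12, mem_Ng.1 hu, map_neg]))
    (fun u _ => invol _ r_22 u)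

theorem dim_w : f ρ w + finrank F (Ng (ρ w)) = 10 := by
  have h1 := split h.two (x := ρ w) ⊤ (fun _ _ => trivial) (fun u _ => invol _ r_ww u)
  rw [top_inf_eq, top_inf_eq, finrank_top, h.dim] at h1
  exact h1

/-- the dimensions of the spaces for `⟨s₁, s₂, w⟩` -/
theorem dims : ∃ m n1 n2 n3 n4 : ℕ,
    finrank F (W1 ρ) = m ∧ finrank F (W2 ρ) = m ∧ finrank F (W3 ρ) = m ∧ finrank F (V0 ρ) + 3 * m = 10 ∧
    finrank F ↥(V0 ρ ⊓ Fx (ρ w)) = n1 ∧ finrank F ↥(V0 ρ ⊓ Ng (ρ w)) = n2 ∧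
    finrank F ↥(W1 ρ ⊓ Fx (ρ w)) = n3 ∧ finrank F ↥(W1 ρ ⊓ Ng (ρ w)) = n4 ∧
    n1 + n2 = finrank F (V0 ρ) ∧ n3 + n4 = m ∧ n2 + n4 = m ∧ f ρ s1 = 10 - 2 * m ∧ f ρ x4 = n1 + n4 := by
  have e1 := h.dim_V0
  have e2 := h.dim_Ng
  have e3 := h.dim_W2
  have e4 := eqW12 (ρ := ρ)
  have e5 := eqW23 (ρ := ρ)
  have e6 : finrank F ↥(V0 ρ ⊓ Fx (ρ w)) + finrank F ↥(V0 ρ ⊓ Ng (ρ w)) = finrank F (V0 ρ) :=
    split h.two (V0 ρ) (fun u hu => by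
      rw [mem_V0] at hu ⊢
      constructor
      · rw [← rel ρ r_w1, hu.1]
      · rw [← rel ρ r_w3, s3_act, hu.2, hu.1]) (fun u _ => invol _ r_ww u)
  have e7 : finrank F ↥(W1 ρ ⊓ Fx (ρ w)) + finrank F ↥(W1 ρ ⊓ Ng (ρ w)) = finrank F (W1 ρ) :=
    split h.two (W1 ρ) (fun u hu => by
      rw [mem_W1] at hu ⊢
      constructor
      · rw [← rel ρ r_w1, hu.1]
      · rw [← rel ρ r_w3, s3_act, hu.2, map_neg, hu.1, map_neg]) (fun u _ => invol _ r_ww u)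
  have e8 := h.dim_w
  have e9 := f_conj ρ conj_w
  have e10 : finrank F ↥(Ng (ρ w) ⊓ Fx (ρ s1)) + finrank F ↥(Ng (ρ w) ⊓ Ng (ρ s1)) = finrank F (Ng (ρ w)) :=
    split h.two (Ng (ρ w)) (fun u hu => by
      rw [mem_Ng] at hu ⊢
      rw [rel ρ r_w1, hu, map_neg]) (fun u _ => invol _ r_11 u)
  have e11 : finrank F ↥((Ng (ρ w) ⊓ Fx (ρ s1)) ⊓ Fx (ρ s2)) + finrank F ↥((Ng (ρ w) ⊓ Fx (ρ s1)) ⊓ Ng (ρ s2)) =
      finrank F ↥(Ng (ρ w) ⊓ Fx (ρ s1)) :=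
    split h.two _ (fun u hu => by
      rw [Submodule.mem_inf, mem_Ng, mem_Fx] at hu ⊢
      constructor
      · rw [rel ρ r_w2, hu.1, map_neg, s3_act, rel ρ r_12, hu.2]
      · rw [rel ρ r_12, hu.2]) (fun u _ => invol _ r_22 u)
  have e12 : (Ng (ρ w) ⊓ Fx (ρ s1)) ⊓ Fx (ρ s2) = V0 ρ ⊓ Ng (ρ w) := by
    rw [V0, inf_assoc, inf_comm]
  have e13 : (Ng (ρ w) ⊓ Fx (ρ s1)) ⊓ Ng (ρ s2) = W1 ρ ⊓ Ng (ρ w) := by
    rw [W1, inf_assoc, inf_comm]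
  rw [e12, e13] at e11
  have e14 : finrank F ↥(Ng (ρ w) ⊓ Ng (ρ s1)) = finrank F ↥(Ng (ρ s1) ⊓ Fx (ρ w)) :=
    finrank_eq_of_maps (ρ s2) (ρ s2) (fun v => invol _ r_22 v) (fun v => invol _ r_22 v) (fun u hu => by
      rw [Submodule.mem_inf, mem_Ng, mem_Ng] at hu
      rw [Submodule.mem_inf, mem_Fx, mem_Ng]
      constructor
      · rw [rel ρ r_12, hu.2, map_neg]
      · rw [rel ρ r_w2, hu.1, map_neg, s3_act, rel ρ r_12, hu.2, map_neg, neg_neg]) (fun u hu => by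
      rw [Submodule.mem_inf, mem_Ng, mem_Fx] at hu
      rw [Submodule.mem_inf, mem_Ng, mem_Ng]
      constructor
      · rw [rel ρ r_w2, hu.2, s3_act, rel ρ r_12, hu.1, map_neg]
      · rw [rel ρ r_12, hu.1, map_neg])
  have e15 : finrank F ↥(Ng (ρ s1) ⊓ Fx (ρ w)) + finrank F ↥(Ng (ρ s1) ⊓ Ng (ρ w)) = finrank F (Ng (ρ s1)) :=
    split h.two _ (fun u hu => by
      rw [mem_Ng] at hu ⊢
      rw [← rel ρ r_w1, hu, map_neg]) (fun u _ => invol _ r_ww u)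
  have e16 : Ng (ρ s1) ⊓ Ng (ρ w) = Ng (ρ w) ⊓ Ng (ρ s1) := inf_comm _ _
  rw [e16] at e15
  -- the element of order four
  have hx1 : ∀ v, ρ x4 v = v → ρ s1 v = v := by
    intro v hv
    have h1 : ρ (x4 * x4) v = v := by rw [← act, hv, hv]
    rwa [show x4 * x4 = s1 by decide] at h1
  have hx2 : ∀ v, ρ x4 v = v → ρ s2 v = ρ w v := by
    intro v hv
    have h1 : ρ w (ρ x4 v) = ρ s2 v := by rw [act, show w * x4 = s2 by decide]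
    rw [← h1, hv]
  have hx3 : ∀ v, ρ x4 v = ρ w (ρ s2 v) := fun v => by rw [act]; rfl
  have e17 : finrank F ↥(Fx (ρ x4) ⊓ Fx (ρ s2)) + finrank F ↥(Fx (ρ x4) ⊓ Ng (ρ s2)) = finrank F (Fx (ρ x4)) :=
    split h.two _ (fun u hu => by
      rw [mem_Fx] at hu ⊢
      rw [hx3, invol _ r_22, hx2 u hu]) (fun u _ => invol _ r_22 u)
  have e18 : Fx (ρ x4) ⊓ Fx (ρ s2) = V0 ρ ⊓ Fx (ρ w) := by
    ext v
    rw [Submodule.mem_inf, Submodule.mem_inf, mem_V0, mem_Fx, mem_Fx, mem_Fx]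
    constructor
    · rintro ⟨h1, h2⟩
      exact ⟨⟨hx1 v h1, h2⟩, by rw [← hx2 v h1, h2]⟩
    · rintro ⟨⟨h1, h2⟩, h3⟩
      exact ⟨by rw [hx3, h2, h3], h2⟩
  have e19 : Fx (ρ x4) ⊓ Ng (ρ s2) = W1 ρ ⊓ Ng (ρ w) := by
    ext v
    rw [Submodule.mem_inf, Submodule.mem_inf, mem_W1, mem_Fx, mem_Ng, mem_Ng]
    constructor
    · rintro ⟨h1, h2⟩
      exact ⟨⟨hx1 v h1, h2⟩, by rw [← hx2 v h1, h2]⟩
    · rintro ⟨⟨h1, h2⟩, h3⟩
      exact ⟨by rw [hx3, h2, map_neg, h3, neg_neg], h2⟩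
  rw [e18, e19] at e17
  refine ⟨finrank F (W1 ρ), _, _, _, _, rfl, e4.symm, by omega, by omega, rfl, rfl, rfl, rfl, e6, e7, ?_, by omega, ?_⟩
  · unfold f at e9 e8 e1 e2; omega
  · unfold f; omega

end Irr

end Cfsg.Agent.H923.Ten.A7
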