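import Cfsg.Agent.H936.List12c
import Cfsg.Agent.H937.T2Rep
import Cfsg.Agent.H614.AMod.Main
import Cfsg.Agent.H464.L2Num
import Cfsg.Agent.H175.LD.Core33
import Cfsg.Agent.H936.U33All
import Cfsg.Agent.H36.U52.Main
import Cfsg.Agent.H916.SpSixK
import Cfsg.Agent.H916.OmD
import Cfsg.Agent.H906.T14Ten
import Cfsg.Agent.H814.SzEightCore
import Cfsg.Agent.H6.M11.Main11
import Cfsg.Agent.H6.M11.StageCover
import Cfsg.Agent.H921.M22.Final
import Cfsg.Agent.H13.M22.Ten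
import Cfsg.Agent.H24.M12.Main
import Cfsg.Agent.H48.M12Ten
import Cfsg.Agent.H878.Sz.MainThree
import Cfsg.Agent.H878.Sz.MainP3
import Cfsg.Agent.H4.LDM.Stage24
import Cfsg.Agent.H1.TJ1
import Cfsg.Agent.H1.TJ2
import Cfsg.Agent.H95.JT.Core
import Cfsg.Agent.H937.G24.Row
import Cfsg.Agent.H219.HerSmall

/-!
# Dimension ten: the simple groups that are not of Lie type in the characteristic (helper923)
-/

set_option autoImplicit false
set_option linter.unusedSectionVars false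
set_option linter.style.haveILetI false

namespace Cfsg.Agent.H923.Ten.Asm

open Cfsg Cfsg.Geo Matrix
open H915.LD (Core Soc tr SD Fr Cj)
open H912.Bd (IsL IsU IsS IsOP)
open H936.List12

universe u

variable {F : Type u} [Field F] [Fintype F] {P : Subgroup (GL (Fin 10) F)} (p : ℕ) [hp : Fact p.Prime] [hFp : CharP F p]

/-- the cross characteristic possibilities that are not self-dual -/
def Cross10 (p : ℕ) (P : Subgroup (GL (Fin 10) F)) : Prop :=
  (p ≠ 19 ∧ ∃ (K : Type) (_ : Field K) (_ : Fintype K), Fintype.card K = 19 ∧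
    Nonempty (Soc P ≃* ProjectiveSpecialLinearGroup (Fin 2) K)) ∨
  (Nonempty (Soc P ≃* alternatingGroup (Fin 7))) ∨
  (p ≠ 2 ∧ p ≠ 3 ∧ IsU 4 2 (Soc P)) ∨
  (p ≠ 2 ∧ p ≠ 7 ∧ IsL 3 4 (Soc P)) ∨
  (Spor.IsoM11 (Soc P)) ∨
  (Spor.IsoM12 (Soc P) ∧ (((p % 8 = 1 ∨ p % 8 = 3) ∧ Fr P p) ∨ ((p % 8 = 5 ∨ p % 8 = 7) ∧ Cj P p))) ∨
  (Spor.IsoM22 (Soc P) ∧ (((p = 2 ∨ p % 28 = 1 ∨ p % 28 = 9 ∨ p % 28 = 25 ∨ p % 28 = 11 ∨ p % 28 = 15 ∨ p % 28 = 23) ∧
    Fr P p) ∨ ((p % 28 = 5 ∨ p % 28 = 13 ∨ p % 28 = 17 ∨ p % 28 = 3 ∨ p % 28 = 19 ∨ p % 28 = 27) ∧ Cj P p)))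

theorem two_ne {p : ℕ} [hp : Fact p.Prime] [CharP F p] (h : p ≠ 2) : (2 : F) ≠ 0 := by
  intro h0
  have h1 : ((2 : ℕ) : F) = 0 := by exact_mod_cast h0
  rw [CharP.cast_eq_zero_iff F p] at h1
  exact h ((Nat.prime_dvd_prime_iff_eq hp.out Nat.prime_two).1 h1)

theorem zero_or_one {K : Type*} [Field K] [Fintype K] (hK : Fintype.card K = 2) (x : K) : x = 0 ∨ x = 1 := by
  by_cases hx : x = 0
  · exact Or.inl hx
  · right
    have h3 := FiniteField.pow_card_sub_one_eq_one x hx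
    rwa [hK, pow_one] at h3

theorem m12_three [CharP F 3] (hC : Core P) (h : Spor.IsoM12 (Soc P)) : SD P ∨ Fr P 3 := by
  haveI : Fact (Nat.Prime 3) := ⟨Nat.prime_three⟩
  by_cases hZ : (scalars (Fin 10) F).subgroupOf P = ⊥
  · left
    obtain ⟨e⟩ := h
    exact H48.M12T.m12_ten hC (CharP.cast_eq_zero F 3)
      (((QuotientGroup.quotientMulEquivOfEq hZ).trans QuotientGroup.quotientBot).symm.trans e) (by simp)
  · right
    rcases H24.M12.two_m12 (p := 3) hC h (by norm_num) hZ (by simp) with h1 | h1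
    · exact h1.2.2
    · exact (h1.1 rfl).elim

include hFp hp in
theorem l2_row (hC : Core P) (hsd : ¬ SD P) (hL : ¬ IsLieTypeChar p (Soc P)) {q : ℕ} (hq : IsL 2 q (Soc P))
    (h7 : 5 ≤ q) (h9 : q ≠ 9) (h : ¬ p ∣ q) : Cross10 p P := by
  obtain ⟨K, i1, i2, hK, ⟨e⟩⟩ := hq
  rcases H464.Sl2.l2_stage1_le p hC (by omega) (by omega) (by rw [hK]; exact h) e (by simp) with h1 | ⟨h1, -⟩
  · exact (hsd h1).elim
  · rw [Fintype.card_fin] at h1
    have hK19 : Fintype.card K = 19 := by omega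
    refine Or.inl ⟨?_, K, i1, i2, hK19, ⟨e⟩⟩
    rintro rfl
    rw [← hK, hK19] at h
    exact h dvd_rfl

include hFp hp in
theorem cross (hC : Core P) (hsd : ¬ SD P) (hk : IsKnownSimple' (Soc P)) (hL : ¬ IsLieTypeChar p (Soc P)) : Cross10 p P := by
  have h10 : Fintype.card (Fin 10) = 10 := by simp
  have h27 : IsL 2 7 (Soc P) → Cross10 p P := by
    intro h
    refine l2_row p hC hsd hL h (by norm_num) (by norm_num) ?_
    intro hd
    exact hL (lie_of_isL hp.out hd (by norm_num) (fun _ => by norm_num) h)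
  have hs62 : p ≠ 2 → IsS 3 2 (Soc P) → False := by
    rintro h2 ⟨K, i1, i2, hK, ⟨e⟩⟩
    have h3 := H916.SpSix.spSix_dim (zero_or_one hK) hC e (two_ne h2) (by simp)
    simp at h3
  have ho82 : p ≠ 2 → IsOP 4 2 (Soc P) → False := by
    rintro h2 ⟨K, i1, i2, hK, ⟨e⟩⟩
    have h3 := H916.Om.omega_dim (zero_or_one hK) hC e (two_ne h2) (by simp)
    simp at h3
  rcases list₂ (p := p) (n := 10) (by norm_num) hC hk hL with h | h | h | h | h
  · obtain ⟨m, h5, h14, hp5, -, h14', ⟨e⟩⟩ := h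
    have hm : m = 5 ∨ m = 6 ∨ m = 7 ∨ 8 ≤ m := by omega
    rcases hm with rfl | rfl | rfl | hm
    · exact (hsd (H937.T2.a5_sd hC e)).elim
    · exact (hsd (H937.T2.a6_sd_of_not_dvd hC e (by simp))).elim
    · exact Or.inr (Or.inl ⟨e⟩)
    · refine (hsd (H614.AMod.Main.alt_sd_fr hC p e hm (by simp) ?_).1).elim
      rintro ⟨rfl, rfl⟩
      exact hL (H219.HerSmall.lie_alt8 e)
  · rcases h with ⟨q, hq, hpq, -, h⟩ | ⟨h1, -, h⟩ | ⟨h1, -, h⟩ | ⟨-, h1, -⟩ | ⟨h1, h2, -, h⟩ | ⟨h1, -, h⟩ |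
      ⟨-, h1, -⟩ | ⟨h1, -, h⟩ | ⟨h1, -, h⟩
    · simp only [Finset.mem_insert, Finset.mem_singleton] at hq
      exact l2_row p hC hsd hL h (by omega) (by omega) hpq
    · exfalso
      obtain ⟨K, i1, i2, hK, ⟨e⟩⟩ := h
      have h3 := (H175.L33.l33 hC p h1 hK e (by simp)).2.2.2
      simp at h3
    · exfalso
      obtain ⟨K, i1, i2, hK, e⟩ := h
      have h3 := H936.U33All.u33_all hC p h1 (by simp) (by rw [hK]; norm_num) e
      simp at h3
    · omega
    · exact Or.inr (Or.inr (Or.inl ⟨h1, h2, h⟩))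
    · obtain ⟨K, i1, i2, hK, ⟨e⟩⟩ := h
      rcases H36.U52.t6 hC p h1 (by norm_num) (by rw [hK]; norm_num) e with h3 | h3
      · exact (hsd h3.2.1).elim
      · omega
    · omega
    · exact (hs62 h1 h).elim
    · exact (ho82 h1 h).elim
  · rcases h with ⟨h2, -, h | h | ⟨h3, h⟩ | h | h | h⟩ | ⟨-, h1, -⟩
    · exact h27 h
    · by_cases h7 : p = 7
      · subst h7
        obtain ⟨K, i1, i2, hK, ⟨e⟩⟩ := h
        exact (hsd ((H906.T14.l34_ten 7 hC (by norm_num) hK (by simp) e).2.2 rfl).1).elim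
      · exact Or.inr (Or.inr (Or.inr (Or.inl ⟨h2, h7, h⟩)))
    · exact Or.inr (Or.inr (Or.inl ⟨h2, h3, h⟩))
    · exact (hs62 h2 h).elim
    · exact (ho82 h2 h).elim
    · exfalso
      have h3 := (H937.G24.row hC h p h2 (by simp)).1
      simp at h3
    · omega
  · exfalso
    have h3 := (H814.Sz8.core_sz8 hC (two_ne h.1) (by simp) h.2.2).1
    simp at h3
  · rcases h with h | h | h | ⟨⟨e⟩⟩ | ⟨⟨e⟩⟩ | h | ⟨⟨e⟩⟩ | h | h
    · exact Or.inr (Or.inr (Or.inr (Or.inr (Or.inl h))))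
    · have h1 : SD P ∨ (((p % 8 = 1 ∨ p % 8 = 3) ∧ Fr P p) ∨ ((p % 8 = 5 ∨ p % 8 = 7) ∧ Cj P p)) := by
        by_cases h3 : p = 3
        · subst h3
          exact (m12_three hC h).imp_right fun h1 => Or.inl ⟨Or.inr rfl, h1⟩
        · exact (H6.M11.m12_small hC p h3 h (by simp)).imp_right fun h1 => h1.2
      rcases h1 with h1 | h1
      · exact (hsd h1).elim
      · exact Or.inr (Or.inr (Or.inr (Or.inr (Or.inr (Or.inl ⟨h, h1⟩)))))
    · by_cases h2 : p = 2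
      · subst h2
        obtain ⟨e⟩ := h
        rcases H921.M22.main e hC (by simp) with h1 | ⟨-, h1, -⟩
        · have := h1.1
          simp at this
        · exact Or.inr (Or.inr (Or.inr (Or.inr (Or.inr (Or.inr ⟨⟨e⟩, Or.inl ⟨Or.inl rfl, h1⟩⟩)))))
      · refine Or.inr (Or.inr (Or.inr (Or.inr (Or.inr (Or.inr ⟨h, ?_⟩)))))
        obtain ⟨e⟩ := h
        obtain ⟨h3, h4, h5⟩ := H13.M22.ten p hC h2 (by simp) e
        have hodd : p % 2 = 1 := hp.out.eq_two_or_odd.resolve_left h2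
        have h7 : p % 7 ≠ 0 := by
          intro h7
          obtain rfl : p = 7 := ((Nat.prime_dvd_prime_iff_eq (by norm_num) hp.out).1 (Nat.dvd_of_mod_eq_zero h7)).symm
          exact hsd (h5 rfl).1
        have h8 : (p % 7 = 1 ∨ p % 7 = 2 ∨ p % 7 = 4) ∨ (p % 7 = 3 ∨ p % 7 = 5 ∨ p % 7 = 6) := by omega
        rcases h8 with h8 | h8
        · exact Or.inl ⟨by omega, h3 h8⟩
        · exact Or.inr ⟨by omega, h4 h8⟩
    · have := (H4.LDM.Stage.m23_low hC e p (by simp)).2.1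
      omega
    · have := (H4.LDM.Stage.m24_low hC e p (by simp)).2.1
      omega
    · exact (hsd (H1.TJ1.sd_iso hC h)).elim
    · exact (hsd (H1.TJ2.sd hC e (by simp))).elim
    · have := (H95.JT.j3 p hC h (by simp)).2.1
      omega
    · exfalso
      obtain ⟨e⟩ := h
      by_cases h3 : p = 3
      · subst h3
        have h3 := (H878.Sz.core_Suz_three hC e (by simp)).1
        simp at h3
      · have h3 := (H878.Sz.core_Suz hC e (by simp) p h3).1
        simp at h3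

end Cfsg.Agent.H923.Ten.Asm
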