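import Cfsg.Agent.H915.LD
import Cfsg.Agent.H908.SLTrans
import Cfsg.Agent.LieClassical.GUOrder

/-!
# Overgroups of the form `X ↦ G X Gᵀ` in dimension ten (helper923)

`Mdl Φ` : `Φ : F^10 → M_m(F)` injective, the image is closed under `X ↦ G X Gᵀ`.  `kap Φ h : GL_m(F) →* GL_10(F)` the
induced action, `cone Φ r` : the members of `GL_10(F)` which preserve the set of vectors `v` with `rank (Φ v) ≤ r`.

* `not_max_sl` : if `P ≤ GL_10(F)` acts through `GL_m(F)`, `H = P · scalars`, and `GL_m(F)` is large, then `H` is not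
  maximal in `SL_10(F)`;
* `not_max_su` : the unitary version.
-/

set_option autoImplicit false
set_option linter.unusedSectionVars false

namespace Cfsg.Agent.H923.Ten

open Cfsg Cfsg.Geo Matrix
open Cfsg.Agent.H915.LD
open scoped commutatorElement

universe u

section general

variable {F : Type u} [Field F] {m : ℕ}

/-- the model -/
structure Mdl (Φ : (Fin 10 → F) →ₗ[F] Matrix (Fin m) (Fin m) F) : Prop where
  inj : Function.Injective Φ
  cl : ∀ (G : Matrix (Fin m) (Fin m) F) (v : Fin 10 → F), ∃ w, Φ w = G * Φ v * Gᵀ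

variable {Φ : (Fin 10 → F) →ₗ[F] Matrix (Fin m) (Fin m) F}

/-- `X ↦ G X Gᵀ` as a linear map -/
def cj (G : Matrix (Fin m) (Fin m) F) : Matrix (Fin m) (Fin m) F →ₗ[F] Matrix (Fin m) (Fin m) F where
  toFun X := G * X * Gᵀ
  map_add' X Y := by rw [Matrix.mul_add, Matrix.add_mul]
  map_smul' c X := by simp

theorem eq_of_mulVec {n : ℕ} {A B : Matrix (Fin n) (Fin n) F} (h : ∀ v, A *ᵥ v = B *ᵥ v) : A = B :=
  Matrix.toLin'.injective (LinearMap.ext fun v => by rw [Matrix.toLin'_apply, Matrix.toLin'_apply, h])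

theorem exists_kapM (h : Mdl Φ) : ∃ f : Matrix (Fin m) (Fin m) F →* Matrix (Fin 10) (Fin 10) F,
    ∀ G v, Φ (f G *ᵥ v) = G * Φ v * Gᵀ := by
  obtain ⟨Ψ, hΨ⟩ := Φ.exists_leftInverse_of_injective (LinearMap.ker_eq_bot.2 h.inj)
  have hΨ' : ∀ w, Ψ (Φ w) = w := fun w => LinearMap.congr_fun hΨ w
  have key : ∀ (G : Matrix (Fin m) (Fin m) F) (v : Fin 10 → F),
      Φ (LinearMap.toMatrix' (Ψ ∘ₗ cj G ∘ₗ Φ) *ᵥ v) = G * Φ v * Gᵀ := by
    intro G v
    rw [← Matrix.toLin'_apply, Matrix.toLin'_toMatrix']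
    change Φ (Ψ (G * Φ v * Gᵀ)) = _
    obtain ⟨w, hw⟩ := h.cl G v
    rw [← hw, hΨ']
  refine ⟨{ toFun := fun G => LinearMap.toMatrix' (Ψ ∘ₗ cj G ∘ₗ Φ), map_one' := ?_, map_mul' := ?_ }, key⟩
  · apply eq_of_mulVec
    intro v
    apply h.inj
    rw [key, one_mul, transpose_one, mul_one, Matrix.one_mulVec]
  · intro G G'
    apply eq_of_mulVec
    intro v
    apply h.inj
    rw [key, ← Matrix.mulVec_mulVec, key, key, transpose_mul]
    simp only [Matrix.mul_assoc]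

/-- the action of `GL_m(F)` on `F^10` -/
noncomputable def kap (h : Mdl Φ) : GL (Fin m) F →* GL (Fin 10) F := Units.map (exists_kapM h).choose

theorem kap_spec (h : Mdl Φ) (G : GL (Fin m) F) (v : Fin 10 → F) :
    Φ ((kap h G : Matrix (Fin 10) (Fin 10) F) *ᵥ v) =
      (G : Matrix (Fin m) (Fin m) F) * Φ v * (G : Matrix (Fin m) (Fin m) F)ᵀ :=
  (exists_kapM h).choose_spec (G : Matrix (Fin m) (Fin m) F) v

/-- The members of `GL_10` preserving the vectors of small rank. -/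
def cone (Φ : (Fin 10 → F) →ₗ[F] Matrix (Fin m) (Fin m) F) (r : ℕ) : Subgroup (GL (Fin 10) F) where
  carrier := {g | ∀ v, (Φ ((g : Matrix (Fin 10) (Fin 10) F) *ᵥ v)).rank ≤ r ↔ (Φ v).rank ≤ r}
  mul_mem' := by
    intro a b ha hb v
    rw [Units.val_mul, ← Matrix.mulVec_mulVec, ha, hb]
  one_mem' := by
    intro v
    rw [Units.val_one, Matrix.one_mulVec]
  inv_mem' := by
    intro a ha v
    have h1 := ha (((a⁻¹ : GL (Fin 10) F) : Matrix (Fin 10) (Fin 10) F) *ᵥ v)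
    rw [Matrix.mulVec_mulVec, ← Units.val_mul, mul_inv_cancel, Units.val_one, Matrix.one_mulVec] at h1
    exact h1.symm

theorem mem_cone {r : ℕ} {g : GL (Fin 10) F} :
    g ∈ cone Φ r ↔ ∀ v, (Φ ((g : Matrix (Fin 10) (Fin 10) F) *ᵥ v)).rank ≤ r ↔ (Φ v).rank ≤ r := Iff.rfl

theorem rank_conj (G : GL (Fin m) F) (X : Matrix (Fin m) (Fin m) F) :
    ((G : Matrix (Fin m) (Fin m) F) * X * (G : Matrix (Fin m) (Fin m) F)ᵀ).rank = X.rank := by
  have h1 : IsUnit (G : Matrix (Fin m) (Fin m) F).det := by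
    rw [← Matrix.isUnit_iff_isUnit_det]
    exact G.isUnit
  rw [Matrix.rank_mul_eq_left_of_isUnit_det _ _ (by rwa [Matrix.det_transpose]),
    Matrix.rank_mul_eq_right_of_isUnit_det _ _ h1]

theorem mem_cone_of_conj {r : ℕ} {g : GL (Fin 10) F} (G : GL (Fin m) F)
    (h : ∀ v, Φ ((g : Matrix (Fin 10) (Fin 10) F) *ᵥ v) =
      (G : Matrix (Fin m) (Fin m) F) * Φ v * (G : Matrix (Fin m) (Fin m) F)ᵀ) : g ∈ cone Φ r := by
  intro v
  rw [h, rank_conj]

theorem kap_mem_cone {r : ℕ} (h : Mdl Φ) (G : GL (Fin m) F) : kap h G ∈ cone Φ r :=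
  mem_cone_of_conj G (kap_spec h G)

theorem scalar_mem_cone {r : ℕ} {g : GL (Fin 10) F} {c : F}
    (hg : (g : Matrix (Fin 10) (Fin 10) F) = c • (1 : Matrix (Fin 10) (Fin 10) F)) : g ∈ cone Φ r := by
  have hc : c ≠ 0 := by
    rintro rfl
    rw [zero_smul] at hg
    exact (Units.ne_zero g) hg
  intro v
  rw [hg, Matrix.smul_mulVec, Matrix.one_mulVec, map_smul]
  have h1 : ∀ X : Matrix (Fin m) (Fin m) F, (c • X).rank = X.rank := by
    intro X
    have h2 : c • X = (c • (1 : Matrix (Fin m) (Fin m) F)) * X := by rw [smul_mul_assoc, one_mul]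
    rw [h2]
    apply Matrix.rank_mul_eq_right_of_isUnit_det
    rw [Matrix.det_smul, Matrix.det_one, mul_one]
    exact (pow_ne_zero _ hc).isUnit
  rw [h1]

end general

section main

variable {F : Type u} [Field F] [Finite F] {m : ℕ} {Φ : (Fin 10 → F) →ₗ[F] Matrix (Fin m) (Fin m) F}
  {H P : Subgroup (GL (Fin 10) F)}

theorem card_le_of_normalize (h : Mdl Φ)
    (hsc : ∀ (G : GL (Fin m) F) (c : F), (∀ v, (G : Matrix (Fin m) (Fin m) F) * Φ v * (G : Matrix (Fin m) (Fin m) F)ᵀ =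
      c • Φ v) → G ∈ scalars (Fin m) F)
    (hirr : ActsAbsolutelyIrreducibly (matrixSet P)) (𝒢 : Subgroup (GL (Fin m) F))
    (hn : ∀ G ∈ 𝒢, ∀ x ∈ P, kap h G * x * (kap h G)⁻¹ ∈ P) :
    Nat.card 𝒢 ≤ Nat.card (MulAut P) * Nat.card (scalars (Fin m) F) := by
  have hmem : ∀ G : 𝒢, kap h G ∈ Subgroup.normalizer (P : Set (GL (Fin 10) F)) := by
    intro G
    rw [Subgroup.mem_normalizer_iff]
    intro x
    refine ⟨fun hx => hn _ G.2 x hx, fun hx => ?_⟩
    have h1 := hn _ (inv_mem G.2) _ hx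
    rw [map_inv, inv_inv] at h1
    have h2 : (kap h (G : GL (Fin m) F))⁻¹ * (kap h (G : GL (Fin m) F) * x * (kap h (G : GL (Fin m) F))⁻¹) *
        kap h (G : GL (Fin m) F) = x := by group
    rwa [h2] at h1
  let ψ : 𝒢 →* MulAut P := (Subgroup.normalizerMonoidHom P).comp (((kap h).comp 𝒢.subtype).codRestrict _ hmem)
  have hψ : ∀ (G : 𝒢) (x : P), ((ψ G x : P) : GL (Fin 10) F) = kap h G * x * (kap h G)⁻¹ := fun G x => rfl
  have hker : ∀ G : 𝒢, ψ G = 1 → (G : GL (Fin m) F) ∈ scalars (Fin m) F := by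
    intro G hG
    have h1 : ∀ s ∈ matrixSet P, (kap h (G : GL (Fin m) F) : Matrix (Fin 10) (Fin 10) F) * s =
        s * (kap h (G : GL (Fin m) F) : Matrix (Fin 10) (Fin 10) F) := by
      rintro _ ⟨x, hx, rfl⟩
      have h2 := hψ G ⟨x, hx⟩
      rw [hG] at h2
      have h3 : x = kap h (G : GL (Fin m) F) * x * (kap h (G : GL (Fin m) F))⁻¹ := h2
      have h4 : kap h (G : GL (Fin m) F) * x = x * kap h (G : GL (Fin m) F) := by
        rw [eq_mul_inv_iff_mul_eq] at h3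
        exact h3.symm
      have h5 := congrArg Units.val h4
      rwa [Units.val_mul, Units.val_mul] at h5
    obtain ⟨c, hc⟩ := hirr.2 _ h1
    apply hsc _ c
    intro v
    rw [← kap_spec h, hc, Matrix.smul_mulVec, Matrix.one_mulVec, map_smul]
  have h1 := Subgroup.card_mul_index ψ.ker
  rw [Subgroup.index_ker] at h1
  rw [← h1, mul_comm]
  apply Nat.mul_le_mul
  · exact Nat.card_le_card_of_injective _ ψ.range.subtype_injective
  · apply Nat.card_le_card_of_injective (fun G : ψ.ker => (⟨(G : 𝒢), hker _ G.2⟩ : scalars (Fin m) F))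
    intro a b hab
    have h2 := congrArg Subtype.val hab
    exact Subtype.ext (Subtype.ext h2)

/-- a perfect subgroup of `P · scalars` lies in `P` -/
theorem le_of_perfect {Q : Subgroup (GL (Fin 10) F)} (hQ : ⁅Q, Q⁆ = Q) (hQH : Q ≤ H)
    (hH : ∀ h ∈ H, ∃ x ∈ P, ∃ c : F, (h : Matrix (Fin 10) (Fin 10) F) = c • (x : Matrix (Fin 10) (Fin 10) F)) :
    Q ≤ P := by
  rw [← hQ, Subgroup.commutator_le]
  intro a ha b hb
  obtain ⟨x, hx, c, hc⟩ := hH a (hQH ha)
  obtain ⟨y, hy, d, hd⟩ := hH b (hQH hb)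
  have h1 : ⁅a, b⁆ = ⁅x, y⁆ := by
    have e1 : ∀ g k : GL (Fin 10) F, ⁅g, k⁆ = g * k * (k * g)⁻¹ := by
      intro g k
      rw [commutatorElement_def, _root_.mul_inv_rev]
      group
    rw [e1, e1, mul_inv_eq_iff_eq_mul]
    apply Units.ext
    have h2 : ((b * a : GL (Fin 10) F) : Matrix (Fin 10) (Fin 10) F) = (c * d) • ((y * x : GL (Fin 10) F) :
        Matrix (Fin 10) (Fin 10) F) := by
      rw [Units.val_mul, hc, hd, Matrix.smul_mul, Matrix.mul_smul, smul_smul, mul_comm d c, Units.val_mul]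
    have h3 : ((a * b : GL (Fin 10) F) : Matrix (Fin 10) (Fin 10) F) = (c * d) • ((x * y : GL (Fin 10) F) :
        Matrix (Fin 10) (Fin 10) F) := by
      rw [Units.val_mul, hc, hd, Matrix.smul_mul, Matrix.mul_smul, smul_smul, Units.val_mul]
    rw [h3, Units.val_mul _ (b * a), h2, Matrix.mul_smul, ← Units.val_mul, inv_mul_cancel_right]
  rw [h1]
  exact Subgroup.commutator_le_self P (Subgroup.commutator_mem_commutator hx hy)

theorem le_cone {r : ℕ}
    (hP : ∀ g ∈ P, ∃ G : GL (Fin m) F, ∀ v, Φ ((g : Matrix (Fin 10) (Fin 10) F) *ᵥ v) =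
      (G : Matrix (Fin m) (Fin m) F) * Φ v * (G : Matrix (Fin m) (Fin m) F)ᵀ)
    (hH : ∀ h ∈ H, ∃ x ∈ P, ∃ c : F, (h : Matrix (Fin 10) (Fin 10) F) = c • (x : Matrix (Fin 10) (Fin 10) F)) :
    H ≤ cone Φ r := by
  intro h hh
  obtain ⟨x, hx, c, hc⟩ := hH h hh
  obtain ⟨G, hG⟩ := hP x hx
  have h1 : h = (h * x⁻¹) * x := by group
  rw [h1]
  refine mul_mem (scalar_mem_cone (c := c) ?_) (mem_cone_of_conj G hG)
  rw [Units.val_mul, hc, Matrix.smul_mul, ← Units.val_mul, mul_inv_cancel, Units.val_one]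

theorem conj_perfect {P : Subgroup (GL (Fin 10) F)} (hP : ⁅P, P⁆ = P) (k : GL (Fin 10) F) :
    ⁅P.map (MulAut.conj k).toMonoidHom, P.map (MulAut.conj k).toMonoidHom⁆ = P.map (MulAut.conj k).toMonoidHom := by
  rw [← Subgroup.map_commutator, hP]

theorem conj_mem_sl {y : GL (Fin 10) F} (hy : y ∈ specialLinear (Fin 10) F) (k : GL (Fin 10) F) :
    k * y * k⁻¹ ∈ specialLinear (Fin 10) F := by
  rw [H908.mem_sl_iff] at *
  rw [Units.val_mul, Units.val_mul, Matrix.det_mul, Matrix.det_mul, hy, mul_one, ← Matrix.det_mul,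
    ← Units.val_mul, mul_inv_cancel, Units.val_one, Matrix.det_one]

/-- **No maximal subgroup of `SL_10`.** -/
theorem not_max_sl (h : Mdl Φ)
    (hsc : ∀ (G : GL (Fin m) F) (c : F), (∀ v, (G : Matrix (Fin m) (Fin m) F) * Φ v * (G : Matrix (Fin m) (Fin m) F)ᵀ =
      c • Φ v) → G ∈ scalars (Fin m) F)
    {r : ℕ} (hcore : IsResidualCore H P)
    (hP : ∀ g ∈ P, ∃ G : GL (Fin m) F, ∀ v, Φ ((g : Matrix (Fin 10) (Fin 10) F) *ᵥ v) =
      (G : Matrix (Fin m) (Fin m) F) * Φ v * (G : Matrix (Fin m) (Fin m) F)ᵀ)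
    (hH : ∀ h ∈ H, ∃ x ∈ P, ∃ c : F, (h : Matrix (Fin 10) (Fin 10) F) = c • (x : Matrix (Fin 10) (Fin 10) F))
    (hcard : Nat.card (MulAut P) * Nat.card (scalars (Fin m) F) < Nat.card (GL (Fin m) F))
    (hd : ∃ d w : Fin 10 → F, d ≠ 0 ∧ w ≠ 0 ∧ (Φ d).rank ≤ r ∧ r < (Φ w).rank) :
    ¬ IsMaximalIn (specialLinear (Fin 10) F) H := by
  intro hmax
  have hle : H ≤ cone Φ r := le_cone hP hH
  rcases hmax.2 (cone Φ r ⊓ specialLinear (Fin 10) F) (le_inf hle hmax.1.le) inf_le_right with h1 | h1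
  · have h2 := card_le_of_normalize h hsc hcore.absIrred ⊤ (by
      intro G _ x hx
      have h3 : P.map (MulAut.conj (kap h G)).toMonoidHom ≤ P := by
        refine le_of_perfect (conj_perfect hcore.perfect _) ?_ hH
        rw [← h1]
        rintro _ ⟨y, hy, rfl⟩
        change kap h G * y * (kap h G)⁻¹ ∈ cone Φ r ⊓ specialLinear (Fin 10) F
        refine Subgroup.mem_inf.2 ⟨mul_mem (mul_mem (kap_mem_cone h G) (hle (hcore.le hy)))
          (inv_mem (kap_mem_cone h G)), conj_mem_sl (hmax.1.le (hcore.le hy)) _⟩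
      exact h3 ⟨x, hx, rfl⟩)
    rw [Nat.card_congr Subgroup.topEquiv.toEquiv] at h2
    omega
  · obtain ⟨d, w, hd0, hw0, hdr, hwr⟩ := hd
    obtain ⟨g, hg, hgd⟩ := H908.exists_sl_map1 (n := 10) (by norm_num) hd0 hw0
    rw [← h1] at hg
    have h2 := (hg.1 d).2 hdr
    rw [hgd] at h2
    omega

end main

end Cfsg.Agent.H923.Ten
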