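import Cfsg.Agent.H923.Ten.U42Rep
import Cfsg.Agent.S0245

/-!
# Automorphisms of `PSp₄(3)` in dimension ten (helper923)
-/

set_option autoImplicit false
set_option linter.unusedSectionVars false

namespace Cfsg.Agent.H923.Ten.U42

open Module Matrix Cfsg Cfsg.Geo Cfsg.Agent.H659.Sp4 Cfsg.Agent.H659.SevenU42 Cfsg.Agent.H659.Ac
open Cfsg.Agent.ChevalleyStructure.B2Rep Cfsg.Agent.ChevalleyStructure.B2Sp4

universe u

/-! ### The outer automorphism -/

def dM : Matrix I4 I4 (ZMod 3) := mk4 ![![1,0,0,0],![0,1,0,0],![0,0,2,0],![0,0,0,2]]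

theorem dM_sq : dM * dM = 1 := by decide +kernel
theorem dM_t : dMᵀ = dM := by decide +kernel
theorem dM_J : dM * Matrix.J (Fin 2) (ZMod 3) * dM = -Matrix.J (Fin 2) (ZMod 3) := by decide +kernel

theorem dl_mem (g : Sp) : dM * g.1 * dM ∈ Matrix.symplecticGroup (Fin 2) (ZMod 3) := by
  rw [SymplecticGroup.mem_iff, Matrix.transpose_mul, Matrix.transpose_mul, dM_t]
  have h1 := SymplecticGroup.mem_iff.1 g.2
  calc dM * g.1 * dM * Matrix.J (Fin 2) (ZMod 3) * (dM * ((g.1)ᵀ * dM))
      = dM * g.1 * (dM * Matrix.J (Fin 2) (ZMod 3) * dM) * ((g.1)ᵀ * dM) := by simp only [Matrix.mul_assoc]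
    _ = -(dM * (g.1 * Matrix.J (Fin 2) (ZMod 3) * (g.1)ᵀ) * dM) := by
        rw [dM_J]; simp only [Matrix.mul_neg, Matrix.neg_mul, Matrix.mul_assoc]
    _ = Matrix.J (Fin 2) (ZMod 3) := by rw [h1, dM_J, neg_neg]

/-- conjugation by a similitude -/
def dS : Sp →* Sp where
  toFun g := ⟨dM * g.1 * dM, dl_mem g⟩
  map_one' := Subtype.ext (by
    change dM * (1 : Matrix I4 I4 (ZMod 3)) * dM = 1
    rw [Matrix.mul_one, dM_sq])
  map_mul' a b := Subtype.ext (by
    change dM * (a.1 * b.1) * dM = (dM * a.1 * dM) * (dM * b.1 * dM)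
    have : dM * a.1 * dM * (dM * b.1 * dM) = dM * a.1 * (dM * dM) * b.1 * dM := by simp only [Matrix.mul_assoc]
    rw [this, dM_sq, Matrix.mul_one]; simp only [Matrix.mul_assoc])

theorem dS_dS (g : Sp) : dS (dS g) = g := by
  apply Subtype.ext
  change dM * (dM * g.1 * dM) * dM = g.1
  have : dM * (dM * g.1 * dM) * dM = (dM * dM) * g.1 * (dM * dM) := by simp only [Matrix.mul_assoc]
  rw [this, dM_sq, Matrix.mul_one, Matrix.one_mul]

theorem dS_z1 : dS (U 7 2) = (U 7 2)⁻¹ := by
  rw [eq_inv_iff_mul_eq_one]; exact Subtype.ext (by decide +kernel)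
theorem dS_z2 : dS (U 4 1) = (U 4 1)⁻¹ := by
  rw [eq_inv_iff_mul_eq_one]; exact Subtype.ext (by decide +kernel)
theorem dS_neg : dS negG = negG := Subtype.ext (by decide +kernel)

variable {F : Type u} [Field F] {P : Subgroup (GL (Fin 10) F)} {φ : Sp →* GL (Fin 10) F}

/-- no element of `GL₁₀` induces the outer automorphism -/
theorem no_delta {v : Fin 10 → F} {ζ : F} (h : Good (rq φ) v ζ) (T : (Fin 10 → F) →ₗ[F] (Fin 10 → F))
    (hT : Function.Injective T) (hc : ∀ g u, T (rq φ g u) = rq φ (dS g) (T u)) : False := by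
  have hz1 : rq φ (U 7 2) v = v := h.z1
  have hz2 : rq φ (U 4 1) v = ζ • v := h.z2
  have e1 := hc (U 7 2) v
  rw [hz1, dS_z1] at e1
  have e2 : rq φ (U 7 2) (T v) = T v := by
    conv_lhs => rw [e1]
    rw [mul_app, mul_inv_cancel, act1]
  obtain ⟨μ, hμ⟩ := h.un (T v) e2
  have hμ0 : μ ≠ 0 := by
    rintro rfl
    rw [zero_smul] at hμ
    exact h.ne (hT (hμ.trans (map_zero T).symm))
  have e3 := hc (U 4 1) v
  rw [hz2, dS_z2, map_smul, hμ] at e3
  have e4 := congrArg (rq φ (U 4 1)) e3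
  rw [mul_app, mul_inv_cancel, act1, map_smul, map_smul, hz2, smul_smul, smul_smul] at e4
  have e5 := smul_left_injective F h.ne e4
  have e5' : ζ * μ * ζ = μ := e5
  have e6 : ζ ^ 2 = 1 := by
    have : μ * (ζ ^ 2 - 1) = 0 := by linear_combination e5'
    linear_combination (mul_eq_zero.1 this).resolve_left hμ0
  apply h.ne1
  have := h.cube
  linear_combination this - ζ * e6

/-- restriction of the codomain -/
def cr (h : Cov P φ) : Sp →* P := φ.codRestrict P fun w => by rw [← h.range]; exact ⟨w, rfl⟩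

theorem cr_coe (h : Cov P φ) (w : Sp) : ((cr h w : P) : GL (Fin 10) F) = φ w := rfl

theorem cr_surj (h : Cov P φ) : Function.Surjective (cr h) := by
  rintro ⟨x, hx⟩
  rw [← h.range] at hx
  obtain ⟨w, hw⟩ := hx
  exact ⟨w, Subtype.ext hw⟩

theorem cr_ker (h : Cov P φ) {w : Sp} (hw : cr h w = 1) : w = 1 ∨ w = negG :=
  h.ker w (congrArg Subtype.val hw)

theorem cr_neg (h : Cov P φ) : cr h negG = 1 := Subtype.ext h.neg

theorem Cov.equiv (h : Cov P φ) : Nonempty (P ≃* PSp 2 (ZMod 3)) := by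
  have hk : (cr h).ker = Subgroup.center Sp := by
    ext w
    rw [MonoidHom.mem_ker]
    constructor
    · intro hw
      rcases cr_ker h hw with rfl | rfl
      · exact one_mem _
      · rw [Subgroup.mem_center_iff]
        intro g
        apply Subtype.ext
        change g.1 * negG.1 = negG.1 * g.1
        rw [negG_val, mul_neg, neg_mul, mul_one, one_mul]
    · intro hw
      rcases center_sp hw with rfl | rfl
      · exact map_one _
      · exact cr_neg h
  exact ⟨((QuotientGroup.quotientMulEquivOfEq hk.symm).trans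
    (QuotientGroup.quotientKerEquivOfSurjective (cr h) (cr_surj h))).symm⟩

theorem card_sp : Nat.card Sp = 51840 := by
  have h1 := Cfsg.Agent.S0245.result (F := ZMod 3) (q := 3) (ZMod.card 3) 2
  rw [h1]
  simp only [Finset.prod_range_succ, Finset.prod_range_zero]
  norm_num

theorem card_psp : Nat.card (PSp 2 (ZMod 3)) = 25920 := by
  have h1 := card_sp
  have h2 : Nat.card (Subgroup.center Sp) = 2 :=
    Cfsg.Agent.LieClassical.SympCenter.card_center (F := ZMod 3) (m := 2) (by norm_num)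
  have h3 := Subgroup.card_eq_card_quotient_mul_card_subgroup (Subgroup.center Sp)
  rw [h1, h2] at h3
  change Nat.card (Sp ⧸ Subgroup.center Sp) = 25920
  omega

theorem Cov.card (h : Cov P φ) : Nat.card P = 25920 := by
  obtain ⟨e⟩ := h.equiv
  rw [Nat.card_congr e.toEquiv, card_psp]

theorem Cov.card_aut (h : Cov P φ) : Nat.card (MulAut P) = 51840 := by
  obtain ⟨e⟩ := h.equiv
  have : Fact (Nat.Prime 3) := ⟨Nat.prime_three⟩
  rw [Nat.card_congr (MulAut.congr e).toEquiv,
    S0814.result (F := ZMod 3) 3 1 le_rfl (by rw [ZMod.card]; norm_num) 2 le_rfl (by norm_num), card_psp]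
  norm_num

theorem Cov.exists_D (h : Cov P φ) : ∃ D : MulAut P, ∀ w, D (cr h w) = cr h (dS w) := by
  have hk : (cr h).ker ≤ ((cr h).comp dS).ker := by
    intro w hw
    rw [MonoidHom.mem_ker] at hw ⊢
    change cr h (dS w) = 1
    rcases cr_ker h hw with rfl | rfl
    · rw [map_one, map_one]
    · rw [dS_neg, cr_neg]
  let D0 : P →* P := (cr h).liftOfSurjective (cr_surj h) ⟨(cr h).comp dS, hk⟩
  have hD : ∀ w, D0 (cr h w) = cr h (dS w) := fun w =>
    MonoidHom.liftOfRightInverse_comp_apply (cr h) _ (Function.rightInverse_surjInv (cr_surj h)) ⟨(cr h).comp dS, hk⟩ w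
  have hDD : ∀ x, D0 (D0 x) = x := by
    intro x
    obtain ⟨w, rfl⟩ := cr_surj h x
    rw [hD, hD, dS_dS]
  exact ⟨{ toFun := D0, invFun := D0, left_inv := hDD, right_inv := hDD, map_mul' := map_mul D0 }, hD⟩

/-- every element normalising the core is a scalar times an element of the core -/
theorem Cov.eq_mul (h : Cov P φ) {v : Fin 10 → F} {ζ : F} (hv : Good (rq φ) v ζ)
    (hbot : ∀ x ∈ P, x ∈ scalars (Fin 10) F → x = 1)
    (hirr : ActsAbsolutelyIrreducibly (matrixSet P)) (t : GL (Fin 10) F) (ht : ∀ x, x ∈ P ↔ t * x * t⁻¹ ∈ P) :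
    ∃ x ∈ P, ∃ c : F, (t : Matrix (Fin 10) (Fin 10) F) = c • (x : Matrix (Fin 10) (Fin 10) F) := by
  -- the automorphism
  let ψ : MulAut P :=
    { toFun := fun x => ⟨t * x * t⁻¹, (ht x).1 x.2⟩
      invFun := fun x => ⟨t⁻¹ * x * t, (ht _).2 (by
        have : t * (t⁻¹ * (x : GL (Fin 10) F) * t) * t⁻¹ = x := by group
        rw [this]; exact x.2)⟩
      left_inv := fun x => Subtype.ext (by change t⁻¹ * (t * (x : GL (Fin 10) F) * t⁻¹) * t = x; group)
      right_inv := fun x => Subtype.ext (by change t * (t⁻¹ * (x : GL (Fin 10) F) * t) * t⁻¹ = x; group)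
      map_mul' := fun x y => Subtype.ext (by
        change t * ((x : GL (Fin 10) F) * y) * t⁻¹ = (t * x * t⁻¹) * (t * y * t⁻¹); group) }
  have hψ : ∀ x : P, ((ψ x : P) : GL (Fin 10) F) = t * x * t⁻¹ := fun x => rfl
  obtain ⟨D, hD⟩ := h.exists_D
  -- elements commuting with `P` are scalar
  have hsch : ∀ y : GL (Fin 10) F, (∀ x ∈ P, y * x = x * y) → ∃ c : F,
      (y : Matrix (Fin 10) (Fin 10) F) = c • (1 : Matrix (Fin 10) (Fin 10) F) := by
    intro y hy
    apply hirr.2
    rintro _ ⟨x, hx, rfl⟩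
    rw [← Units.val_mul, ← Units.val_mul, hy x hx]
  have hci : Function.Injective (MulAut.conj : P →* MulAut P) := by
    rw [injective_iff_map_eq_one]
    intro x hx
    have h1 : ∀ y ∈ P, (x : GL (Fin 10) F) * y = y * x := by
      intro y hy
      have h2 := DFunLike.congr_fun hx ⟨y, hy⟩
      have h3 : (x : GL (Fin 10) F) * y * (x : GL (Fin 10) F)⁻¹ = y := congrArg Subtype.val h2
      rwa [mul_inv_eq_iff_eq_mul] at h3
    obtain ⟨c, hc⟩ := hsch _ h1
    apply Subtype.ext
    apply hbot _ x.2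
    have hc0 : c ≠ 0 := by
      rintro rfl
      rw [zero_smul] at hc
      have h4 : (x : GL (Fin 10) F).1 * ((x : GL (Fin 10) F)⁻¹).1 = 1 := Units.mul_inv _
      rw [hc, Matrix.zero_mul] at h4
      have := congrFun (congrFun h4 0) 0
      simp at this
    rw [mem_scalars_iff]
    exact ⟨Units.mk0 c hc0, hc⟩
  have hidx : (MulAut.conj : P →* MulAut P).range.index = 2 := by
    have h1 := Subgroup.card_mul_index (MulAut.conj : P →* MulAut P).range
    rw [h.card_aut, Nat.card_congr (MonoidHom.ofInjective hci).toEquiv.symm, h.card] at h1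
    omega
  have hDn : D ∉ (MulAut.conj : P →* MulAut P).range := by
    rintro ⟨x, hx⟩
    refine no_delta hv (Matrix.toLin' ((x : GL (Fin 10) F) : Matrix (Fin 10) (Fin 10) F)) ?_ ?_
    · intro a b hab
      rw [Matrix.toLin'_apply, Matrix.toLin'_apply] at hab
      have h2 := congrArg (fun z => ((x : GL (Fin 10) F)⁻¹ : GL (Fin 10) F).1 *ᵥ z) hab
      simp only [Matrix.mulVec_mulVec, ← Units.val_mul, inv_mul_cancel, Units.val_one, Matrix.one_mulVec] at h2
      exact h2
    · intro g u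
      rw [rq_apply, rq_apply, Matrix.toLin'_apply, Matrix.toLin'_apply, Matrix.mulVec_mulVec, Matrix.mulVec_mulVec,
        ← Units.val_mul, ← Units.val_mul]
      have h2 := DFunLike.congr_fun hx (cr h g)
      rw [hD] at h2
      have h3 : (x : GL (Fin 10) F) * φ g * (x : GL (Fin 10) F)⁻¹ = φ (dS g) := congrArg Subtype.val h2
      rw [← h3, inv_mul_cancel_right]
  by_cases hin : ψ ∈ (MulAut.conj : P →* MulAut P).range
  · obtain ⟨x, hx⟩ := hin
    obtain ⟨c, hc⟩ := hsch ((x : GL (Fin 10) F)⁻¹ * t) (by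
      intro y hy
      have h2 := DFunLike.congr_fun hx ⟨y, hy⟩
      have h3 : (x : GL (Fin 10) F) * y * (x : GL (Fin 10) F)⁻¹ = t * y * t⁻¹ := congrArg Subtype.val h2
      have h4 : t * y = (x : GL (Fin 10) F) * y * (x : GL (Fin 10) F)⁻¹ * t := by rw [h3]; group
      rw [mul_assoc, h4]; group)
    refine ⟨_, x.2, c, ?_⟩
    have h3 : t = (x : GL (Fin 10) F) * ((x : GL (Fin 10) F)⁻¹ * t) := by group
    conv_lhs => rw [h3]
    rw [Units.val_mul, hc, Matrix.mul_smul, Matrix.mul_one]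
  · exfalso
    obtain ⟨x, hx⟩ := (Subgroup.mul_mem_iff_of_index_two hidx (a := ψ) (b := D)).2
      ⟨fun h0 => absurd h0 hin, fun h0 => absurd h0 hDn⟩
    have key : ∀ g, t * φ (dS g) * t⁻¹ = (x : GL (Fin 10) F) * φ g * (x : GL (Fin 10) F)⁻¹ := by
      intro g
      have h2 := DFunLike.congr_fun hx (cr h g)
      rw [MulAut.mul_apply, hD] at h2
      exact (congrArg Subtype.val h2).symm
    refine no_delta hv (Matrix.toLin' ((t⁻¹ * (x : GL (Fin 10) F) : GL (Fin 10) F) : Matrix (Fin 10) (Fin 10) F))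
      ?_ ?_
    · intro a b hab
      rw [Matrix.toLin'_apply, Matrix.toLin'_apply] at hab
      have h2 := congrArg (fun z => ((t⁻¹ * (x : GL (Fin 10) F) : GL (Fin 10) F)⁻¹ : GL (Fin 10) F).1 *ᵥ z) hab
      simp only [Matrix.mulVec_mulVec, ← Units.val_mul, inv_mul_cancel, Units.val_one, Matrix.one_mulVec] at h2
      exact h2
    · intro g u
      rw [rq_apply, rq_apply, Matrix.toLin'_apply, Matrix.toLin'_apply, Matrix.mulVec_mulVec, Matrix.mulVec_mulVec,
        ← Units.val_mul, ← Units.val_mul]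
      have h3 : t⁻¹ * (x : GL (Fin 10) F) * φ g = φ (dS g) * (t⁻¹ * (x : GL (Fin 10) F)) := by
        have h4 : φ (dS g) = t⁻¹ * ((x : GL (Fin 10) F) * φ g * (x : GL (Fin 10) F)⁻¹) * t := by rw [← key]; group
        rw [h4]; group
      rw [h3]

end Cfsg.Agent.H923.Ten.U42
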