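import Cfsg.Agent.H923.Ten.U42Tab
import Mathlib.NumberTheory.Zsqrtd.Basic

/-!
# Checks on the tables (helper923)
-/

set_option autoImplicit false
set_option maxRecDepth 20000

namespace Cfsg.Agent.H923.Ten.U42

open Cfsg.Agent.H659.Sp4 Cfsg.Agent.H659.SevenU42

def p3 (g : Sp) (a : Fin 3) : Sp := ![1, g, g * g] a
def p2 (g : Sp) (a : Fin 2) : Sp := ![1, g] a

/-- the quaternion part -/
def qT : Fin 4 → Sp := ![1, jG, U 4 1 * jG * (U 4 1 * U 4 1), (U 4 1 * U 4 1) * jG * U 4 1]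

/-- normal form of the elements of the stabiliser of a point -/
def nf (q : Fin 3 × Fin 3 × Fin 3 × Fin 4 × Fin 2 × Fin 3 × Fin 2) : Sp :=
  p3 (U 6 2) q.1 * p3 (U 5 1) q.2.1 * p3 (U 7 2) q.2.2.1 * qT q.2.2.2.1 * p2 (jG * jG) q.2.2.2.2.1 *
    p3 (U 4 1) q.2.2.2.2.2.1 * p2 hG q.2.2.2.2.2.2

/-- representatives of the double cosets -/
def rep : Fin 3 → Sp := ![1, sG, nG]

/-- representatives of the cosets -/
def gT (t : Fin 40) : Sp := nf (lT t) * rep (cls t)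

theorem chk_y : ∀ t : Fin 40, U 5 1 * gT t = gT (pi_y t) * nf (nl_y t) := by
  intro t; apply Subtype.ext; revert t; decide +kernel
theorem chk_s : ∀ t : Fin 40, sG * gT t = gT (pi_s t) * nf (nl_s t) := by
  intro t; apply Subtype.ext; revert t; decide +kernel
theorem chk_j : ∀ t : Fin 40, jG * gT t = gT (pi_j t) * nf (nl_j t) := by
  intro t; apply Subtype.ext; revert t; decide +kernel

theorem inj_y : Function.Injective pi_y := by unfold Function.Injective; decide +kernel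
theorem inj_s : Function.Injective pi_s := by unfold Function.Injective; decide +kernel
theorem inj_j : Function.Injective pi_j := by unfold Function.Injective; decide +kernel

/-- the symmetric matrices -/
def Sm (t : Fin 40) (i j : Fin 4) : ℤ√(-3) :=
  let p := ((Sl.getD t []).getD i []).getD j (0, 0)
  ⟨p.1, p.2⟩

def Mz (l : List (List (ℤ × ℤ))) (i j : Fin 4) : ℤ√(-3) :=
  let p := (l.getD i []).getD j (0, 0)
  ⟨p.1, p.2⟩

/-- product of matrices -/
def mul4 (a b : Fin 4 → Fin 4 → ℤ√(-3)) (i j : Fin 4) : ℤ√(-3) :=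
  a i 0 * b 0 j + a i 1 * b 1 j + a i 2 * b 2 j + a i 3 * b 3 j

/-- twice the powers of `ζ` -/
def sz (l : Fin 3) : ℤ√(-3) := ![⟨2, 0⟩, ⟨-1, -1⟩, ⟨-1, 1⟩] l

theorem m_y : ∀ (t : Fin 40) (i j : Fin 4), mul4 (mul4 (Mz Ml_y) (Sm t)) (fun a b => Mz Ml_y b a) i j =
    ⟨-6, 0⟩ * (sz (nl_y t).2.2.2.2.2.1 * Sm (pi_y t) i j) := by decide +kernel
theorem m_s : ∀ (t : Fin 40) (i j : Fin 4), mul4 (mul4 (Mz Ml_s) (Sm t)) (fun a b => Mz Ml_s b a) i j =
    ⟨-6, 0⟩ * (sz (nl_s t).2.2.2.2.2.1 * Sm (pi_s t) i j) := by decide +kernel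
theorem m_j : ∀ (t : Fin 40) (i j : Fin 4), mul4 (mul4 (Mz Ml_j) (Sm t)) (fun a b => Mz Ml_j b a) i j =
    ⟨-6, 0⟩ * (sz (nl_j t).2.2.2.2.2.1 * Sm (pi_j t) i j) := by decide +kernel

theorem u_y : ∀ i j : Fin 4, mul4 (Mz Ml_y) (fun a b => star (Mz Ml_y b a)) i j = if i = j then ⟨12, 0⟩ else 0 := by
  decide +kernel
theorem u_s : ∀ i j : Fin 4, mul4 (Mz Ml_s) (fun a b => star (Mz Ml_s b a)) i j = if i = j then ⟨12, 0⟩ else 0 := by
  decide +kernel
theorem u_j : ∀ i j : Fin 4, mul4 (Mz Ml_j) (fun a b => star (Mz Ml_j b a)) i j = if i = j then ⟨12, 0⟩ else 0 := by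
  decide +kernel
theorem u_y' : ∀ i j : Fin 4, mul4 (fun a b => star (Mz Ml_y b a)) (Mz Ml_y) i j = if i = j then ⟨12, 0⟩ else 0 := by
  decide +kernel
theorem u_s' : ∀ i j : Fin 4, mul4 (fun a b => star (Mz Ml_s b a)) (Mz Ml_s) i j = if i = j then ⟨12, 0⟩ else 0 := by
  decide +kernel
theorem u_j' : ∀ i j : Fin 4, mul4 (fun a b => star (Mz Ml_j b a)) (Mz Ml_j) i j = if i = j then ⟨12, 0⟩ else 0 := by
  decide +kernel
theorem s_sym : ∀ (t : Fin 40) (i j : Fin 4), Sm t i j = Sm t j i := by decide +kernel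

/-- six times the values of the spherical function -/
def cv (t : Fin 40) : ℤ√(-3) := sz (-(lT t).2.2.2.2.2.1) * (![⟨3, 0⟩, 0, ⟨-1, 0⟩] (cls t))

/-- list sum, for kernel evaluation -/
def tot : ℤ√(-3) := ((List.finRange 40).map fun t => cv t * Sm t 1 1).sum

theorem tot_eq : tot = ⟨144, 0⟩ := by decide +kernel

end Cfsg.Agent.H923.Ten.U42
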