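import Cfsg.Agent.H659.Sp4Stage

/-!
# Ten-dimensional representations of `PSp₄(3)`: the fixed space of a transvection (helper923)
-/

set_option autoImplicit false
set_option linter.unusedSectionVars false

namespace Cfsg.Agent.H923.Ten.U42

open Module Cfsg.Agent.H659.Sp4 Cfsg.Agent.H659.SevenU42

variable {K : Type*} [Field K] {V : Type*} [AddCommGroup V] [Module K V] {O : Ops K V} {ω : K}
  [FiniteDimensional K V]

/-- closing of type 5 -/
theorem close5 (R : Rels O) (hω : Om ω) (h2 : (2 : K) ≠ 0) (h3 : (3 : K) ≠ 0) {m0 a b : ℕ} (T : Ty O ω m0 a b 0 0)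
    (hp : ∀ v, O.t1 (O.t2 v) = v) (tX : ∀ v ∈ Fi O.z1, O.t2 v = -v) {v0 v1 : V} (hv0 : v0 ∈ O.W ω 0 0 0)
    (hv1 : v1 ∈ O.W ω 0 1 0) {β : K} (hj : O.j v0 = β • v0 + v1) :
    ∃ W : Submodule K V, v0 ∈ W ∧ finrank K W ≤ 5 ∧ (∀ w ∈ W, O.y w ∈ W) ∧
      (∀ w ∈ W, O.s w ∈ W) ∧ (∀ w ∈ W, O.j w ∈ W) := by
  have ht : ∀ v, O.t1 v = O.t2 v := fun v => by
    have := hp (O.t2 v)
    rwa [R.t2t2] at this
  have hl := absent_w R hω h3 T (l := 2) (absent_c rfl)
  have x0 : O.z1 v0 = v0 := W_le_X 0 0 hv0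
  have x1 : O.z1 v1 = v1 := W_le_X 1 0 hv1
  have y0 : O.y v0 = v0 := y_fix R hω h3 T x0
  have y1 : O.y v1 = v1 := y_fix R hω h3 T x1
  have t0 : O.t2 v0 = -v0 := tX v0 x0
  have t1' : O.t2 v1 = -v1 := tX v1 x1
  -- `s v0 = -v0`
  have s0 : O.s v0 = -v0 := by
    have h4 : O.y (O.s v0) = O.s v0 := by
      have h5 : O.s v0 ∈ O.W ω 0 0 0 := W_s R hv0
      exact y_fix R hω h3 T (W_le_X 0 0 h5)
    have e := R.s_eq v0
    rw [y0, t0, map_neg, map_neg, map_neg, map_neg, map_neg, h4, R.ss, y0, y0] at e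
    exact e
  set v2 := O.s v1 with hv2
  have m1 : v2 ∈ O.W ω 1 0 0 := W_s R hv1
  rw [mem_W] at m1
  obtain ⟨b1, b2, b3⟩ := m1
  rw [om_one] at b1
  rw [om_zero] at b2 b3
  have s1 : O.s (O.y v2) = -O.y v2 := by
    rw [hv2, R.sys, y1, t1', map_neg, map_neg]
  have s2 : O.s (O.y (O.y v2)) = -O.y (O.y v2) := by
    rw [hv2, R.syys, ht, t1', map_neg, y1, map_neg, map_neg, map_neg]
  have j1 : O.j v1 = -v0 - β • (β • v0 + v1) := by
    have h4 : v1 = O.j v0 - β • v0 := by rw [hj]; abel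
    conv_lhs => rw [h4]
    rw [map_sub, map_smul, R.jj, t0, hj]
  let S : Set V := {v0, v1, v2, O.y v2, O.y (O.y v2)}
  have i0 : v0 ∈ Submodule.span K S := Submodule.subset_span (by simp [S])
  have i1 : v1 ∈ Submodule.span K S := Submodule.subset_span (by simp [S])
  have i2 : v2 ∈ Submodule.span K S := Submodule.subset_span (by simp [S])
  have i3 : O.y v2 ∈ Submodule.span K S := Submodule.subset_span (by simp [S])
  have i4 : O.y (O.y v2) ∈ Submodule.span K S := Submodule.subset_span (by simp [S])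
  have key : ∀ T : Module.End K V, (∀ w ∈ S, T w ∈ Submodule.span K S) →
      ∀ w ∈ Submodule.span K S, T w ∈ Submodule.span K S := by
    intro T hT w hw
    have : Submodule.span K S ≤ (Submodule.span K S).comap T := Submodule.span_le.2 hT
    exact this hw
  have jj := jR R hω b1 b3 (ju_fix R hω h2 hl b1 b3) i2 i3 i4
  refine ⟨Submodule.span K S, i0, ?_, ?_, ?_, ?_⟩
  · classical
    have hS : S = (({v0, v1, v2, O.y v2, O.y (O.y v2)} : Finset V) : Set V) := by simp [S]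
    rw [hS]
    refine (finrank_span_finset_le_card _).trans ?_
    exact Finset.card_le_five
  · refine key O.y ?_
    rintro w (rfl | rfl | rfl | rfl | rfl)
    · rw [y0]; exact i0
    · rw [y1]; exact i1
    · exact i3
    · exact i4
    · rw [R.yyy]; exact i2
  · refine key O.s ?_
    rintro w (rfl | rfl | rfl | rfl | rfl)
    · rw [s0]; exact neg_mem i0
    · exact i2
    · rw [hv2, R.ss]; exact i1
    · rw [s1]; exact neg_mem i3
    · rw [s2]; exact neg_mem i4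
  · refine key O.j ?_
    rintro w (rfl | rfl | rfl | rfl | rfl)
    · rw [hj]; exact add_mem (Submodule.smul_mem _ _ i0) i1
    · rw [j1]; exact sub_mem (neg_mem i0) (Submodule.smul_mem _ _ (add_mem (Submodule.smul_mem _ _ i0) i1))
    · exact jj.1
    · exact jj.2.1
    · exact jj.2.2

theorem lin_indep (hω : Om ω) (h3 : (3 : K) ≠ 0) {T : Module.End K V} {v0 w1 w2 : V} (n0 : v0 ≠ 0) (n1 : w1 ≠ 0)
    (n2 : w2 ≠ 0) (z0 : T v0 = v0) (z1 : T w1 = ω • w1) (z2 : T w2 = ω ^ 2 • w2) :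
    LinearIndependent K ![v0, w1, w2] := by
  rw [Fintype.linearIndependent_iff]
  intro g hg
  simp only [Fin.sum_univ_three, Matrix.cons_val_zero, Matrix.cons_val_one, Matrix.cons_val_two, Matrix.tail_cons,
    Matrix.head_cons] at hg
  change g 0 • v0 + g 1 • w1 + g 2 • w2 = 0 at hg
  have e1 : g 0 • v0 + (g 1 * ω) • w1 + (g 2 * ω ^ 2) • w2 = 0 := by
    have := congrArg T hg
    simp only [map_add, map_smul, map_zero, z0, z1, z2, smul_smul] at this
    exact this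
  have e2 : g 0 • v0 + (g 1 * ω ^ 2) • w1 + (g 2 * ω) • w2 = 0 := by
    have := congrArg T e1
    simp only [map_add, map_smul, map_zero, z0, z1, z2, smul_smul] at this
    rw [show g 1 * ω * ω = g 1 * ω ^ 2 by ring, show g 2 * ω ^ 2 * ω ^ 2 = g 2 * ω by
      linear_combination g 2 * ω * hω.c] at this
    exact this
  have f0 : (3 * g 0) • v0 = 0 := by
    have : (3 * g 0) • v0 = (g 0 • v0 + g 1 • w1 + g 2 • w2) + (g 0 • v0 + (g 1 * ω) • w1 + (g 2 * ω ^ 2) • w2) +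
        (g 0 • v0 + (g 1 * ω ^ 2) • w1 + (g 2 * ω) • w2) - ((ω ^ 2 + ω + 1) * g 1) • w1 -
        ((ω ^ 2 + ω + 1) * g 2) • w2 := by module
    rw [this, hg, e1, e2, hω.a]; simp
  have f1 : (3 * g 1) • w1 = 0 := by
    have : (3 * g 1) • w1 = (g 0 • v0 + g 1 • w1 + g 2 • w2) + ω ^ 2 • (g 0 • v0 + (g 1 * ω) • w1 + (g 2 * ω ^ 2) • w2) +
        ω • (g 0 • v0 + (g 1 * ω ^ 2) • w1 + (g 2 * ω) • w2) - ((ω ^ 2 + ω + 1) * g 0) • v0 -
        ((ω ^ 4 + ω ^ 2 + 1) * g 2) • w2 - (2 * (ω ^ 3 - 1) * g 1) • w1 := by module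
    rw [this, hg, e1, e2, hω.a, hω.c, show ω ^ 4 + ω ^ 2 + 1 = 0 by linear_combination ω * hω.c + hω.a]; simp
  have f2 : (3 * g 2) • w2 = 0 := by
    have : (3 * g 2) • w2 = (g 0 • v0 + g 1 • w1 + g 2 • w2) + ω • (g 0 • v0 + (g 1 * ω) • w1 + (g 2 * ω ^ 2) • w2) +
        ω ^ 2 • (g 0 • v0 + (g 1 * ω ^ 2) • w1 + (g 2 * ω) • w2) - ((ω ^ 2 + ω + 1) * g 0) • v0 -
        ((ω ^ 4 + ω ^ 2 + 1) * g 1) • w1 - (2 * (ω ^ 3 - 1) * g 2) • w2 := by module
    rw [this, hg, e1, e2, hω.a, hω.c, show ω ^ 4 + ω ^ 2 + 1 = 0 by linear_combination ω * hω.c + hω.a]; simp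
  have g0 := (mul_eq_zero.1 ((smul_eq_zero.1 f0).resolve_right n0)).resolve_left h3
  have g1 := (mul_eq_zero.1 ((smul_eq_zero.1 f1).resolve_right n1)).resolve_left h3
  have g2 := (mul_eq_zero.1 ((smul_eq_zero.1 f2).resolve_right n2)).resolve_left h3
  intro i
  fin_cases i
  · exact g0
  · exact g1
  · exact g2

/-- one of the components of `j v0` vanishes -/
theorem or_zero (R : Rels O) (hω : Om ω) (h2 : (2 : K) ≠ 0) (h3 : (3 : K) ≠ 0)
    (tX : ∀ v ∈ Fi O.z1, O.t2 v = -v) {v0 w1 w2 : V} (hv00 : v0 ≠ 0) (hv0 : v0 ∈ O.W ω 0 0 0)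
    (m1 : w1 ∈ O.W ω 0 1 0) (m2 : w2 ∈ O.W ω 0 2 0) {β : K} (hj : O.j v0 = β • v0 + w1 + w2) :
    w1 = 0 ∨ w2 = 0 := by
  have hX : ∀ v ∈ Fi O.z1, O.z2 v ∈ Fi O.z1 := Fz1_z2 R
  have hXj : ∀ v ∈ Fi O.z1, O.j v ∈ Fi O.z1 := Fz1_j R
  have x0 : v0 ∈ Fi O.z1 := W_le_X 0 0 hv0
  have t0 : O.t2 v0 = -v0 := tX v0 x0
  have hjj : O.j (O.j v0) = -v0 := by rw [R.jj, t0]
  have z0 : O.z2 v0 = v0 := by
    have := (mem_W.1 hv0).2.1
    rwa [om_zero] at this
  have z1' : O.z2 w1 = ω • w1 := by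
    have := (mem_W.1 m1).2.1
    rwa [om_one] at this
  have z2' : O.z2 w2 = ω ^ 2 • w2 := by
    have := (mem_W.1 m2).2.1
    rwa [om_two] at this
  by_contra hcon
  push Not at hcon
  obtain ⟨n1, n2⟩ := hcon
  have e1 : O.j w1 + O.j w2 = -v0 - β • (β • v0 + w1 + w2) := by
    have h4 : w1 + w2 = O.j v0 - β • v0 := by rw [hj]; abel
    rw [← map_add, h4, map_sub, map_smul, hjj, hj]
  have e2 : β • (β • v0 + w1 + w2) + ω • O.j w1 + ω ^ 2 • O.j w2 = β • v0 + ω ^ 2 • w1 + ω • w2 := by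
    have e := R.zj3 v0
    have h4 : O.z2 (O.j (O.z2 (O.j (O.z2 (O.j v0))))) = -v0 := by rw [e, t0]
    have h5 : O.j (O.z2 (O.j (O.z2 (O.j v0)))) = -v0 := by
      have := congrArg (fun u => O.z2 (O.z2 u)) h4
      simp only [R.z2z2z2, map_neg, z0] at this
      exact this
    have h6 : O.z2 (O.j (O.z2 (O.j v0))) = O.j v0 := by
      have h7 := congrArg O.j h5
      have h8 : O.j (O.j (O.z2 (O.j (O.z2 (O.j v0))))) = -O.z2 (O.j (O.z2 (O.j v0))) := by
        rw [R.jj]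
        exact tX _ (hX _ (hXj _ (hX _ (hXj _ x0))))
      rw [h8, map_neg] at h7
      exact neg_injective h7
    have h9 : O.j (O.z2 (O.j v0)) = O.z2 (O.z2 (O.j v0)) := by
      have := congrArg (fun u => O.z2 (O.z2 u)) h6
      simp only [R.z2z2z2] at this
      exact this
    have h10 : O.z2 (O.j v0) = β • v0 + ω • w1 + ω ^ 2 • w2 := by
      rw [hj, map_add, map_add, map_smul, z0, z1', z2']
    have h11 : O.z2 (O.z2 (O.j v0)) = β • v0 + ω ^ 2 • w1 + ω • w2 := by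
      rw [h10, map_add, map_add, map_smul, map_smul, map_smul, z0, z1', z2', smul_smul, smul_smul, ← pow_two,
        ← pow_add, show ω ^ (2 + 2) = ω by linear_combination ω * hω.c]
    rw [h11, h10, map_add, map_add, map_smul, map_smul, map_smul, hj] at h9
    exact h9
  have hc := hω.sub_ne
  have e3 : O.j w1 = (ω - ω ^ 2)⁻¹ • ((β • v0 + ω ^ 2 • w1 + ω • w2) - β • (β • v0 + w1 + w2) -
      ω ^ 2 • (-v0 - β • (β • v0 + w1 + w2))) := by
    rw [eq_inv_smul_iff₀ hc, ← e2, ← e1]; module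
  have e4 : O.j w2 = -v0 - β • (β • v0 + w1 + w2) - O.j w1 := by rw [← e1]; abel
  let Y : Submodule K V := Submodule.span K {v0, w1, w2}
  have i0 : v0 ∈ Y := Submodule.subset_span (by simp)
  have i1 : w1 ∈ Y := Submodule.subset_span (by simp)
  have i2 : w2 ∈ Y := Submodule.subset_span (by simp)
  have i3 : β • v0 + w1 + w2 ∈ Y := add_mem (add_mem (Submodule.smul_mem _ _ i0) i1) i2
  have key : ∀ T : Module.End K V, T v0 ∈ Y → T w1 ∈ Y → T w2 ∈ Y → ∀ w ∈ Y, T w ∈ Y := by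
    intro T h0 h1 h2 w hw
    have : Y ≤ Y.comap T := by
      refine Submodule.span_le.2 ?_
      rintro u (rfl | rfl | rfl)
      · exact h0
      · exact h1
      · exact h2
    exact this hw
  have k1 : O.j w1 ∈ Y := by
    rw [e3]
    exact Submodule.smul_mem _ _ (sub_mem (sub_mem (add_mem (add_mem (Submodule.smul_mem _ _ i0)
      (Submodule.smul_mem _ _ i1)) (Submodule.smul_mem _ _ i2)) (Submodule.smul_mem _ _ i3))
      (Submodule.smul_mem _ _ (sub_mem (neg_mem i0) (Submodule.smul_mem _ _ i3))))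
  have k2 : O.j w2 ∈ Y := by
    rw [e4]
    exact sub_mem (sub_mem (neg_mem i0) (Submodule.smul_mem _ _ i3)) k1
  have hYj := key O.j (by rw [hj]; exact i3) k1 k2
  have hYz := key O.z2 (by rw [z0]; exact i0) (by rw [z1']; exact Submodule.smul_mem _ _ i1)
    (by rw [z2']; exact Submodule.smul_mem _ _ i2)
  have hYX : Y ≤ Fi O.z1 := by
    refine Submodule.span_le.2 ?_
    rintro u (rfl | rfl | rfl)
    · exact x0
    · exact W_le_X 1 0 m1
    · exact W_le_X 2 0 m2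
  have hev := even_of R h2 Y hYj hYz (fun v hv => tX v (hYX hv))
  have hind := lin_indep hω h3 hv00 n1 n2 z0 z1' z2'
  have hd : finrank K Y = 3 := by
    have h5 := finrank_span_eq_card hind
    have h6 : Set.range ![v0, w1, w2] = {v0, w1, w2} := by
      ext u
      simp only [Set.mem_range, Fin.exists_fin_succ, Set.mem_insert_iff, Set.mem_singleton_iff]
      constructor
      · rintro (h | h | h | ⟨i, _⟩)
        · exact Or.inl h.symm
        · exact Or.inr (Or.inl h.symm)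
        · exact Or.inr (Or.inr h.symm)
        · exact i.elim0
      · rintro (h | h | h)
        · exact Or.inl h.symm
        · exact Or.inr (Or.inl h.symm)
        · exact Or.inr (Or.inr (Or.inl h.symm))
    rw [h6] at h5
    exact h5
  rw [hd] at hev
  exact absurd hev (by decide)

/-- the type `(m0; a, b; 0)` with a non-zero fixed weight only occurs in degree at most five -/
theorem le_five [IsAlgClosed K] (R : Rels O) (hω : Om ω) (h2 : (2 : K) ≠ 0) (h3 : (3 : K) ≠ 0) {m0 a b : ℕ}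
    (T : Ty O ω m0 a b 0 0) (hI : Irr O) (hp : ∀ v, O.t1 (O.t2 v) = v) (tX : ∀ v ∈ Fi O.z1, O.t2 v = -v)
    (hm : m0 ≠ 0) : finrank K V ≤ 5 := by
  have d0 : finrank K (O.W ω 0 0 0) = m0 := T.dim 0 0 0
  -- the operator `pr 0 ∘ j` on `W 0 0 0`
  have hX : ∀ v ∈ Fi O.z1, O.z2 v ∈ Fi O.z1 := Fz1_z2 R
  have hXj : ∀ v ∈ Fi O.z1, O.j v ∈ Fi O.z1 := Fz1_j R
  have hpr : ∀ v ∈ Fi O.z1, ∀ l : Fin 3, pr ω O.z2 l v ∈ O.W ω 0 l 0 := by
    intro v hv l
    refine mem_W_X R hω h3 T ?_ (pr_eig hω R.z2z2z2 l v)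
    exact add_mem (add_mem hv (Submodule.smul_mem _ _ (hX _ hv))) (Submodule.smul_mem _ _ (hX _ (hX _ hv)))
  let B : Module.End K (O.W ω 0 0 0) :=
    { toFun := fun v => ⟨pr ω O.z2 0 (O.j v), hpr _ (hXj _ (W_le_X 0 0 v.2)) 0⟩
      map_add' := by
        intro v w
        apply Subtype.ext
        change pr ω O.z2 0 (O.j (v + w)) = pr ω O.z2 0 (O.j v) + pr ω O.z2 0 (O.j w)
        unfold pr
        simp only [map_add, smul_add]
        abel
      map_smul' := by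
        intro r v
        apply Subtype.ext
        change pr ω O.z2 0 (O.j (r • (v : V))) = r • pr ω O.z2 0 (O.j v)
        unfold pr
        simp only [map_smul, smul_add]
        rw [smul_comm r, smul_comm r] }
  have : Nontrivial (O.W ω 0 0 0) := by
    rw [← finrank_pos_iff (R := K), d0]; omega
  obtain ⟨β', hβ'⟩ := Module.End.exists_eigenvalue B
  obtain ⟨⟨v0, hv0⟩, hv⟩ := hβ'.exists_hasEigenvector
  have hv00 : v0 ≠ 0 := fun h => hv.2 (Subtype.ext h)
  have hB : pr ω O.z2 0 (O.j v0) = β' • v0 := congrArg Subtype.val hv.apply_eq_smul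
  have x0 : v0 ∈ Fi O.z1 := W_le_X 0 0 hv0
  -- components of `j v0`
  obtain ⟨w1, w2, β, m1, m2, hj⟩ : ∃ (w1 w2 : V) (β : K), w1 ∈ O.W ω 0 1 0 ∧ w2 ∈ O.W ω 0 2 0 ∧
      O.j v0 = β • v0 + w1 + w2 := by
    refine ⟨(3 : K)⁻¹ • pr ω O.z2 1 (O.j v0), (3 : K)⁻¹ • pr ω O.z2 2 (O.j v0), (3 : K)⁻¹ * β',
      Submodule.smul_mem _ _ (hpr _ (hXj _ x0) 1), Submodule.smul_mem _ _ (hpr _ (hXj _ x0) 2), ?_⟩
    have e := pr_sum hω O.z2 (O.j v0)
    rw [hB] at e
    have e2 := congrArg (fun u => (3 : K)⁻¹ • u) e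
    simp only [smul_add, smul_smul] at e2
    rw [inv_mul_cancel₀ h3, one_smul] at e2
    exact e2.symm
  rcases or_zero R hω h2 h3 tX hv00 hv0 m1 m2 hj with h | h
  · -- use `ω ^ 2`
    have T' := T.sq hω
    have hv0' : v0 ∈ O.W (ω ^ 2) 0 0 0 := by rw [W_sq hω]; exact hv0
    have m2' : w2 ∈ O.W (ω ^ 2) 0 1 0 := by rw [W_sq hω]; exact m2
    exact finrank_le_of_irr hI hv00 (close5 R hω.sq h2 h3 T' hp tX hv0' m2' (β := β) (by rw [hj, h, add_zero]))
  · exact finrank_le_of_irr hI hv00 (close5 R hω h2 h3 T hp tX hv0 m1 (β := β) (by rw [hj, h, add_zero]))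

/-- in degree ten the fixed space of the transvection is one-dimensional -/
theorem finrank_fix [IsAlgClosed K] (R : Rels O) (h2 : (2 : K) ≠ 0) (h3 : (3 : K) ≠ 0) (hI : Irr O)
    (hd : finrank K V = 10) (hp : ∀ v, O.t1 (O.t2 v) = v) : finrank K (Fi O.z1) = 1 := by
  obtain ⟨ω, e1, e2, e3⟩ := Cfsg.Agent.H659.Triple.exists_omega h3
  have hω : Om ω := ⟨e1, e2, e3⟩
  obtain ⟨m0, a, b, c, d, T⟩ := exists_ty R hω h3
  have hd0 := d_zero R hω h3 T (by omega)
  subst hd0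
  have hX := finrank_X R hω h3 T
  have ht := T.tot
  by_cases hc : c = 0
  · exfalso
    subst hc
    have hl := absent_w R hω h3 T (l := 2) (absent_c rfl)
    have T' := T.sq hω
    have hl' := absent_w R hω.sq h3 T' (l := 2) (absent_c rfl)
    have tX := t2_neg_X R hω h3 T hI (by omega) (by
      intro l hl0 v hv ht
      have ht' : O.t2 v = -v := by
        fin_cases l
        · exact absurd rfl hl0
        · exact t2_neg_W R hω h2 hp hl hv
        · exact t2_neg_W R hω.sq h2 hp hl' (by rw [W_sq_010 hω]; exact hv)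
      exact eq_zero_of_neg h2 (ht.symm.trans ht'))
    have d0 : finrank K (O.W ω 0 0 0) = m0 := T.dim 0 0 0
    have q0 := two_mul_le R hω h2 (Fi O.z1) (O.W ω 0 0 0) (Fz1_j R) tX (W_le_X 0 0) (l := 0)
      (fun v hv => (mem_W.1 hv).2.1)
    rw [hX, d0] at q0
    have hm : m0 ≠ 0 := by omega
    have := le_five R hω h2 h3 T hI hp tX hm
    omega
  · rcases (by omega : (a = 0 ∧ b = 0) ∨ 1 ≤ a + b) with ⟨ha, hb⟩ | hab
    · subst ha hb
      have := (casePlusSix R hω h2 h3 T hc hI (by omega) hp).1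
      omega
    · omega

end Cfsg.Agent.H923.Ten.U42
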