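import Cfsg.Agent.H923.Ten.U42Aut
import Cfsg.Agent.H923.Ten.A7Kill

/-!
# `PSp₄(3)` in dimension ten is never maximal (helper923)
-/

set_option autoImplicit false
set_option linter.unusedSectionVars false
set_option maxRecDepth 20000

namespace Cfsg.Agent.H923.Ten.U42

open Module Matrix Cfsg Cfsg.Geo Cfsg.Agent.H659.Sp4 Cfsg.Agent.H659.SevenU42 Cfsg.Agent.H659.Ac
open Cfsg.Agent.LieClassical.GUOrder

universe u v

section gen

variable {F : Type u} [Field F]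

theorem MF_12 {r : F} (hr : r * r = ((-3 : ℤ) : F)) {a : Fin 4 → Fin 4 → ℤ√(-3)}
    (h : ∀ i j, a i j = if i = j then ⟨12, 0⟩ else 0) : MF r hr a = (12 : F) • 1 := by
  ext i j
  rw [MF, Matrix.of_apply, h, Matrix.smul_apply, Matrix.one_apply, smul_eq_mul]
  by_cases hij : i = j
  · rw [if_pos hij, if_pos hij, ev_apply]; norm_num
  · rw [if_neg hij, if_neg hij, map_zero, mul_zero]

/-- the generator attached to a table -/
noncomputable def gG (r : F) (hr : r * r = ((-3 : ℤ) : F)) (h0 : r ≠ 0) (h2 : (2 : F) ≠ 0) (h12 : (12 : F) ≠ 0)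
    (M : Fin 4 → Fin 4 → ℤ√(-3))
    (hM : ∀ i j : Fin 4, mul4 M (fun a b => star (M b a)) i j = if i = j then ⟨12, 0⟩ else 0)
    (hM' : ∀ i j : Fin 4, mul4 (fun a b => star (M b a)) M i j = if i = j then ⟨12, 0⟩ else 0) : GL (Fin 4) F where
  val := (2 * r)⁻¹ • MF r hr M
  inv := ((2 * r) * 12⁻¹) • MF r hr (fun a b => star (M b a))
  val_inv := by
    rw [Matrix.smul_mul, Matrix.mul_smul, MF_mul, MF_12 hr hM, smul_smul, smul_smul]
    have : (2 * r)⁻¹ * (2 * r * 12⁻¹ * 12) = 1 := by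
      field_simp
    rw [mul_assoc, this, one_smul]
  inv_val := by
    rw [Matrix.smul_mul, Matrix.mul_smul, MF_mul, MF_12 hr hM', smul_smul, smul_smul]
    have : (2 * r) * 12⁻¹ * (2 * r)⁻¹ * 12 = 1 := by
      field_simp
    rw [this, one_smul]

theorem gG_conj {r : F} (hr : r * r = ((-3 : ℤ) : F)) (h0 : r ≠ 0) (h2 : (2 : F) ≠ 0) (h12 : (12 : F) ≠ 0)
    {M : Fin 4 → Fin 4 → ℤ√(-3)}
    (hM : ∀ i j : Fin 4, mul4 M (fun a b => star (M b a)) i j = if i = j then ⟨12, 0⟩ else 0)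
    (hM' : ∀ i j : Fin 4, mul4 (fun a b => star (M b a)) M i j = if i = j then ⟨12, 0⟩ else 0)
    {X Y : Matrix (Fin 4) (Fin 4) F} (h : (-12 : F) • Y = MF r hr M * X * (MF r hr M)ᵀ) :
    Y = (gG r hr h0 h2 h12 M hM hM' : Matrix (Fin 4) (Fin 4) F) * X *
      (gG r hr h0 h2 h12 M hM hM' : Matrix (Fin 4) (Fin 4) F)ᵀ := by
  change Y = ((2 * r)⁻¹ • MF r hr M) * X * ((2 * r)⁻¹ • MF r hr M)ᵀ
  rw [Matrix.transpose_smul, Matrix.smul_mul, Matrix.smul_mul, Matrix.mul_smul, ← h, smul_smul, smul_smul]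
  have : (2 * r)⁻¹ * (2 * r)⁻¹ * -12 = 1 := by
    have h3 : (-12 : F) = (2 * r) * (2 * r) := by
      have : (2 * r) * (2 * r) = 4 * (r * r) := by ring
      rw [this, hr]; push_cast; ring
    rw [h3]
    field_simp
  rw [this, one_smul]

/-- the generators -/
theorem exists_G {V : Type v} [AddCommGroup V] [Module F V] [FiniteDimensional F V]
    {ρ : Sp →* Module.End F V} {v : V} {ξ : V →ₗ[F] F} {ζ : F} (h : Sph ρ v ξ ζ)
    (h0 : -1 - 2 * ζ ≠ 0) (h2 : (2 : F) ≠ 0) (h12 : (12 : F) ≠ 0) (K : Subgroup (GL (Fin 4) F))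
    (k1 : gG _ (rr h.zq) h0 h2 h12 (Mz Ml_y) u_y u_y' ∈ K) (k2 : gG _ (rr h.zq) h0 h2 h12 (Mz Ml_s) u_s u_s' ∈ K)
    (k3 : gG _ (rr h.zq) h0 h2 h12 (Mz Ml_j) u_j u_j' ∈ K) (g : Sp) :
    ∃ G ∈ K, ∀ u, Phi ρ ξ _ (rr h.zq) (ρ g u) =
      (G : Matrix (Fin 4) (Fin 4) F) * Phi ρ ξ _ (rr h.zq) u * (G : Matrix (Fin 4) (Fin 4) F)ᵀ := by
  let S : Subgroup Sp :=
    { carrier := {g | ∃ G ∈ K, ∀ u, Phi ρ ξ _ (rr h.zq) (ρ g u) =
        (G : Matrix (Fin 4) (Fin 4) F) * Phi ρ ξ _ (rr h.zq) u * (G : Matrix (Fin 4) (Fin 4) F)ᵀ}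
      one_mem' := ⟨1, one_mem _, fun u => by
        rw [act1, Units.val_one, Matrix.transpose_one, Matrix.one_mul, Matrix.mul_one]⟩
      mul_mem' := by
        rintro x y ⟨G, hG, hx⟩ ⟨G', hG', hy⟩
        refine ⟨G * G', mul_mem hG hG', fun u => ?_⟩
        rw [← mul_app, hx, hy, Units.val_mul, Matrix.transpose_mul]
        simp only [Matrix.mul_assoc]
      inv_mem' := by
        rintro x ⟨G, hG, hx⟩
        refine ⟨G⁻¹, inv_mem hG, fun u => ?_⟩
        have h1 := hx (ρ x⁻¹ u)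
        rw [mul_app, mul_inv_cancel, act1] at h1
        rw [h1]
        have e1 : ((G⁻¹ : GL (Fin 4) F) : Matrix (Fin 4) (Fin 4) F) * (G : Matrix (Fin 4) (Fin 4) F) = 1 := by
          rw [← Units.val_mul, inv_mul_cancel, Units.val_one]
        have e2 : (G : Matrix (Fin 4) (Fin 4) F)ᵀ * ((G⁻¹ : GL (Fin 4) F) : Matrix (Fin 4) (Fin 4) F)ᵀ = 1 := by
          rw [← Matrix.transpose_mul, e1, Matrix.transpose_one]
        generalize Phi ρ ξ _ (rr h.zq) (ρ x⁻¹ u) = X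
        symm
        calc ((G⁻¹ : GL (Fin 4) F) : Matrix (Fin 4) (Fin 4) F) * ((G : Matrix (Fin 4) (Fin 4) F) * X *
              (G : Matrix (Fin 4) (Fin 4) F)ᵀ) * ((G⁻¹ : GL (Fin 4) F) : Matrix (Fin 4) (Fin 4) F)ᵀ =
            (((G⁻¹ : GL (Fin 4) F) : Matrix (Fin 4) (Fin 4) F) * (G : Matrix (Fin 4) (Fin 4) F)) * X *
              ((G : Matrix (Fin 4) (Fin 4) F)ᵀ * ((G⁻¹ : GL (Fin 4) F) : Matrix (Fin 4) (Fin 4) F)ᵀ) := by
              simp only [Matrix.mul_assoc]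
          _ = X := by rw [e1, e2, Matrix.one_mul, Matrix.mul_one] }
  have m1 : U 5 1 ∈ S := ⟨_, k1, fun u => gG_conj _ h0 h2 h12 u_y u_y' (h.step chk_y inj_y m_y u)⟩
  have m2 : sG ∈ S := ⟨_, k2, fun u => gG_conj _ h0 h2 h12 u_s u_s' (h.step chk_s inj_s m_s u)⟩
  have m3 : jG ∈ S := ⟨_, k3, fun u => gG_conj _ h0 h2 h12 u_j u_j' (h.step chk_j inj_j m_j u)⟩
  have hS : S = ⊤ := gen_ysj S m1 m2 m3
  have : g ∈ S := by rw [hS]; exact Subgroup.mem_top g
  exact this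

end gen

variable {F : Type u} [Field F]

section facts

variable {P : Subgroup (GL (Fin 10) F)} {φ : Sp →* GL (Fin 10) F} {v : Fin 10 → F} {ξ : (Fin 10 → F) →ₗ[F] F} {ζ : F}

theorem ne_12 (h2 : (2 : F) ≠ 0) (h3 : (3 : F) ≠ 0) : (12 : F) ≠ 0 := by
  have : (12 : F) = 2 * 2 * 3 := by norm_num
  rw [this]; exact mul_ne_zero (mul_ne_zero h2 h2) h3

theorem r_ne (h : Sph (rq φ) v ξ ζ) : -1 - 2 * ζ ≠ 0 := by
  intro h0
  have h1 := rr h.zq
  rw [h0, mul_zero] at h1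
  push_cast at h1
  exact h.irr.three (neg_eq_zero.1 h1.symm)

theorem Phi_sym (r : F) (hr : r * r = ((-3 : ℤ) : F)) (u : Fin 10 → F) :
    (Phi (rq φ) ξ r hr u)ᵀ = Phi (rq φ) ξ r hr u := by
  rw [Phi_apply, Matrix.transpose_sum]
  refine Finset.sum_congr rfl fun t _ => ?_
  rw [Matrix.transpose_smul, MF_transpose]
  congr 2
  funext i j
  exact s_sym t j i

theorem Phi_inj (h : Sph (rq φ) v ξ ζ)
    (hP : ∀ g : Sp, ∃ G : GL (Fin 4) F, ∀ u, Phi (rq φ) ξ _ (rr h.zq) (rq φ g u) =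
      (G : Matrix (Fin 4) (Fin 4) F) * Phi (rq φ) ξ _ (rr h.zq) u * (G : Matrix (Fin 4) (Fin 4) F)ᵀ) :
    Function.Injective (Phi (rq φ) ξ _ (rr h.zq)) := by
  rw [← LinearMap.ker_eq_bot]
  rcases h.irr.irr (LinearMap.ker (Phi (rq φ) ξ _ (rr h.zq))) (by
    intro g u hu
    obtain ⟨G, hG⟩ := hP g
    rw [LinearMap.mem_ker] at hu ⊢
    rw [hG, hu, Matrix.mul_zero, Matrix.zero_mul]) with h1 | h1
  · exact h1
  · exfalso
    have h2 := h.Phi_v
    have h3 : Phi (rq φ) ξ _ (rr h.zq) v = 0 := by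
      rw [← LinearMap.mem_ker, h1]; trivial
    rw [h3, Matrix.zero_apply, mul_zero] at h2
    have h4 : (144 : F) = 12 * 12 := by norm_num
    rw [h4] at h2
    have h12 := ne_12 h.irr.two h.irr.three
    exact mul_ne_zero h12 h12 h2.symm

theorem mdl (h : Sph (rq φ) v ξ ζ)
    (hP : ∀ g : Sp, ∃ G : GL (Fin 4) F, ∀ u, Phi (rq φ) ξ _ (rr h.zq) (rq φ g u) =
      (G : Matrix (Fin 4) (Fin 4) F) * Phi (rq φ) ξ _ (rr h.zq) u * (G : Matrix (Fin 4) (Fin 4) F)ᵀ) :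
    Mdl (Phi (rq φ) ξ _ (rr h.zq)) where
  inj := Phi_inj h hP
  cl := by
    intro G u
    apply A7.sym_surj (Phi_inj h hP) (Phi_sym _ _)
    rw [Matrix.transpose_mul, Matrix.transpose_mul, Matrix.transpose_transpose, Phi_sym, Matrix.mul_assoc]

theorem scal (h : Sph (rq φ) v ξ ζ)
    (hP : ∀ g : Sp, ∃ G : GL (Fin 4) F, ∀ u, Phi (rq φ) ξ _ (rr h.zq) (rq φ g u) =
      (G : Matrix (Fin 4) (Fin 4) F) * Phi (rq φ) ξ _ (rr h.zq) u * (G : Matrix (Fin 4) (Fin 4) F)ᵀ)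
    (G : GL (Fin 4) F) (c : F) (hG : ∀ v, (G : Matrix (Fin 4) (Fin 4) F) * Phi (rq φ) ξ _ (rr h.zq) v *
      (G : Matrix (Fin 4) (Fin 4) F)ᵀ = c • Phi (rq φ) ξ _ (rr h.zq) v) : G ∈ scalars (Fin 4) F := by
  apply A7.sym_scalar (c := c)
  intro X hX
  obtain ⟨u, rfl⟩ := A7.sym_surj (Phi_inj h hP) (Phi_sym _ _) hX
  exact hG u

end facts

/-- **`PSp₄(3)` is not maximal in `SL₁₀`.** -/
theorem kill_sl [Fintype F] {H P : Subgroup (GL (Fin 10) F)} {φ : Sp →* GL (Fin 10) F} (hcore : IsResidualCore H P)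
    (hcov : Cov P φ) (hbot : ∀ x ∈ P, x ∈ scalars (Fin 10) F → x = 1)
    (h2 : (2 : F) ≠ 0) (h3 : (3 : F) ≠ 0) : ¬ IsMaximalIn (specialLinear (Fin 10) F) H := by
  obtain ⟨v, ξ, ζ, h⟩ := (hcov.irr1 hcore.absIrred h2 h3).exists_sph
  have hP : ∀ g : Sp, ∃ G : GL (Fin 4) F, ∀ u, Phi (rq φ) ξ _ (rr h.zq) (rq φ g u) =
      (G : Matrix (Fin 4) (Fin 4) F) * Phi (rq φ) ξ _ (rr h.zq) u * (G : Matrix (Fin 4) (Fin 4) F)ᵀ := by
    intro g
    obtain ⟨G, -, hG⟩ := exists_G h (r_ne h) h2 (ne_12 h2 h3) ⊤ trivial trivial trivial g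
    exact ⟨G, hG⟩
  have hsur : ∀ X : Matrix (Fin 4) (Fin 4) F, Xᵀ = X → ∃ u, Phi (rq φ) ξ _ (rr h.zq) u = X :=
    fun X hX => A7.sym_surj (Phi_inj h hP) (Phi_sym _ _) hX
  refine not_max_sl (Φ := Phi (rq φ) ξ _ (rr h.zq)) (r := 1) (mdl h hP) (scal h hP) hcore ?_ ?_ ?_ ?_
  · intro g hg
    rw [← hcov.range] at hg
    obtain ⟨w, rfl⟩ := hg
    obtain ⟨G, hG⟩ := hP w
    refine ⟨G, fun u => ?_⟩
    have h1 := hG u
    rwa [rq_apply] at h1
  · intro t ht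
    refine hcov.eq_mul h.good hbot hcore.absIrred t fun x => ⟨fun hx => hcore.normal t ht x hx, fun hx => ?_⟩
    have h1 := hcore.normal t⁻¹ (inv_mem ht) _ hx
    have h3 : t⁻¹ * (t * x * t⁻¹) * t⁻¹⁻¹ = x := by group
    rwa [h3] at h1
  · have hq : 4 ≤ Fintype.card F := by
      by_contra hlt
      have h1 : 1 < Fintype.card F := Fintype.one_lt_card
      have h4 : ((Fintype.card F : ℕ) : F) = 0 := FiniteField.cast_card_eq_zero F
      rcases (by omega : Fintype.card F = 2 ∨ Fintype.card F = 3) with h5 | h5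
      · rw [h5] at h4
        exact h2 (by exact_mod_cast h4)
      · rw [h5] at h4
        exact h3 (by exact_mod_cast h4)
    rw [hcov.card_aut, Matrix.card_GL_field]
    set q := Fintype.card F with hqdef
    have h1 : Nat.card (scalars (Fin 4) F) ≤ q - 1 := A7.card_scalars_le
    obtain ⟨a, ha⟩ : ∃ a, a = q ^ 3 * (q - 1) := ⟨_, rfl⟩
    have ha1 : 64 * (q - 1) ≤ a := by
      rw [ha]
      exact Nat.mul_le_mul_right _ (Nat.pow_le_pow_left hq 3)
    have ha2 : ∀ i : Fin 4, a ≤ q ^ 4 - q ^ (i : ℕ) := by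
      intro i
      have h5 : q ^ (i : ℕ) ≤ q ^ 3 := Nat.pow_le_pow_right (by omega) (by omega)
      have h6 : a = q ^ 4 - q ^ 3 := by
        rw [ha, Nat.mul_sub, mul_one]; rfl
      omega
    have h3 : a ^ 4 ≤ ∏ i : Fin 4, (q ^ 4 - q ^ (i : ℕ)) := by
      have := Finset.prod_le_prod' (s := Finset.univ) (fun i _ => ha2 i)
      rwa [Finset.prod_const, Finset.card_univ, Fintype.card_fin] at this
    have h4 : 192 ≤ a := by omega
    have h5 : 192 ^ 3 * a ≤ a ^ 4 := by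
      have : 192 ^ 3 * a ≤ a ^ 3 * a := Nat.mul_le_mul_right _ (Nat.pow_le_pow_left h4 3)
      calc 192 ^ 3 * a ≤ a ^ 3 * a := this
        _ = a ^ 4 := by ring
    have h6 : 51840 * Nat.card (scalars (Fin 4) F) ≤ 51840 * (q - 1) := Nat.mul_le_mul_left _ h1
    have h7' : 51840 * (q - 1) < 192 ^ 3 * a := by omega
    omega
  · obtain ⟨d, hd⟩ := hsur (Matrix.single 0 0 1) (by rw [Matrix.transpose_single])
    obtain ⟨x, hx⟩ := hsur (Matrix.single 0 0 1 + Matrix.single 1 1 1) (by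
      rw [Matrix.transpose_add, Matrix.transpose_single, Matrix.transpose_single])
    refine ⟨d, x, ?_, ?_, ?_, ?_⟩
    · rintro rfl
      rw [map_zero] at hd
      have := congrFun (congrFun hd 0) 0
      simp at this
    · rintro rfl
      rw [map_zero] at hx
      have := congrFun (congrFun hx 0) 0
      simp at this
    · rw [hd, show (Matrix.single 0 0 1 : Matrix (Fin 4) (Fin 4) F) =
        Matrix.vecMulVec (Pi.single 0 1) (Pi.single 0 1) by
          rw [Matrix.single_eq_single_vecMulVec_single]]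
      exact Matrix.rank_vecMulVec_le _ _
    · rw [hx]
      apply two_le_rank ![0, 1] ![0, 1]
      rw [Matrix.det_fin_two]
      simp

section unitary

variable [Fintype F] {q : ℕ} {P : Subgroup (GL (Fin 10) F)} {φ : Sp →* GL (Fin 10) F} {v : Fin 10 → F}
  {ξ : (Fin 10 → F) →ₗ[F] F} {ζ : F}

theorem frob_r (hF : Fintype.card F = q ^ 2) (h : Sph (rq φ) v ξ ζ) (hcov : Cov P φ) (hPU : P ≤ Cfsg.GU 10 F q) :
    frob hF (-1 - 2 * ζ) = -(-1 - 2 * ζ) := by
  have hinv : ∀ (g : Sp) x y, hermForm 10 F q (rq φ g x) (rq φ g y) = hermForm 10 F q x y := by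
    intro g x y
    rw [rq_apply, rq_apply]
    refine (mem_GU_iff _).1 (hPU ?_) x y
    rw [← hcov.range]; exact ⟨g, rfl⟩
  have hz1 : rq φ (U 7 2) v = v := h.good.z1
  have hz2 : rq φ (U 4 1) v = ζ • v := h.good.z2
  set n := hermForm 10 F q v v with hn
  have hn0 : n ≠ 0 := by
    intro h0
    apply h.good.ne
    have h1 : ∀ u, hermForm 10 F q u v = 0 := by
      intro u
      obtain ⟨κ, hκ⟩ := h.good.es_eq u
      have e1 : ∀ w, hermForm 10 F q (rq φ (U 7 2) w) v = hermForm 10 F q w v := by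
        intro w
        conv_lhs => rw [← hz1]
        exact hinv (U 7 2) w v
      have e2 : hermForm 10 F q (es (rq φ) u) v = 3 * hermForm 10 F q u v := by
        rw [es, herm_add_left hF, herm_add_left hF]
        change hermForm 10 F q u v + hermForm 10 F q (rq φ (U 7 2) u) v +
          hermForm 10 F q (rq φ (U 7 2) (rq φ (U 7 2) u)) v = _
        rw [e1, e1, e1]; ring
      rw [hκ, herm_smul_left hF, ← hn, h0, mul_zero] at e2
      exact (mul_eq_zero.1 e2.symm).resolve_left h.irr.three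
    have h2 : ∀ u, hermForm 10 F q v u = 0 := by
      intro u
      rw [← frob_herm hF u v, h1, map_zero]
    funext j
    rw [← herm_single hF v j, h2]
    rfl
  have e1 := hinv (U 4 1) v v
  rw [hz2, herm_smul_left hF, herm_smul_right hF, ← hn, ← mul_assoc] at e1
  have e2 : ζ * frob hF ζ = 1 := mul_right_cancel₀ hn0 (e1.trans (one_mul n).symm)
  have h3 := h.good.cube
  have e3 : frob hF ζ = ζ ^ 2 := by
    have : frob hF ζ = ζ ^ 3 * frob hF ζ := by rw [h3, one_mul]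
    rw [this, show ζ ^ 3 * frob hF ζ = ζ ^ 2 * (ζ * frob hF ζ) by ring, e2, mul_one]
  have h4 := h.zq
  rw [map_sub, map_neg, map_one, map_mul, e3, map_ofNat]
  linear_combination (-2 : F) * h4

theorem gG_mem (hF : Fintype.card F = q ^ 2) {r : F} (hfr : frob hF r = -r)
    (hr : r * r = ((-3 : ℤ) : F)) (h0 : r ≠ 0) (h2 : (2 : F) ≠ 0) (h12 : (12 : F) ≠ 0)
    {M : Fin 4 → Fin 4 → ℤ√(-3)}
    (hM : ∀ i j : Fin 4, mul4 M (fun a b => star (M b a)) i j = if i = j then ⟨12, 0⟩ else 0)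
    (hM' : ∀ i j : Fin 4, mul4 (fun a b => star (M b a)) M i j = if i = j then ⟨12, 0⟩ else 0) :
    gG r hr h0 h2 h12 M hM hM' ∈ Cfsg.GU 4 F q := by
  rw [mem_GU_iff]
  apply (mul_map_eq_one_iff hF _).2
  change ((2 * r)⁻¹ • MF r hr M)ᵀ * ((2 * r)⁻¹ • MF r hr M).map (frob hF) = 1
  have h3 : ((2 * r)⁻¹ • MF r hr M).map (frob hF) = (-(2 * r)⁻¹) • (MF r hr (fun a b => star (M b a)))ᵀ := by
    ext i j
    rw [Matrix.map_apply, Matrix.smul_apply, Matrix.smul_apply, Matrix.transpose_apply, smul_eq_mul, smul_eq_mul,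
      map_mul, map_inv₀, map_mul, hfr, map_ofNat]
    have h4 : frob hF (MF r hr M i j) = MF r hr (fun a b => star (M b a)) j i := by
      change frob hF (ev r hr (M i j)) = ev r hr (star (M i j))
      obtain ⟨a, b⟩ := M i j
      rw [Zsqrtd.star_mk, ev_apply, ev_apply, map_add, map_mul, map_intCast, map_intCast, hfr]
      push_cast; ring
    rw [h4, mul_neg, inv_neg]
  rw [h3, Matrix.transpose_smul, Matrix.smul_mul, Matrix.mul_smul, ← Matrix.transpose_mul, MF_mul, MF_12 hr hM',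
    Matrix.transpose_smul, Matrix.transpose_one, smul_smul, smul_smul]
  have : (2 * r)⁻¹ * -(2 * r)⁻¹ * 12 = 1 := by
    have h3 : (12 : F) = -((2 * r) * (2 * r)) := by
      have : (2 * r) * (2 * r) = 4 * (r * r) := by ring
      rw [this, hr]; push_cast; ring
    rw [h3]
    field_simp
  rw [this, one_smul]

/-- **`PSp₄(3)` is not maximal in `SU₁₀`.** -/
theorem kill_su {H : Subgroup (GL (Fin 10) F)} (hF : Fintype.card F = q ^ 2) (hcore : IsResidualCore H P)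
    (hcov : Cov P φ) (hbot : ∀ x ∈ P, x ∈ scalars (Fin 10) F → x = 1)
    (h2 : (2 : F) ≠ 0) (h3 : (3 : F) ≠ 0) : ¬ IsMaximalIn (Cfsg.GU 10 F q ⊓ specialLinear (Fin 10) F) H := by
  intro hmax
  have hPU : P ≤ Cfsg.GU 10 F q := hcore.le.trans (hmax.1.le.trans inf_le_left)
  obtain ⟨v, ξ, ζ, h⟩ := (hcov.irr1 hcore.absIrred h2 h3).exists_sph
  have hfr := frob_r hF h hcov hPU
  have hPG : ∀ g : Sp, ∃ G ∈ Cfsg.GU 4 F q, ∀ u, Phi (rq φ) ξ _ (rr h.zq) (rq φ g u) =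
      (G : Matrix (Fin 4) (Fin 4) F) * Phi (rq φ) ξ _ (rr h.zq) u * (G : Matrix (Fin 4) (Fin 4) F)ᵀ :=
    fun g => exists_G h (r_ne h) h2 (ne_12 h2 h3) _ (gG_mem hF hfr _ _ _ _ _ _)
      (gG_mem hF hfr _ _ _ _ _ _) (gG_mem hF hfr _ _ _ _ _ _) g
  have hP : ∀ g : Sp, ∃ G : GL (Fin 4) F, ∀ u, Phi (rq φ) ξ _ (rr h.zq) (rq φ g u) =
      (G : Matrix (Fin 4) (Fin 4) F) * Phi (rq φ) ξ _ (rr h.zq) u * (G : Matrix (Fin 4) (Fin 4) F)ᵀ := by
    intro g
    obtain ⟨G, -, hG⟩ := hPG g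
    exact ⟨G, hG⟩
  have hsur : ∀ X : Matrix (Fin 4) (Fin 4) F, Xᵀ = X → ∃ u, Phi (rq φ) ξ _ (rr h.zq) u = X :=
    fun X hX => A7.sym_surj (Phi_inj h hP) (Phi_sym _ _) hX
  refine not_max_su hF (Φ := Phi (rq φ) ξ _ (rr h.zq)) (r := 1) (mdl h hP) (scal h hP) hcore ?_ ?_ ?_ ?_ hmax
  · intro g hg
    rw [← hcov.range] at hg
    obtain ⟨w, rfl⟩ := hg
    obtain ⟨G, hGU, hG⟩ := hPG w
    refine ⟨G, hGU, fun u => ?_⟩
    have h1 := hG u
    rwa [rq_apply] at h1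
  · intro t ht
    refine hcov.eq_mul h.good hbot hcore.absIrred t fun x => ⟨fun hx => hcore.normal t ht x hx, fun hx => ?_⟩
    have h1 := hcore.normal t⁻¹ (inv_mem ht) _ hx
    have h3 : t⁻¹ * (t * x * t⁻¹) * t⁻¹⁻¹ = x := by group
    rwa [h3] at h1
  · have hq : 4 ≤ q := by
      have hq2 := two_le hF
      by_contra hlt
      have h4 : ((Fintype.card F : ℕ) : F) = 0 := FiniteField.cast_card_eq_zero F
      rcases (by omega : q = 2 ∨ q = 3) with h5 | h5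
      · rw [hF, h5] at h4
        have h6 : (2 : F) * 2 = 0 := by rw [← h4]; norm_num
        exact mul_ne_zero h2 h2 h6
      · rw [hF, h5] at h4
        have h6 : (3 : F) * 3 = 0 := by rw [← h4]; norm_num
        exact mul_ne_zero h3 h3 h6
    rw [hcov.card_aut, S0277.result hF]
    have h1 : Nat.card (scalars (Fin 4) F) ≤ q ^ 2 - 1 := by
      rw [← hF]; exact A7.card_scalars_le
    have h3 : ∏ i ∈ Finset.range 4, (if Even i then q ^ (i + 1) + 1 else q ^ (i + 1) - 1) =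
        (q + 1) * (q ^ 2 - 1) * (q ^ 3 + 1) * (q ^ 4 - 1) := by
      simp [Finset.prod_range_succ, Nat.even_iff]
    rw [h3]
    have h4 : 51840 * Nat.card (scalars (Fin 4) F) ≤ 51840 * (q ^ 2 - 1) := Nat.mul_le_mul_left _ h1
    refine lt_of_le_of_lt h4 ?_
    have h5 : 4 ^ 6 ≤ q ^ 6 := Nat.pow_le_pow_left hq 6
    have h6 : 4 ^ 2 ≤ q ^ 2 := Nat.pow_le_pow_left hq 2
    have h8 : 4 ^ 3 ≤ q ^ 3 := Nat.pow_le_pow_left hq 3
    have h9 : 4 ^ 4 ≤ q ^ 4 := Nat.pow_le_pow_left hq 4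
    have h10 : q ^ (4 * (4 - 1) / 2) = q ^ 6 := rfl
    rw [h10]
    have h11 : 0 < q ^ 2 - 1 := by omega
    calc 51840 * (q ^ 2 - 1) < (4 ^ 6 * (5 * 65 * 255)) * (q ^ 2 - 1) := Nat.mul_lt_mul_of_pos_right (by norm_num) h11
      _ ≤ (q ^ 6 * ((q + 1) * (q ^ 3 + 1) * (q ^ 4 - 1))) * (q ^ 2 - 1) := by
        apply Nat.mul_le_mul_right
        apply Nat.mul_le_mul h5
        apply Nat.mul_le_mul
        · apply Nat.mul_le_mul <;> omega
        · omega
      _ = q ^ 6 * ((q + 1) * (q ^ 2 - 1) * (q ^ 3 + 1) * (q ^ 4 - 1)) := by ring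
  · obtain ⟨α, hα0, hα⟩ := exists_norm hF (d := (-1 : F)) (neg_ne_zero.2 one_ne_zero) (by rw [map_neg, map_one])
    have hone : frob hF (1 : F) = 1 := map_one _
    obtain ⟨d, hd⟩ := hsur (Matrix.single 0 0 1) (by rw [Matrix.transpose_single])
    set w : Fin 4 → F := ![1, α, 0, 0] with hw
    obtain ⟨x, hx⟩ := hsur (Matrix.vecMulVec w w) (by
      ext i j; rw [Matrix.transpose_apply, Matrix.vecMulVec_apply, Matrix.vecMulVec_apply, mul_comm])
    refine ⟨d, x, ?_, ?_, ?_, ?_⟩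
    · rw [hx]
      simp only [hh, Matrix.vecMulVec_apply, Fin.sum_univ_four, hw]
      simp [map_mul]
      linear_combination (1 + α * frob hF α) * hα
    · rw [hx, hd]
      simp only [hh, Matrix.vecMulVec_apply, Fin.sum_univ_four, hw]
      simp
    · rw [hd, show (Matrix.single 0 0 1 : Matrix (Fin 4) (Fin 4) F) =
        Matrix.vecMulVec (Pi.single 0 1) (Pi.single 0 1) by
          rw [Matrix.single_eq_single_vecMulVec_single]]
      exact Matrix.rank_vecMulVec_le _ _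
    · intro c hc
      rw [map_add, map_smul, hd, hx]
      apply two_le_rank ![0, 1] ![0, 1]
      rw [Matrix.det_fin_two]
      simp [hw]
      intro h0
      apply hc
      have h5 : c * α ^ 2 = 0 := by linear_combination h0
      exact (mul_eq_zero.1 h5).resolve_right (pow_ne_zero 2 hα0)

end unitary

end Cfsg.Agent.H923.Ten.U42
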