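import Cfsg.Agent.H923.Ten.U42Sph

/-!
# The ten-dimensional module of `PSp₄(3)` as symmetric square (helper923)
-/

set_option autoImplicit false
set_option linter.unusedSectionVars false

namespace Cfsg.Agent.H923.Ten.U42

open Module Matrix Cfsg.Agent.H659.Sp4 Cfsg.Agent.H659.SevenU42

universe u v

section basic

variable {F : Type u} [Field F]

/-- evaluation of `ℤ[√-3]` -/
noncomputable def ev (r : F) (hr : r * r = ((-3 : ℤ) : F)) : ℤ√(-3) →+* F := Zsqrtd.lift ⟨r, hr⟩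

theorem ev_apply {r : F} (hr : r * r = ((-3 : ℤ) : F)) (a b : ℤ) : ev r hr ⟨a, b⟩ = a + b * r := by
  rw [ev, Zsqrtd.lift_apply_apply]

/-- a table as a matrix over the field -/
noncomputable def MF (r : F) (hr : r * r = ((-3 : ℤ) : F)) (a : Fin 4 → Fin 4 → ℤ√(-3)) : Matrix (Fin 4) (Fin 4) F :=
  Matrix.of fun i j => ev r hr (a i j)

theorem MF_mul {r : F} (hr : r * r = ((-3 : ℤ) : F)) (a b : Fin 4 → Fin 4 → ℤ√(-3)) :
    MF r hr a * MF r hr b = MF r hr (mul4 a b) := by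
  ext i j
  rw [Matrix.mul_apply, Fin.sum_univ_four]
  simp only [MF, Matrix.of_apply, mul4, map_add, map_mul]

theorem MF_transpose {r : F} (hr : r * r = ((-3 : ℤ) : F)) (a : Fin 4 → Fin 4 → ℤ√(-3)) :
    (MF r hr a)ᵀ = MF r hr (fun i j => a j i) := rfl

theorem rr {ζ : F} (h : ζ ^ 2 + ζ + 1 = 0) : (-1 - 2 * ζ) * (-1 - 2 * ζ) = ((-3 : ℤ) : F) := by
  push_cast; linear_combination 4 * h

theorem ev_sz {ζ : F} (h : ζ ^ 2 + ζ + 1 = 0) (l : Fin 3) : ev (-1 - 2 * ζ) (rr h) (sz l) = 2 * ζ ^ (l : ℕ) := by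
  fin_cases l
  · change ev (-1 - 2 * ζ) (rr h) ⟨2, 0⟩ = 2 * ζ ^ 0
    rw [ev_apply]; norm_num
  · change ev (-1 - 2 * ζ) (rr h) ⟨-1, -1⟩ = 2 * ζ ^ 1
    rw [ev_apply]; push_cast; ring
  · change ev (-1 - 2 * ζ) (rr h) ⟨-1, 1⟩ = 2 * ζ ^ 2
    rw [ev_apply]; push_cast; linear_combination (-2 : F) * h

theorem MF_conj {ζ : F} (h : ζ ^ 2 + ζ + 1 = 0) {M S S' : Fin 4 → Fin 4 → ℤ√(-3)} {l : Fin 3}
    (hM : ∀ i j, mul4 (mul4 M S) (fun a b => M b a) i j = ⟨-6, 0⟩ * (sz l * S' i j)) :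
    MF _ (rr h) M * MF _ (rr h) S * (MF _ (rr h) M)ᵀ = (-12 : F) • (ζ ^ (l : ℕ) • MF _ (rr h) S') := by
  rw [MF_transpose, MF_mul, MF_mul]
  ext i j
  rw [MF, Matrix.of_apply, hM, map_mul, map_mul, ev_sz h, ev_apply, Matrix.smul_apply, Matrix.smul_apply, MF,
    Matrix.of_apply, smul_eq_mul, smul_eq_mul]
  push_cast
  ring

end basic

variable {F : Type u} {V : Type v} [Field F] [AddCommGroup V] [Module F V] [FiniteDimensional F V]
variable {ρ : Sp →* Module.End F V}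

/-- the map to the symmetric matrices -/
noncomputable def Phi (ρ : Sp →* Module.End F V) (ξ : V →ₗ[F] F) (r : F) (hr : r * r = ((-3 : ℤ) : F)) :
    V →ₗ[F] Matrix (Fin 4) (Fin 4) F :=
  ∑ t : Fin 40, (ξ.comp (ρ (gT t)⁻¹)).smulRight (MF r hr (Sm t))

theorem Phi_apply (ξ : V →ₗ[F] F) (r : F) (hr : r * r = ((-3 : ℤ) : F)) (u : V) :
    Phi ρ ξ r hr u = ∑ t : Fin 40, ξ (ρ (gT t)⁻¹ u) • MF r hr (Sm t) := by
  rw [Phi, LinearMap.sum_apply]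
  rfl

namespace Sph

variable {v : V} {ξ : V →ₗ[F] F} {ζ : F} (h : Sph ρ v ξ ζ)

include h

theorem zq : ζ ^ 2 + ζ + 1 = 0 := by
  have h1 : (ζ - 1) * (ζ ^ 2 + ζ + 1) = 0 := by linear_combination h.good.cube
  exact (mul_eq_zero.1 h1).resolve_left (sub_ne_zero.2 h.good.ne1)

theorem step {g : Sp} {π : Fin 40 → Fin 40} {nl : Fin 40 → Fin 3 × Fin 3 × Fin 3 × Fin 4 × Fin 2 × Fin 3 × Fin 2}
    {M : Fin 4 → Fin 4 → ℤ√(-3)} (h1 : ∀ t : Fin 40, g * gT t = gT (π t) * nf (nl t))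
    (h2 : Function.Injective π)
    (h3 : ∀ (t : Fin 40) (i j : Fin 4), mul4 (mul4 M (Sm t)) (fun a b => M b a) i j =
      ⟨-6, 0⟩ * (sz (nl t).2.2.2.2.2.1 * Sm (π t) i j)) (u : V) :
    (-12 : F) • Phi ρ ξ _ (rr h.zq) (ρ g u) = MF _ (rr h.zq) M * Phi ρ ξ _ (rr h.zq) u * (MF _ (rr h.zq) M)ᵀ := by
  rw [Phi_apply, Phi_apply, Matrix.mul_sum, Matrix.sum_mul, Finset.smul_sum]
  have hb : Function.Bijective π := Finite.injective_iff_bijective.1 h2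
  rw [← hb.sum_comp]
  refine Finset.sum_congr rfl fun t _ => ?_
  have h4 : (gT (π t))⁻¹ * g = nf (nl t) * (gT t)⁻¹ := by
    rw [eq_mul_inv_iff_mul_eq, mul_assoc, h1, inv_mul_cancel_left]
  rw [mul_app, h4, ← mul_app, h.nfx, Matrix.mul_smul, Matrix.smul_mul, MF_conj h.zq (h3 t), smul_smul, smul_smul,
    smul_smul]
  congr 1
  rw [kq]
  ring

/-- values of the spherical function -/
theorem value (t : Fin 40) : 6 * ξ (ρ (gT t)⁻¹ v) = ev _ (rr h.zq) (cv t) := by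
  have hp : ∀ k : Fin 3, ζ ^ ((-k : Fin 3) : ℕ) * ζ ^ (k : ℕ) = 1 := by
    intro k
    have h3 := h.good.cube
    fin_cases k
    · change ζ ^ 0 * ζ ^ 0 = 1; simp
    · change ζ ^ 2 * ζ ^ 1 = 1; rw [← pow_add, h3]
    · change ζ ^ 1 * ζ ^ 2 = 1; rw [← pow_add, h3]
  have h0 : ζ ≠ 0 := by
    intro h0
    have := h.good.cube
    rw [h0] at this
    norm_num at this
  have h1 : ρ (nf (lT t))⁻¹ v = ζ ^ ((-(kq (lT t)) : Fin 3) : ℕ) • v := by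
    have e := h.good.nf_act (lT t)
    have e2 := congrArg (ρ (nf (lT t))⁻¹) e
    rw [mul_app, inv_mul_cancel, act1, map_smul] at e2
    conv_rhs => rw [e2]
    rw [smul_smul, hp, one_smul]
  have h2 : ∀ c : Fin 3, 3 * ξ (ρ (rep c)⁻¹ v) = ev _ (rr h.zq) (![⟨3, 0⟩, 0, ⟨-1, 0⟩] c) := by
    intro c
    fin_cases c
    · change 3 * ξ (ρ (1 : Sp)⁻¹ v) = ev _ (rr h.zq) ⟨3, 0⟩
      rw [inv_one, act1, h.one, ev_apply]; norm_num
    · change 3 * ξ (ρ (sG)⁻¹ v) = ev _ (rr h.zq) 0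
      have e : (sG)⁻¹ = sG := inv_eq_of_mul_eq_one_left (Subtype.ext (by decide +kernel))
      rw [e, show ξ (ρ sG v) = 0 from h.xs, map_zero, mul_zero]
    · change 3 * ξ (ρ (nG)⁻¹ v) = ev _ (rr h.zq) ⟨-1, 0⟩
      have e : (nG)⁻¹ = nG * hG := inv_eq_of_mul_eq_one_left (Subtype.ext (by decide +kernel))
      rw [e, ← mul_app, show ρ hG v = v from h.good.t1, show ξ (ρ nG v) = -(3 : F)⁻¹ from h.xn, ev_apply, mul_neg,
        mul_inv_cancel₀ h.irr.three]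
      norm_num
  rw [gT, _root_.mul_inv_rev, ← mul_app, h1, map_smul, map_smul, smul_eq_mul, cv, map_mul, ev_sz h.zq, ← h2]
  rw [kq]
  ring

theorem Phi_v : (6 * Phi ρ ξ _ (rr h.zq) v 1 1 : F) = 144 := by
  rw [Phi_apply, Matrix.sum_apply, Finset.mul_sum]
  have h1 : ∀ t : Fin 40, 6 * (ξ (ρ (gT t)⁻¹ v) • MF _ (rr h.zq) (Sm t)) 1 1 =
      ev _ (rr h.zq) (cv t * Sm t 1 1) := by
    intro t
    rw [Matrix.smul_apply, smul_eq_mul, ← mul_assoc, h.value, map_mul]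
    rfl
  rw [Finset.sum_congr rfl fun t _ => h1 t, ← map_sum]
  have h2 : ∑ t : Fin 40, cv t * Sm t 1 1 = tot := by
    rw [tot, ← List.sum_ofFn, List.ofFn_eq_map]
  rw [h2, tot_eq, ev_apply]
  norm_num

end Sph

end Cfsg.Agent.H923.Ten.U42
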