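import Cfsg.Agent.H923.Ten.U42Model
import Cfsg.Agent.H923.Ten.U42Five
import Cfsg.Agent.H659.Sp4Stage
import Cfsg.Agent.S0814

/-!
# Cores isomorphic to `PSp₄(3)` in dimension ten (helper923)
-/

set_option autoImplicit false
set_option linter.unusedSectionVars false

namespace Cfsg.Agent.H923.Ten.U42

open Module Matrix Cfsg Cfsg.Geo Cfsg.Agent.H659.Sp4 Cfsg.Agent.H659.SevenU42 Cfsg.Agent.H659.Ac

universe u

section rank

theorem rank_map_field {F L : Type*} [Field F] [Field L] (f : F →+* L) {n : ℕ} (M : Matrix (Fin n) (Fin n) F) :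
    (M.map f).rank = M.rank := by
  classical
  obtain ⟨l, l', D, h⟩ := Matrix.Pivot.exists_list_transvec_mul_mul_list_transvec_eq_diagonal M
  set A := (l.map TransvectionStruct.toMatrix).prod with hA
  set B := (l'.map TransvectionStruct.toMatrix).prod with hB
  have hAd : A.det = 1 := TransvectionStruct.det_toMatrix_prod l
  have hBd : B.det = 1 := TransvectionStruct.det_toMatrix_prod l'
  have h1 : (Matrix.diagonal D).rank = M.rank := by
    rw [← h, Matrix.rank_mul_eq_left_of_isUnit_det _ _ (by rw [hBd]; exact isUnit_one),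
      Matrix.rank_mul_eq_right_of_isUnit_det _ _ (by rw [hAd]; exact isUnit_one)]
  have h2 : (A.map f) * (M.map f) * (B.map f) = Matrix.diagonal (fun i => f (D i)) := by
    rw [← Matrix.map_mul, ← Matrix.map_mul, h, Matrix.diagonal_map (map_zero f)]
  have hA2 : (A.map f).det = 1 := by
    have := RingHom.map_det f A
    rw [hAd, map_one] at this
    exact this.symm
  have hB2 : (B.map f).det = 1 := by
    have := RingHom.map_det f B
    rw [hBd, map_one] at this
    exact this.symm
  have h3 : (Matrix.diagonal (fun i => f (D i))).rank = (M.map f).rank := by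
    rw [← h2, Matrix.rank_mul_eq_left_of_isUnit_det _ _ (by rw [hB2]; exact isUnit_one),
      Matrix.rank_mul_eq_right_of_isUnit_det _ _ (by rw [hA2]; exact isUnit_one)]
  rw [← h1, ← h3, Matrix.rank_diagonal, Matrix.rank_diagonal]
  refine Fintype.card_congr (Equiv.subtypeEquivRight fun i => ?_)
  rw [Ne, Ne, map_eq_zero]

theorem finrank_ker_add_rank {F : Type*} [Field F] {n : ℕ} (M : Matrix (Fin n) (Fin n) F) :
    finrank F (LinearMap.ker M.mulVecLin) + M.rank = n := by
  have := LinearMap.finrank_range_add_finrank_ker M.mulVecLin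
  rw [Module.finrank_fin_fun] at this
  rw [Matrix.rank]
  omega

end rank

variable {F : Type u} [Field F]

/-- the representation on column vectors -/
noncomputable def rq (φ : Sp →* GL (Fin 10) F) : Sp →* Module.End F (Fin 10 → F) where
  toFun g := Matrix.toLin' ((φ g : GL (Fin 10) F) : Matrix (Fin 10) (Fin 10) F)
  map_one' := by
    rw [map_one, Units.val_one, Matrix.toLin'_one]; rfl
  map_mul' x y := by
    rw [map_mul, Units.val_mul, Matrix.toLin'_mul]; rfl

theorem rq_apply (φ : Sp →* GL (Fin 10) F) (g : Sp) (v : Fin 10 → F) :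
    rq φ g v = ((φ g : GL (Fin 10) F) : Matrix (Fin 10) (Fin 10) F) *ᵥ v := by
  change Matrix.toLin' _ v = _
  rw [Matrix.toLin'_apply]

/-- a covering of the core by `Sp₄(3)` -/
structure Cov (P : Subgroup (GL (Fin 10) F)) (φ : Sp →* GL (Fin 10) F) : Prop where
  range : φ.range = P
  neg : φ negG = 1
  ker : ∀ w, φ w = 1 → w = 1 ∨ w = negG

theorem fix_descend {A : Type*} [Field A] [Algebra F A] (φ : Sp →* GL (Fin 10) F) (g : Sp) :
    finrank F (Fi (rq φ g)) = finrank A (Fi (rp A φ g)) := by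
  have e1 : Fi (rp A φ g) = LinearMap.ker
      ((((φ g : GL (Fin 10) F) : Matrix (Fin 10) (Fin 10) F) - 1).map (algebraMap F A)).mulVecLin := by
    ext v
    rw [mem_Fi, LinearMap.mem_ker, Matrix.mulVecLin_apply, rp_apply, Matrix.map_sub _ (fun a b => map_sub _ a b),
      Matrix.map_one _ (map_zero _) (map_one _), Matrix.sub_mulVec, Matrix.one_mulVec, sub_eq_zero]
  have e2 : Fi (rq φ g) = LinearMap.ker
      (((φ g : GL (Fin 10) F) : Matrix (Fin 10) (Fin 10) F) - 1).mulVecLin := by
    ext v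
    rw [mem_Fi, LinearMap.mem_ker, Matrix.mulVecLin_apply, rq_apply, Matrix.sub_mulVec, Matrix.one_mulVec,
      sub_eq_zero]
  have f1 := finrank_ker_add_rank ((((φ g : GL (Fin 10) F) : Matrix (Fin 10) (Fin 10) F) - 1).map
    (algebraMap F A))
  have f2 := finrank_ker_add_rank (((φ g : GL (Fin 10) F) : Matrix (Fin 10) (Fin 10) F) - 1)
  rw [rank_map_field] at f1
  rw [e1, e2]
  omega

theorem Cov.fixA {A : Type*} [Field A] [IsAlgClosed A] [Algebra F A] {P : Subgroup (GL (Fin 10) F)}
    {φ : Sp →* GL (Fin 10) F} (h : Cov P φ)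
    (hirr : ActsAbsolutelyIrreducibly (matrixSet P)) (h2 : (2 : F) ≠ 0) (h3 : (3 : F) ≠ 0) :
    finrank A (Fi (ops (rp A φ)).z1) = 1 := by
  have hs := Cfsg.Agent.H920.span_eq_top hirr
  have hinj : Function.Injective (algebraMap F A) := (algebraMap F A).injective
  have a2 : (2 : A) ≠ 0 := by
    intro h0
    apply h2; apply hinj
    rw [map_ofNat, h0, map_zero]
  have a3 : (3 : A) ≠ 0 := by
    intro h0
    apply h3; apply hinj
    rw [map_ofNat, h0, map_zero]
  have hfr : Module.finrank A (Fin 10 → A) = 10 := by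
    rw [Module.finrank_fintype_fun_eq_card, Fintype.card_fin]
  refine finrank_fix (rels (rp A φ)) a2 a3 (irr_of _ (rp_irr A φ h.range hs)) hfr ?_
  intro v
  rw [t1t2_eq, rp_apply, h.neg, Units.val_one, Matrix.map_one _ (map_zero _) (map_one _), Matrix.one_mulVec]

theorem Cov.fix {P : Subgroup (GL (Fin 10) F)} {φ : Sp →* GL (Fin 10) F} (h : Cov P φ)
    (hirr : ActsAbsolutelyIrreducibly (matrixSet P)) (h2 : (2 : F) ≠ 0) (h3 : (3 : F) ≠ 0) :
    finrank F (Fi (rq φ (U 7 2))) = 1 :=
  (fix_descend (A := AlgebraicClosure F) φ (U 7 2)).trans (h.fixA hirr h2 h3)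

theorem Cov.irr1 {P : Subgroup (GL (Fin 10) F)} {φ : Sp →* GL (Fin 10) F} (h : Cov P φ)
    (hirr : ActsAbsolutelyIrreducibly (matrixSet P)) (h2 : (2 : F) ≠ 0) (h3 : (3 : F) ≠ 0) : Irr1 (rq φ) where
  two := h2
  three := h3
  dim := by rw [finrank_pi, Fintype.card_fin]; norm_num
  irr := by
    intro U hU
    apply hirr.1
    rintro _ ⟨x, hx, rfl⟩
    rw [SetLike.mem_coe, ← h.range] at hx
    obtain ⟨w, rfl⟩ := hx
    rw [Submodule.map_le_iff_le_comap]
    intro u hu
    have h1 := hU w u hu
    rw [rq_apply] at h1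
    rw [Submodule.mem_comap, Matrix.toLin'_apply]
    exact h1
  neg := by
    intro v
    rw [rq_apply, h.neg, Units.val_one, Matrix.one_mulVec]
  one := h.fix hirr h2 h3

end Cfsg.Agent.H923.Ten.U42
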