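import Cfsg.Agent.H923.Ten.U42Chk
import Cfsg.Agent.H659.Sp4Six

/-!
# Ten-dimensional modules of `PSp₄(3)`: the spherical function (helper923)
-/

set_option autoImplicit false
set_option linter.unusedSectionVars false
set_option maxRecDepth 10000

namespace Cfsg.Agent.H923.Ten.U42

open Module Cfsg.Agent.H659.Sp4 Cfsg.Agent.H659.SevenU42

universe u v

variable {F : Type u} {V : Type v} [Field F] [AddCommGroup V] [Module F V] [FiniteDimensional F V]
variable {ρ : Sp →* Module.End F V}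

theorem act1 (ρ : Sp →* Module.End F V) (v : V) : ρ 1 v = v := by rw [map_one]; rfl

/-- the hypotheses -/
structure Irr1 (ρ : Sp →* Module.End F V) : Prop where
  two : (2 : F) ≠ 0
  three : (3 : F) ≠ 0
  dim : 2 ≤ finrank F V
  irr : ∀ U : Submodule F V, (∀ g, ∀ u ∈ U, ρ g u ∈ U) → U = ⊥ ∨ U = ⊤
  neg : ∀ v, ρ negG v = v
  one : finrank F (Fi (ρ (U 7 2))) = 1

/-- the fixed vector of a transvection -/
structure Good (ρ : Sp →* Module.End F V) (v : V) (ζ : F) : Prop where
  ne : v ≠ 0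
  z1 : (ops ρ).z1 v = v
  x : (ops ρ).x v = v
  y : (ops ρ).y v = v
  j : (ops ρ).j v = v
  z2 : (ops ρ).z2 v = ζ • v
  t1 : (ops ρ).t1 v = v
  t2 : (ops ρ).t2 v = v
  cube : ζ ^ 3 = 1
  ne1 : ζ ≠ 1
  un : ∀ u, (ops ρ).z1 u = u → ∃ μ : F, u = μ • v

theorem Irr1.fix_zero (h : Irr1 ρ) {v : V} (hv : ∀ g, ρ g v = v) : v = 0 := by
  by_contra h0
  rcases h.irr (Submodule.span F {v}) (by
    intro g u hu
    obtain ⟨c, rfl⟩ := Submodule.mem_span_singleton.1 hu
    rw [map_smul, hv]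
    exact hu) with h1 | h1
  · apply h0
    rw [← Submodule.mem_bot F, ← h1]
    exact Submodule.mem_span_singleton_self v
  · have h2 := finrank_span_singleton (K := F) h0
    rw [h1, finrank_top] at h2
    have := h.dim
    omega

/-- the stabiliser of a vector -/
def stab (ρ : Sp →* Module.End F V) (v : V) : Subgroup Sp where
  carrier := {g | ρ g v = v}
  one_mem' := act1 ρ v
  mul_mem' := by
    intro a b ha hb
    change ρ (a * b) v = v
    rw [← mul_app, show ρ b v = v from hb]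
    exact ha
  inv_mem' := by
    intro a ha
    change ρ a⁻¹ v = v
    have ha' : ρ a v = v := ha
    conv_lhs => rw [← ha']
    rw [mul_app, inv_mul_cancel, act1]

theorem Irr1.exists_good (h : Irr1 ρ) : ∃ (v : V) (ζ : F), Good ρ v ζ := by
  have R := rels ρ
  have h2 := h.two
  have h3 := h.three
  obtain ⟨⟨v, hv⟩, hv0', hspan⟩ := finrank_eq_one_iff'.1 h.one
  have hv0 : v ≠ 0 := fun h0 => hv0' (Subtype.ext h0)
  have hz1 : (ops ρ).z1 v = v := hv
  have un : ∀ u, (ops ρ).z1 u = u → ∃ μ : F, u = μ • v := by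
    intro u hu
    obtain ⟨c, hc⟩ := hspan ⟨u, hu⟩
    exact ⟨c, (congrArg Subtype.val hc).symm⟩
  have sc : ∀ {a b : F}, a • v = b • v → a = b := fun h0 => smul_left_injective F hv0 h0
  obtain ⟨cx, hx⟩ := un ((ops ρ).x v) (by rw [R.z1x, hz1])
  obtain ⟨cy, hy⟩ := un ((ops ρ).y v) (by rw [R.z1y, hz1])
  obtain ⟨cj, hj⟩ := un ((ops ρ).j v) (by rw [R.z1j, hz1])
  obtain ⟨ζ, hz⟩ := un ((ops ρ).z2 v) (by rw [R.z1z2, hz1])
  have x3 : cx ^ 3 = 1 := by
    have := R.xxx v
    rw [hx, map_smul, hx, map_smul, map_smul, hx, smul_smul, smul_smul] at this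
    have := sc (this.trans (one_smul F v).symm)
    linear_combination this
  have z3 : ζ ^ 3 = 1 := by
    have := R.z2z2z2 v
    rw [hz, map_smul, hz, map_smul, map_smul, hz, smul_smul, smul_smul] at this
    have := sc (this.trans (one_smul F v).symm)
    linear_combination this
  have j4 : cj ^ 4 = 1 := by
    have := R.t2t2 v
    rw [← R.jj v, ← R.jj, hj] at this
    simp only [map_smul, hj, smul_smul] at this
    have := sc (this.trans (one_smul F v).symm)
    linear_combination this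
  have cj0 : cj ≠ 0 := by
    rintro rfl
    norm_num at j4
  have cx0 : cx ≠ 0 := by
    rintro rfl
    norm_num at x3
  have z0 : ζ ≠ 0 := by
    rintro rfl
    norm_num at z3
  have exy : cy = cx := by
    have := R.jy v
    rw [hy, hj, map_smul, map_smul, hj, hx, smul_smul, smul_smul] at this
    have := sc this
    exact mul_right_cancel₀ cj0 (this.trans (mul_comm _ _))
  have ex : cx = 1 := by
    have := R.jx v
    rw [hx, hj] at this
    simp only [map_smul, hj, hy, smul_smul] at this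
    have := sc this
    have h5 : cx * cj * (1 - cx) = 0 := by rw [exy] at this; linear_combination this
    have h6 := (mul_eq_zero.1 h5).resolve_left (mul_ne_zero cx0 cj0)
    linear_combination -h6
  have ej : cj = 1 := by
    have := R.jp v
    simp only [hz, map_smul, hj, smul_smul] at this
    have := sc this
    have h5 : ζ ^ 3 * cj * (cj - 1) = 0 := by linear_combination this
    have h6 := (mul_eq_zero.1 h5).resolve_left (mul_ne_zero (pow_ne_zero 3 z0) cj0)
    linear_combination h6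
  rw [ex, one_smul] at hx
  rw [exy, ex, one_smul] at hy
  rw [ej, one_smul] at hj
  have ht2 : (ops ρ).t2 v = v := by rw [← R.jj, hj, hj]
  have ht1 : (ops ρ).t1 v = v := by
    have := t1t2_eq ρ v
    rw [ht2, h.neg] at this
    exact this
  refine ⟨v, ζ, hv0, hz1, hx, hy, hj, hz, ht1, ht2, z3, ?_, un⟩
  -- `ζ ≠ 1`
  rintro rfl
  rw [one_smul] at hz
  obtain ⟨σ, hs⟩ := un ((ops ρ).s v) (by rw [R.z1s, hz])
  have s2 : σ ^ 2 = 1 := by
    have := R.ss v
    rw [hs, map_smul, hs, smul_smul] at this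
    have := sc (this.trans (one_smul F v).symm)
    linear_combination this
  have hσ : σ = 1 := by
    have := R.s_eq v
    simp only [hy, ht2, hs, map_smul, smul_smul] at this
    have := sc this
    linear_combination this + s2
  rw [hσ, one_smul] at hs
  apply hv0
  apply h.fix_zero
  intro g
  have hS := gen_ysj (stab ρ v) hy hs hj
  have : g ∈ stab ρ v := by rw [hS]; exact Subgroup.mem_top g
  exact this

/-- exponent of `ζ` -/
def kq (q : Fin 3 × Fin 3 × Fin 3 × Fin 4 × Fin 2 × Fin 3 × Fin 2) : Fin 3 := q.2.2.2.2.2.1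

theorem p3_act {g : Sp} {v : V} (h : ρ g v = v) (a : Fin 3) : ρ (p3 g a) v = v := by
  fin_cases a
  · exact act1 ρ v
  · exact h
  · change ρ (g * g) v = v
    rw [← mul_app, h, h]

theorem p2_act {g : Sp} {v : V} (h : ρ g v = v) (a : Fin 2) : ρ (p2 g a) v = v := by
  fin_cases a
  · exact act1 ρ v
  · exact h

theorem Good.zz {v : V} {ζ : F} (h : Good ρ v ζ) (k : Fin 3) : ρ (p3 (U 4 1) k) v = ζ ^ (k : ℕ) • v := by
  have hz : ρ (U 4 1) v = ζ • v := h.z2
  fin_cases k
  · change ρ 1 v = ζ ^ 0 • v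
    rw [act1, pow_zero, one_smul]
  · change ρ (U 4 1) v = ζ ^ 1 • v
    rw [pow_one, hz]
  · change ρ (U 4 1 * U 4 1) v = ζ ^ 2 • v
    rw [← mul_app, hz, map_smul, hz, smul_smul, pow_two]

theorem Good.qT_act {v : V} {ζ : F} (h : Good ρ v ζ) (q : Fin 4) : ρ (qT q) v = v := by
  have hz : ρ (U 4 1) v = ζ • v := h.z2
  have hj : ρ jG v = v := h.j
  have h3 : ζ * ζ * ζ = 1 := by rw [← h.cube]; ring
  fin_cases q
  · exact act1 ρ v
  · exact h.j
  · change ρ (U 4 1 * jG * (U 4 1 * U 4 1)) v = v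
    simp only [← mul_app, hz, map_smul, hj, smul_smul]
    rw [h3, one_smul]
  · change ρ ((U 4 1 * U 4 1) * jG * U 4 1) v = v
    simp only [← mul_app, hz, map_smul, hj, smul_smul]
    rw [← mul_assoc, h3, one_smul]

theorem Good.nf_act {v : V} {ζ : F} (h : Good ρ v ζ) (q : Fin 3 × Fin 3 × Fin 3 × Fin 4 × Fin 2 × Fin 3 × Fin 2) :
    ρ (nf q) v = ζ ^ (kq q : ℕ) • v := by
  rw [nf, ← mul_app, ← mul_app, ← mul_app, ← mul_app, ← mul_app, ← mul_app, p2_act (show ρ hG v = v from h.t1),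
    h.zz, map_smul, map_smul, map_smul, map_smul, map_smul, p2_act (show ρ (jG * jG) v = v from h.t2), h.qT_act,
    p3_act (show ρ (U 7 2) v = v from h.z1), p3_act (show ρ (U 5 1) v = v from h.y),
    p3_act (show ρ (U 6 2) v = v from h.x)]
  rfl

/-- the sum over the group of the transvection -/
def es (ρ : Sp →* Module.End F V) (v : V) : V := v + (ops ρ).z1 v + (ops ρ).z1 ((ops ρ).z1 v)

theorem Good.es_eq {v : V} {ζ : F} (h : Good ρ v ζ) (u : V) : ∃ κ : F, es ρ u = κ • v := by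
  apply h.un
  rw [es, map_add, map_add, (rels ρ).z1z1z1]; abel

/-- the dual representation -/
def dl (ρ : Sp →* Module.End F V) : Sp →* Module.End F (Dual F V) where
  toFun g := (ρ g⁻¹).dualMap
  map_one' := by
    ext ξ v
    change ξ (ρ (1 : Sp)⁻¹ v) = ξ v
    rw [inv_one, act1]
  map_mul' x y := by
    ext ξ v
    change ξ (ρ (x * y)⁻¹ v) = ξ (ρ y⁻¹ (ρ x⁻¹ v))
    rw [mul_app, mul_inv_rev]

theorem dl_apply (g : Sp) (ξ : Dual F V) (v : V) : dl ρ g ξ v = ξ (ρ g⁻¹ v) := rfl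

theorem finrank_Fi_dual (T : Module.End F V) :
    finrank F (Fi (T.dualMap : Module.End F (Dual F V))) = finrank F (Fi T) := by
  have h1 : Fi T = LinearMap.ker (T - 1) := by
    ext v
    rw [mem_Fi, LinearMap.mem_ker, LinearMap.sub_apply, Module.End.one_apply, sub_eq_zero]
  have h2 : Fi (T.dualMap : Module.End F (Dual F V)) = LinearMap.ker ((T - 1).dualMap) := by
    ext ξ
    rw [mem_Fi, LinearMap.mem_ker]
    constructor
    · intro h
      ext v
      have := LinearMap.congr_fun h v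
      rw [LinearMap.dualMap_apply] at this
      rw [LinearMap.dualMap_apply, LinearMap.sub_apply, map_sub, Module.End.one_apply, this, sub_self,
        LinearMap.zero_apply]
    · intro h
      ext v
      have := LinearMap.congr_fun h v
      rw [LinearMap.dualMap_apply, LinearMap.sub_apply, map_sub, Module.End.one_apply, LinearMap.zero_apply,
        sub_eq_zero] at this
      exact this
  have e1 := LinearMap.finrank_range_add_finrank_ker (T - 1)
  have e2 := LinearMap.finrank_range_add_finrank_ker ((T - 1).dualMap)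
  rw [LinearMap.finrank_range_dualMap_eq_finrank_range, Subspace.dual_finrank_eq] at e2
  rw [h1, h2]
  omega

theorem Irr1.dual (h : Irr1 ρ) : Irr1 (dl ρ) where
  two := h.two
  three := h.three
  dim := by rw [Subspace.dual_finrank_eq]; exact h.dim
  irr := by
    intro U hU
    have h1 := h.irr U.dualCoannihilator (by
      intro g u hu
      rw [Submodule.mem_dualCoannihilator] at hu ⊢
      intro ξ hξ
      have h2 := hu _ (hU g⁻¹ ξ hξ)
      rwa [dl_apply, inv_inv] at h2)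
    have h2 : U.dualCoannihilator.dualAnnihilator = U := Subspace.dualCoannihilator_dualAnnihilator_eq
    rcases h1 with h1 | h1
    · right; rw [← h2, h1, Submodule.dualAnnihilator_bot]
    · left; rw [← h2, h1, Submodule.dualAnnihilator_top]
  neg := by
    intro ξ
    ext v
    have hn : (negG)⁻¹ = negG := inv_eq_of_mul_eq_one_left negG_sq
    rw [dl_apply, hn, h.neg]
  one := by
    change finrank F (Fi ((ρ (U 7 2)⁻¹).dualMap : Module.End F (Dual F V))) = 1
    rw [finrank_Fi_dual]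
    have : Fi (ρ (U 7 2)⁻¹) = Fi (ρ (U 7 2)) := by
      ext v
      rw [mem_Fi, mem_Fi]
      constructor
      · intro h0
        conv_lhs => rw [← h0]
        rw [mul_app, mul_inv_cancel, act1]
      · intro h0
        conv_lhs => rw [← h0]
        rw [mul_app, inv_mul_cancel, act1]
    rw [this, h.one]

/-- the situation after the second step -/
structure Sph (ρ : Sp →* Module.End F V) (v : V) (ξ : V →ₗ[F] F) (ζ : F) : Prop where
  irr : Irr1 ρ
  good : Good ρ v ζ
  nfx : ∀ q u, ξ (ρ (nf q) u) = ζ ^ (kq q : ℕ) * ξ u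
  xes : ∀ u, ξ (es ρ u) = 3 * ξ u
  one : ξ v = 1
  xs : ξ ((ops ρ).s v) = 0
  xn : ξ ((ops ρ).n v) = -(3 : F)⁻¹

theorem Irr1.exists_sph (h : Irr1 ρ) : ∃ v ξ ζ, Sph ρ v ξ ζ := by
  have R := rels ρ
  obtain ⟨v, ζ, hv⟩ := h.exists_good
  obtain ⟨ξ0, ζ', hξ⟩ := h.dual.exists_good
  have h3 := h.three
  -- action on the functional
  have inv_of : ∀ g : Sp, dl ρ g ξ0 = ξ0 → ∀ u, ξ0 (ρ g u) = ξ0 u := by
    intro g hg u
    have h1 := LinearMap.congr_fun hg (ρ g u)
    rw [dl_apply, mul_app, inv_mul_cancel, act1] at h1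
    exact h1.symm
  have n1 : ∀ u, ξ0 ((ops ρ).z1 u) = ξ0 u := inv_of _ hξ.z1
  have nx : ∀ u, ξ0 (ρ (U 6 2) u) = ξ0 u := inv_of _ hξ.x
  have ny : ∀ u, ξ0 (ρ (U 5 1) u) = ξ0 u := inv_of _ hξ.y
  have nj : ∀ u, ξ0 (ρ jG u) = ξ0 u := inv_of _ hξ.j
  have nh : ∀ u, ξ0 (ρ hG u) = ξ0 u := inv_of _ hξ.t1
  have nes : ∀ u, ξ0 (es ρ u) = 3 * ξ0 u := fun u => by
    rw [es, map_add, map_add, n1, n1, n1]; ring
  -- nonvanishing
  have hne : ξ0 v ≠ 0 := by
    intro h0
    have h1 : ∀ g, ξ0 (ρ g v) = 0 := by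
      intro g
      obtain ⟨κ, hκ⟩ := hv.es_eq (ρ g v)
      have h2 := nes (ρ g v)
      rw [hκ, map_smul, h0, smul_zero] at h2
      exact (mul_eq_zero.1 h2.symm).resolve_left h3
    rcases h.irr (Submodule.span F (Set.range fun g => ρ g v)) (by
      intro g u hu
      induction hu using Submodule.span_induction with
      | mem x hx =>
        obtain ⟨y, rfl⟩ := hx
        rw [mul_app]
        exact Submodule.subset_span ⟨_, rfl⟩
      | zero => rw [map_zero]; exact zero_mem _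
      | add x y _ _ hx hy => rw [map_add]; exact add_mem hx hy
      | smul c x _ hx => rw [map_smul]; exact Submodule.smul_mem _ _ hx) with h2 | h2
    · apply hv.1
      rw [← Submodule.mem_bot F, ← h2]
      exact Submodule.subset_span ⟨1, act1 ρ v⟩
    · apply hξ.1
      apply LinearMap.ext
      intro u
      have hu : u ∈ Submodule.span F (Set.range fun g => ρ g v) := by rw [h2]; trivial
      induction hu using Submodule.span_induction with
      | mem x hx => obtain ⟨y, rfl⟩ := hx; exact h1 y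
      | zero => rw [map_zero, map_zero]
      | add x y _ _ hx hy => rw [map_add, hx, hy, LinearMap.zero_apply, LinearMap.zero_apply, LinearMap.zero_apply, add_zero]
      | smul c x _ hx => rw [map_smul, hx, LinearMap.zero_apply, LinearMap.zero_apply, smul_zero]
  -- the eigenvalue of `z2` on the functional
  have nz : ∀ u, ξ0 (ρ (U 4 1) u) = ζ * ξ0 u := by
    have h1 : dl ρ (U 4 1) ξ0 = ζ' • ξ0 := hξ.z2
    have h2 : ∀ u, ξ0 u = ζ' * ξ0 (ρ (U 4 1) u) := by
      intro u
      have h4 := LinearMap.congr_fun h1 (ρ (U 4 1) u)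
      rw [dl_apply, mul_app, inv_mul_cancel, act1] at h4
      exact h4
    have h4 := h2 v
    rw [show ρ (U 4 1) v = ζ • v from hv.z2, map_smul, smul_eq_mul, ← mul_assoc] at h4
    have h5 : ζ' * ζ = 1 := mul_right_cancel₀ hne (h4.symm.trans (one_mul _).symm)
    intro u
    rw [h2 u, ← mul_assoc, mul_comm ζ, h5, one_mul]
  set ξ : V →ₗ[F] F := (ξ0 v)⁻¹ • ξ0 with hξdef
  have ξap : ∀ u, ξ u = (ξ0 v)⁻¹ * ξ0 u := fun u => rfl
  have e1 : ξ v = 1 := by rw [ξap, inv_mul_cancel₀ hne]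
  have m1 : ∀ u, ξ (ρ (U 7 2) u) = ξ u := fun u => by rw [ξap, ξap]; congr 1; exact n1 u
  have mx : ∀ u, ξ (ρ (U 6 2) u) = ξ u := fun u => by rw [ξap, ξap, nx]
  have my : ∀ u, ξ (ρ (U 5 1) u) = ξ u := fun u => by rw [ξap, ξap, ny]
  have mj : ∀ u, ξ (ρ jG u) = ξ u := fun u => by rw [ξap, ξap, nj]
  have mh : ∀ u, ξ (ρ hG u) = ξ u := fun u => by rw [ξap, ξap, nh]
  have mz : ∀ u, ξ (ρ (U 4 1) u) = ζ * ξ u := fun u => by rw [ξap, ξap, nz]; ring
  have mes : ∀ u, ξ (es ρ u) = 3 * ξ u := fun u => by rw [ξap, ξap, nes]; ring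
  have k3 : ∀ (g : Sp), (∀ u, ξ (ρ g u) = ξ u) → ∀ (a : Fin 3) u, ξ (ρ (p3 g a) u) = ξ u := by
    intro g hg a u
    fin_cases a
    · change ξ (ρ 1 u) = ξ u
      rw [act1]
    · exact hg u
    · change ξ (ρ (g * g) u) = ξ u
      rw [← mul_app, hg, hg]
  have k2 : ∀ (g : Sp), (∀ u, ξ (ρ g u) = ξ u) → ∀ (a : Fin 2) u, ξ (ρ (p2 g a) u) = ξ u := by
    intro g hg a u
    fin_cases a
    · change ξ (ρ 1 u) = ξ u
      rw [act1]
    · exact hg u
  have kz : ∀ (k : Fin 3) u, ξ (ρ (p3 (U 4 1) k) u) = ζ ^ (k : ℕ) * ξ u := by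
    intro k u
    fin_cases k
    · change ξ (ρ 1 u) = ζ ^ 0 * ξ u
      rw [act1, pow_zero, one_mul]
    · change ξ (ρ (U 4 1) u) = ζ ^ 1 * ξ u
      rw [pow_one, mz]
    · change ξ (ρ (U 4 1 * U 4 1) u) = ζ ^ 2 * ξ u
      rw [← mul_app, mz, mz]; ring
  have h3' : ζ * ζ * ζ = 1 := by rw [← hv.cube]; ring
  have kqT : ∀ (q : Fin 4) u, ξ (ρ (qT q) u) = ξ u := by
    intro q u
    fin_cases q
    · change ξ (ρ 1 u) = ξ u
      rw [act1]
    · exact mj u
    · change ξ (ρ (U 4 1 * jG * (U 4 1 * U 4 1)) u) = ξ u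
      simp only [← mul_app, mz, mj]
      rw [← mul_assoc, ← mul_assoc, h3', one_mul]
    · change ξ (ρ ((U 4 1 * U 4 1) * jG * U 4 1) u) = ξ u
      simp only [← mul_app, mz, mj]
      rw [← mul_assoc, ← mul_assoc, h3', one_mul]
  have mnf : ∀ q u, ξ (ρ (nf q) u) = ζ ^ (kq q : ℕ) * ξ u := by
    intro q u
    rw [nf, ← mul_app, ← mul_app, ← mul_app, ← mul_app, ← mul_app, ← mul_app, k3 _ mx, k3 _ my, k3 _ m1, kqT,
      k2 _ (fun u => by rw [← mul_app, mj, mj]), kz, k2 _ mh]
    rfl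
  refine ⟨v, ξ, ζ, h, hv, mnf, mes, e1, ?_, ?_⟩
  · -- value at `s`
    have h1 := mz ((ops ρ).s v)
    change ξ ((ops ρ).z2 ((ops ρ).s v)) = _ at h1
    rw [R.z2s, hv.z1] at h1
    have h2 : (ζ - 1) * ξ ((ops ρ).s v) = 0 := by linear_combination -h1
    exact (mul_eq_zero.1 h2).resolve_left (sub_ne_zero.2 hv.ne1)
  · -- value at `n`
    obtain ⟨κ, hκ⟩ := hv.es_eq ((ops ρ).n v)
    have nt : ∀ u, (ops ρ).n ((ops ρ).t1 u) = (ops ρ).t1 ((ops ρ).n u) := fun u => by rw [← R.nn, ← R.nn]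
    -- `n z1 n v = z1² n v`
    have f1 : (ops ρ).n ((ops ρ).z1 ((ops ρ).n v)) = (ops ρ).z1 ((ops ρ).z1 ((ops ρ).n v)) := by
      have e := R.nz3 v
      rw [hv.z1, hv.t1] at e
      -- n z1 n z1 n v = v
      have e2 := congrArg (ops ρ).n e
      rw [R.nn, ← R.z1t1, ← nt, ← R.z1t1, ← nt, hv.t1] at e2
      have e3 := congrArg (fun u => (ops ρ).z1 ((ops ρ).z1 u)) e2
      simp only [R.z1z1z1] at e3
      exact e3
    have f2 : (ops ρ).n ((ops ρ).z1 ((ops ρ).z1 ((ops ρ).n v))) = (ops ρ).z1 ((ops ρ).n v) := by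
      rw [← f1, R.nn, ← R.z1t1, ← nt, hv.t1]
    have f0 : (ops ρ).n ((ops ρ).n v) = v := by rw [R.nn, hv.t1]
    have hκ1 : κ = -1 := by
      by_contra hne1
      have hne2 : 1 + κ ≠ 0 := fun h0 => hne1 (by linear_combination h0)
      have e0 : v + es ρ ((ops ρ).n v) = (1 + κ) • v := by rw [hκ, add_smul, one_smul]
      have e5 := congrArg (ops ρ).n e0
      rw [map_smul, es, map_add, map_add, map_add, f0, f1, f2] at e5
      have e6 : (1 + κ) • v = (1 + κ) • (ops ρ).n v := by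
        rw [← e5, ← e0, es]; abel
      have e7 : (ops ρ).n v = v := (smul_right_injective V hne2 e6).symm
      apply hv.ne
      apply h.fix_zero
      have q1 : U 7 2 ∈ stab ρ v := hv.z1
      have q2 : U 6 2 ∈ stab ρ v := hv.x
      have q3 : U 5 1 ∈ stab ρ v := hv.y
      have qn : nG ∈ stab ρ v := e7
      have hS := gen (stab ρ v) q1 q2 q3 (mul_mem (mul_mem qn q1) (inv_mem qn)) (mul_mem (mul_mem qn q2) (inv_mem qn))
        (mul_mem (mul_mem qn q3) (inv_mem qn))
      intro g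
      have : g ∈ stab ρ v := by rw [hS]; exact Subgroup.mem_top g
      exact this
    have e8 := mes ((ops ρ).n v)
    rw [hκ, hκ1, map_smul, e1, smul_eq_mul, mul_one] at e8
    rw [eq_neg_iff_add_eq_zero]
    have e9 : (3 : F) * (ξ ((ops ρ).n v) + 3⁻¹) = 0 := by
      rw [mul_add, ← e8, mul_inv_cancel₀ h3]; ring
    exact (mul_eq_zero.1 e9).resolve_left h3

end Cfsg.Agent.H923.Ten.U42
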