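import Cfsg.Agent.H659.Sp4Inst

/-!
# Tables for the ten-dimensional module of `PSp₄(3)` (helper923)
-/

set_option autoImplicit false
set_option maxRecDepth 20000
set_option maxHeartbeats 2000000

namespace Cfsg.Agent.H923.Ten.U42

open Cfsg.Agent.H659.Sp4 Cfsg.Agent.H659.SevenU42

/-- points: class -/
def cls : Fin 40 → Fin 3 := ![0, 1, 1, 1, 1, 1, 1, 1, 1, 1, 1, 1, 1, 2, 2, 2, 2, 2, 2, 2, 2, 2, 2, 2, 2, 2, 2, 2, 2, 2, 2, 2, 2, 2, 2, 2, 2, 2, 2, 2]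

/-- points: first part of the representative -/
def lT : Fin 40 → Fin 3 × Fin 3 × Fin 3 × Fin 4 × Fin 2 × Fin 3 × Fin 2 := ![(0, 0, 0, 0, 0, 0, 0), (0, 0, 0, 1, 0, 0, 0), (0, 0, 0, 0, 0, 0, 0), (0, 0, 0, 2, 0, 0, 0), (0, 0, 0, 3, 0, 0, 0), (1, 0, 0, 1, 0, 0, 0), (2, 0, 0, 1, 0, 0, 0), (0, 1, 0, 0, 0, 0, 0), (0, 1, 0, 2, 0, 0, 0), (0, 1, 0, 3, 0, 0, 0), (0, 2, 0, 0, 0, 0, 0), (0, 2, 0, 3, 0, 0, 0), (0, 2, 0, 2, 0, 0, 0), (0, 0, 0, 0, 0, 0, 0), (0, 2, 0, 0, 0, 0, 0), (0, 1, 0, 0, 0, 0, 0), (1, 0, 0, 0, 0, 0, 0), (1, 2, 2, 0, 0, 0, 0), (1, 1, 1, 0, 0, 0, 0), (2, 0, 0, 0, 0, 0, 0), (2, 1, 2, 0, 0, 0, 0), (2, 2, 1, 0, 0, 0, 0), (0, 0, 1, 0, 0, 0, 0), (0, 2, 1, 0, 0, 0, 0), (0, 1, 1, 0, 0, 0, 0), (0, 0, 2, 0, 0, 0, 0), (0, 1, 2, 0, 0, 0, 0),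 (0, 2, 2, 0, 0, 0, 0), (1, 0, 1, 0, 0, 0, 0), (1, 2, 0, 0, 0, 0, 0), (1, 1, 2, 0, 0, 0, 0), (2, 0, 2, 0, 0, 0, 0), (2, 1, 1, 0, 0, 0, 0), (2, 2, 0, 0, 0, 0, 0), (2, 0, 1, 0, 0, 0, 0), (2, 2, 2, 0, 0, 0, 0), (2, 1, 0, 0, 0, 0, 0), (1, 0, 2, 0, 0, 0, 0), (1, 1, 0, 0, 0, 0, 0), (1, 2, 1, 0, 0, 0, 0)]

def pi_y : Fin 40 → Fin 40 := ![0, 1, 7, 8, 9, 5, 6, 10, 12, 11, 2, 4, 3, 15, 13, 14, 30, 28, 29, 32, 33, 31, 24, 22, 23, 26, 27, 25, 38, 37, 39, 36, 35, 34, 20, 19, 21, 18, 17, 16]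

def nl_y : Fin 40 → Fin 3 × Fin 3 × Fin 3 × Fin 4 × Fin 2 × Fin 3 × Fin 2 := ![(0, 1, 0, 0, 0, 0, 0), (2, 0, 0, 0, 0, 0, 0), (0, 0, 0, 0, 0, 0, 0), (0, 0, 0, 0, 0, 0, 0), (0, 0, 0, 0, 0, 0, 0), (2, 0, 0, 0, 0, 2, 0), (2, 0, 0, 0, 0, 1, 0), (0, 0, 0, 0, 0, 0, 0), (0, 0, 0, 0, 0, 0, 0), (0, 0, 0, 0, 0, 0, 0), (0, 0, 0, 0, 0, 0, 0), (0, 0, 0, 0, 0, 0, 0), (0, 0, 0, 0, 0, 0, 0), (0, 0, 0, 0, 0, 0, 0), (0, 0, 0, 0, 0, 0, 0), (0, 0, 0, 0, 0, 0, 0), (0, 0, 0, 0, 0, 0, 0), (0, 0, 0, 0, 0, 0, 0), (0, 0, 0, 0, 0, 0, 0), (0, 0, 0, 0, 0, 0, 0), (0, 0, 0, 0, 0, 0, 0), (0, 0, 0, 0, 0, 0, 0), (0, 0, 0, 0, 0, 0, 0), (0, 0, 0, 0, 0, 0, 0), (0, 0, 0, 0, 0, 0, 0), (0, 0, 0, 0, 0, 0, 0), (0, 0, 0, 0, 0, 0, 0), (0, 0, 0, 0, 0, 0, 0), (0, 0, 0, 0, 0, 0, 0),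 (0, 0, 0, 0, 0, 0, 0), (0, 0, 0, 0, 0, 0, 0), (0, 0, 0, 0, 0, 0, 0), (0, 0, 0, 0, 0, 0, 0), (0, 0, 0, 0, 0, 0, 0), (0, 0, 0, 0, 0, 0, 0), (0, 0, 0, 0, 0, 0, 0), (0, 0, 0, 0, 0, 0, 0), (0, 0, 0, 0, 0, 0, 0), (0, 0, 0, 0, 0, 0, 0), (0, 0, 0, 0, 0, 0, 0)]

def pi_s : Fin 40 → Fin 40 := ![2, 13, 0, 22, 25, 16, 19, 7, 28, 31, 10, 37, 34, 1, 14, 15, 5, 23, 26, 6, 24, 27, 3, 17, 20, 4, 18, 21, 8, 29, 32, 9, 30, 33, 12, 39, 36, 11, 38, 35]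

def nl_s : Fin 40 → Fin 3 × Fin 3 × Fin 3 × Fin 4 × Fin 2 × Fin 3 × Fin 2 := ![(0, 0, 0, 0, 0, 0, 0), (0, 0, 0, 0, 0, 0, 0), (0, 0, 0, 0, 0, 0, 0), (0, 0, 2, 0, 0, 0, 0), (0, 0, 1, 0, 0, 0, 0), (0, 0, 0, 0, 0, 0, 0), (0, 0, 0, 0, 0, 0, 0), (0, 2, 0, 0, 1, 0, 0), (2, 0, 2, 0, 0, 1, 0), (2, 0, 1, 0, 0, 2, 0), (0, 1, 0, 0, 0, 0, 1), (1, 0, 1, 0, 0, 2, 0), (1, 0, 2, 0, 0, 1, 0), (0, 0, 0, 0, 0, 0, 0), (2, 0, 0, 0, 1, 0, 0), (1, 0, 0, 0, 0, 0, 1), (0, 0, 0, 0, 0, 0, 0), (2, 0, 0, 0, 1, 2, 0), (1, 0, 0, 0, 0, 1, 1), (0, 0, 0, 0, 0, 0, 0), (1, 0, 0, 0, 0, 2, 1), (2, 0, 0, 0, 1, 1, 0), (0, 0, 1, 0, 0, 0, 0), (2, 0, 0, 0, 1, 1, 0), (1, 0, 0, 0, 0, 1, 1), (0, 0, 2, 0, 0, 0, 0), (1, 0, 0, 0, 0, 2, 1), (2, 0, 0, 0, 1, 2, 0), (1, 0, 1, 0, 0, 2, 0),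 (2, 0, 0, 0, 1, 0, 0), (1, 0, 0, 0, 0, 2, 1), (1, 0, 2, 0, 0, 1, 0), (1, 0, 0, 0, 0, 1, 1), (2, 0, 0, 0, 1, 0, 0), (2, 0, 1, 0, 0, 2, 0), (2, 0, 0, 0, 1, 2, 0), (1, 0, 0, 0, 0, 0, 1), (2, 0, 2, 0, 0, 1, 0), (1, 0, 0, 0, 0, 0, 1), (2, 0, 0, 0, 1, 1, 0)]

def pi_j : Fin 40 → Fin 40 := ![0, 2, 1, 4, 3, 10, 7, 5, 11, 8, 6, 12, 9, 13, 19, 16, 14, 21, 17, 15, 18, 20, 22, 34, 28, 25, 37, 31, 23, 35, 29, 26, 38, 32, 24, 36, 30, 27, 39, 33]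

def nl_j : Fin 40 → Fin 3 × Fin 3 × Fin 3 × Fin 4 × Fin 2 × Fin 3 × Fin 2 := ![(0, 0, 0, 1, 0, 0, 0), (0, 0, 0, 0, 0, 0, 1), (0, 0, 0, 0, 0, 0, 0), (0, 0, 0, 0, 0, 0, 0), (0, 0, 0, 0, 0, 0, 1), (0, 0, 0, 0, 0, 0, 1), (0, 0, 0, 0, 0, 0, 1), (0, 0, 0, 0, 0, 0, 0), (2, 0, 0, 0, 0, 1, 0), (1, 0, 0, 0, 0, 2, 1), (0, 0, 0, 0, 0, 0, 0), (2, 0, 0, 0, 0, 2, 1), (1, 0, 0, 0, 0, 1, 0), (0, 0, 0, 1, 0, 0, 0), (0, 0, 0, 1, 0, 0, 0), (0, 0, 0, 1, 0, 0, 0), (0, 0, 0, 1, 0, 0, 0), (0, 0, 0, 1, 0, 0, 0), (0, 0, 0, 1, 0, 0, 0), (0, 0, 0, 1, 0, 0, 0), (0, 0, 0, 1, 0, 0, 0), (0, 0, 0, 1, 0, 0, 0), (0, 0, 0, 1, 0, 0, 0), (0, 0, 0, 1, 0, 0, 0), (0, 0, 0, 1, 0, 0, 0), (0, 0, 0, 1, 0, 0, 0), (0, 0, 0, 1, 0, 0, 0), (0, 0, 0, 1, 0, 0, 0), (0, 0, 0, 1, 0, 0, 0),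 (0, 0, 0, 1, 0, 0, 0), (0, 0, 0, 1, 0, 0, 0), (0, 0, 0, 1, 0, 0, 0), (0, 0, 0, 1, 0, 0, 0), (0, 0, 0, 1, 0, 0, 0), (0, 0, 0, 1, 0, 0, 0), (0, 0, 0, 1, 0, 0, 0), (0, 0, 0, 1, 0, 0, 0), (0, 0, 0, 1, 0, 0, 0), (0, 0, 0, 1, 0, 0, 0), (0, 0, 0, 1, 0, 0, 0)]

/-- entries `p + q √-3` -/
def Sl : List (List (List (ℤ × ℤ))) := [
  [[(0, 0), (0, 0), (0, 0), (0, 0)], [(0, 0), (6, 0), (0, 0), (0, 0)], [(0, 0), (0, 0), (0, 0), (0, 0)], [(0, 0), (0, 0), (0, 0), (0, 0)]],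
  [[(-2, 0), (0, 0), (-2, 0), (-2, 0)], [(0, 0), (0, 0), (0, 0), (0, 0)], [(-2, 0), (0, 0), (-2, 0), (-2, 0)], [(-2, 0), (0, 0), (-2, 0), (-2, 0)]],
  [[(6, 0), (0, 0), (0, 0), (0, 0)], [(0, 0), (0, 0), (0, 0), (0, 0)], [(0, 0), (0, 0), (0, 0), (0, 0)], [(0, 0), (0, 0), (0, 0), (0, 0)]],
  [[(-2, 0), (0, 0), (1, -1), (1, -1)], [(0, 0), (0, 0), (0, 0), (0, 0)], [(1, -1), (0, 0), (1, 1), (1, 1)], [(1, -1), (0, 0), (1, 1), (1, 1)]],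
  [[(-2, 0), (0, 0), (1, 1), (1, 1)], [(0, 0), (0, 0), (0, 0), (0, 0)], [(1, 1), (0, 0), (1, -1), (1, -1)], [(1, 1), (0, 0), (1, -1), (1, -1)]],
  [[(-2, 0), (0, 0), (1, 1), (1, -1)], [(0, 0), (0, 0), (0, 0), (0, 0)], [(1, 1), (0, 0), (1, -1), (-2, 0)], [(1, -1), (0, 0), (-2, 0), (1, 1)]],
  [[(-2, 0), (0, 0), (1, -1), (1, 1)], [(0, 0), (0, 0), (0, 0), (0, 0)], [(1, -1), (0, 0), (1, 1), (-2, 0)], [(1, 1), (0, 0), (-2, 0), (1, -1)]],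
  [[(0, 0), (0, 0), (0, 0), (0, 0)], [(0, 0), (0, 0), (0, 0), (0, 0)], [(0, 0), (0, 0), (0, 0), (0, 0)], [(0, 0), (0, 0), (0, 0), (6, 0)]],
  [[(1, 1), (0, 0), (1, 1), (1, -1)], [(0, 0), (0, 0), (0, 0), (0, 0)], [(1, 1), (0, 0), (1, 1), (1, -1)], [(1, -1), (0, 0), (1, -1), (-2, 0)]],
  [[(1, -1), (0, 0), (1, -1), (1, 1)], [(0, 0), (0, 0), (0, 0), (0, 0)], [(1, -1), (0, 0), (1, -1), (1, 1)], [(1, 1), (0, 0), (1, 1), (-2, 0)]],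
  [[(0, 0), (0, 0), (0, 0), (0, 0)], [(0, 0), (0, 0), (0, 0), (0, 0)], [(0, 0), (0, 0), (6, 0), (0, 0)], [(0, 0), (0, 0), (0, 0), (0, 0)]],
  [[(1, -1), (0, 0), (1, 1), (1, -1)], [(0, 0), (0, 0), (0, 0), (0, 0)], [(1, 1), (0, 0), (-2, 0), (1, 1)], [(1, -1), (0, 0), (1, 1), (1, -1)]],
  [[(1, 1), (0, 0), (1, -1), (1, 1)], [(0, 0), (0, 0), (0, 0), (0, 0)], [(1, -1), (0, 0), (-2, 0), (1, -1)], [(1, 1), (0, 0), (1, -1), (1, 1)]],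
  [[(0, 0), (0, 0), (0, 0), (0, 0)], [(0, 0), (-2, 0), (-2, 0), (2, 0)], [(0, 0), (-2, 0), (-2, 0), (2, 0)], [(0, 0), (2, 0), (2, 0), (-2, 0)]],
  [[(-2, 0), (2, 0), (0, 0), (2, 0)], [(2, 0), (-2, 0), (0, 0), (-2, 0)], [(0, 0), (0, 0), (0, 0), (0, 0)], [(2, 0), (-2, 0), (0, 0), (-2, 0)]],
  [[(-2, 0), (-2, 0), (2, 0), (0, 0)], [(-2, 0), (-2, 0), (2, 0), (0, 0)], [(2, 0), (2, 0), (-2, 0), (0, 0)], [(0, 0), (0, 0), (0, 0), (0, 0)]],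
  [[(0, 0), (0, 0), (0, 0), (0, 0)], [(0, 0), (-2, 0), (1, 1), (-1, 1)], [(0, 0), (1, 1), (1, -1), (2, 0)], [(0, 0), (-1, 1), (2, 0), (1, 1)]],
  [[(1, -1), (-1, -1), (0, 0), (-1, -1)], [(-1, -1), (-2, 0), (0, 0), (-2, 0)], [(0, 0), (0, 0), (0, 0), (0, 0)], [(-1, -1), (-2, 0), (0, 0), (-2, 0)]],
  [[(1, 1), (1, -1), (-1, 1), (0, 0)], [(1, -1), (-2, 0), (2, 0), (0, 0)], [(-1, 1), (2, 0), (-2, 0), (0, 0)], [(0, 0), (0, 0), (0, 0), (0, 0)]],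
  [[(0, 0), (0, 0), (0, 0), (0, 0)], [(0, 0), (-2, 0), (1, -1), (-1, -1)], [(0, 0), (1, -1), (1, 1), (2, 0)], [(0, 0), (-1, -1), (2, 0), (1, -1)]],
  [[(1, -1), (1, 1), (-1, -1), (0, 0)], [(1, 1), (-2, 0), (2, 0), (0, 0)], [(-1, -1), (2, 0), (-2, 0), (0, 0)], [(0, 0), (0, 0), (0, 0), (0, 0)]],
  [[(1, 1), (-1, 1), (0, 0), (-1, 1)], [(-1, 1), (-2, 0), (0, 0), (-2, 0)], [(0, 0), (0, 0), (0, 0), (0, 0)], [(-1, 1), (-2, 0), (0, 0), (-2, 0)]],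
  [[(0, 0), (0, 0), (0, 0), (0, 0)], [(0, 0), (-2, 0), (1, -1), (-1, 1)], [(0, 0), (1, -1), (1, 1), (-1, -1)], [(0, 0), (-1, 1), (-1, -1), (1, 1)]],
  [[(1, 1), (-1, 1), (0, 0), (-1, -1)], [(-1, 1), (-2, 0), (0, 0), (1, -1)], [(0, 0), (0, 0), (0, 0), (0, 0)], [(-1, -1), (1, -1), (0, 0), (1, 1)]],
  [[(1, 1), (1, -1), (-1, -1), (0, 0)], [(1, -1), (-2, 0), (-1, 1), (0, 0)], [(-1, -1), (-1, 1), (1, 1), (0, 0)], [(0, 0), (0, 0), (0, 0), (0, 0)]],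
  [[(0, 0), (0, 0), (0, 0), (0, 0)], [(0, 0), (-2, 0), (1, 1), (-1, -1)], [(0, 0), (1, 1), (1, -1), (-1, 1)], [(0, 0), (-1, -1), (-1, 1), (1, -1)]],
  [[(1, -1), (1, 1), (-1, 1), (0, 0)], [(1, 1), (-2, 0), (-1, -1), (0, 0)], [(-1, 1), (-1, -1), (1, -1), (0, 0)], [(0, 0), (0, 0), (0, 0), (0, 0)]],
  [[(1, -1), (-1, -1), (0, 0), (-1, 1)], [(-1, -1), (-2, 0), (0, 0), (1, 1)], [(0, 0), (0, 0), (0, 0), (0, 0)], [(-1, 1), (1, 1), (0, 0), (1, -1)]],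
  [[(0, 0), (0, 0), (0, 0), (0, 0)], [(0, 0), (-2, 0), (-2, 0), (-1, -1)], [(0, 0), (-2, 0), (-2, 0), (-1, -1)], [(0, 0), (-1, -1), (-1, -1), (1, -1)]],
  [[(-2, 0), (2, 0), (0, 0), (-1, 1)], [(2, 0), (-2, 0), (0, 0), (1, -1)], [(0, 0), (0, 0), (0, 0), (0, 0)], [(-1, 1), (1, -1), (0, 0), (1, 1)]],
  [[(1, -1), (1, 1), (2, 0), (0, 0)], [(1, 1), (-2, 0), (-1, 1), (0, 0)], [(2, 0), (-1, 1), (1, 1), (0, 0)], [(0, 0), (0, 0), (0, 0), (0, 0)]],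
  [[(0, 0), (0, 0), (0, 0), (0, 0)], [(0, 0), (-2, 0), (-2, 0), (-1, 1)], [(0, 0), (-2, 0), (-2, 0), (-1, 1)], [(0, 0), (-1, 1), (-1, 1), (1, 1)]],
  [[(1, 1), (1, -1), (2, 0), (0, 0)], [(1, -1), (-2, 0), (-1, -1), (0, 0)], [(2, 0), (-1, -1), (1, -1), (0, 0)], [(0, 0), (0, 0), (0, 0), (0, 0)]],
  [[(-2, 0), (2, 0), (0, 0), (-1, -1)], [(2, 0), (-2, 0), (0, 0), (1, 1)], [(0, 0), (0, 0), (0, 0), (0, 0)], [(-1, -1), (1, 1), (0, 0), (1, -1)]],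
  [[(0, 0), (0, 0), (0, 0), (0, 0)], [(0, 0), (-2, 0), (1, 1), (2, 0)], [(0, 0), (1, 1), (1, -1), (-1, -1)], [(0, 0), (2, 0), (-1, -1), (-2, 0)]],
  [[(1, -1), (-1, -1), (0, 0), (2, 0)], [(-1, -1), (-2, 0), (0, 0), (1, -1)], [(0, 0), (0, 0), (0, 0), (0, 0)], [(2, 0), (1, -1), (0, 0), (1, 1)]],
  [[(-2, 0), (-2, 0), (-1, 1), (0, 0)], [(-2, 0), (-2, 0), (-1, 1), (0, 0)], [(-1, 1), (-1, 1), (1, 1), (0, 0)], [(0, 0), (0, 0), (0, 0), (0, 0)]],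
  [[(0, 0), (0, 0), (0, 0), (0, 0)], [(0, 0), (-2, 0), (1, -1), (2, 0)], [(0, 0), (1, -1), (1, 1), (-1, 1)], [(0, 0), (2, 0), (-1, 1), (-2, 0)]],
  [[(-2, 0), (-2, 0), (-1, -1), (0, 0)], [(-2, 0), (-2, 0), (-1, -1), (0, 0)], [(-1, -1), (-1, -1), (1, -1), (0, 0)], [(0, 0), (0, 0), (0, 0), (0, 0)]],
  [[(1, 1), (-1, 1), (0, 0), (2, 0)], [(-1, 1), (-2, 0), (0, 0), (1, 1)], [(0, 0), (0, 0), (0, 0), (0, 0)], [(2, 0), (1, 1), (0, 0), (1, -1)]]]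

def Ml_y : List (List (ℤ × ℤ)) := [[(0, 0), (0, 0), (0, 2), (0, 0)], [(0, 0), (0, 2), (0, 0), (0, 0)], [(0, 0), (0, 0), (0, 0), (0, 2)], [(0, 2), (0, 0), (0, 0), (0, 0)]]

def Ml_s : List (List (ℤ × ℤ)) := [[(0, 0), (0, -2), (0, 0), (0, 0)], [(0, -2), (0, 0), (0, 0), (0, 0)], [(0, 0), (0, 0), (0, -2), (0, 0)], [(0, 0), (0, 0), (0, 0), (0, 2)]]

def Ml_j : List (List (ℤ × ℤ)) := [[(2, 0), (0, 0), (2, 0), (2, 0)], [(0, 0), (0, 2), (0, 0), (0, 0)], [(2, 0), (0, 0), (-1, 1), (-1, -1)], [(2, 0), (0, 0), (-1, -1), (-1, 1)]]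

end Cfsg.Agent.H923.Ten.U42
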